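import Mathlib
import Cfsg.Prelude.Def_LieExceptional
import Cfsg.Agent.Lib.Frobenius.Divisibility

/-!
# The regular normal subgroup of a point stabiliser in a Zassenhaus group with large two-point stabilisers

The two-point stabiliser acts semiregularly on the `n - 1` nontrivial elements of the regular
normal subgroup `F`, so if `n - 1 ≤ 2d` a proper nonempty invariant set of them has `d` elements and
`n = 2d + 1`; then no prime divides both `n` and `d + 1`, which forces exponent `p` and commutativity.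
-/

set_option autoImplicit false

namespace CfsgLib.Perm.ZGroup

open MulAction

variable {G Ω : Type*} [Group G] [Finite G] [MulAction G Ω] [Fintype Ω]

theorem kernel_elementary_abelian (hZ : Cfsg.IsZassenhausGroup G Ω) {a b : Ω} (hab : a ≠ b)
    (hd : Fintype.card Ω - 2 ≤ 2 * Nat.card ↥(stabilizer G a ⊓ stabilizer G b))
    (F : Subgroup G) (hFle : F ≤ stabilizer G a)
    (hFn : (F.subgroupOf (stabilizer G a)).Normal)
    (hreg : ∀ y z : Ω, y ≠ a → z ≠ a → ∃! u : F, (u : G) • y = z) :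
    IsMulCommutative F ∧ ∃ p f : ℕ, p.Prime ∧ (∀ u ∈ F, u ^ p = 1) ∧
      Fintype.card Ω = p ^ f + 1 := by
  classical
  obtain ⟨hfaith, -, hfree, ⟨g₀, hg₀, a₀, b₀, hab₀, hga₀, hgb₀⟩, -⟩ := hZ
  haveI := hfaith
  set H := stabilizer G a ⊓ stabilizer G b with hH
  have hcard3 : 3 ≤ Fintype.card Ω := by
    obtain ⟨w, hw⟩ : ∃ w : Ω, g₀ • w ≠ w := by
      by_contra hall
      push Not at hall
      exact hg₀ (eq_of_smul_eq_smul (α := Ω) fun w => by rw [hall w, one_smul])
    have hwa : w ≠ a₀ := fun h => hw (h ▸ hga₀)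
    have hwb : w ≠ b₀ := fun h => hw (h ▸ hgb₀)
    calc 3 = ({a₀, b₀, w} : Finset Ω).card :=
          (Finset.card_eq_three.mpr ⟨a₀, b₀, w, hab₀, hwa.symm, hwb.symm, rfl⟩).symm
      _ ≤ _ := Finset.card_le_univ _
  have hne : ∀ u : F, (u : G) • b ≠ a := fun u e =>
    hab.symm (MulAction.injective (u : G) (e.trans (hFle u.2).symm))
  have hFcard : Nat.card F = Fintype.card Ω - 1 := by
    have e : F ≃ {y : Ω // y ≠ a} := Equiv.ofBijective (fun u => ⟨(u : G) • b, hne u⟩)
      ⟨fun u v h => (hreg b _ hab.symm (hne u)).unique rfl (congrArg Subtype.val h).symm,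
        fun y => by
          obtain ⟨u, hu, -⟩ := hreg b y hab.symm y.2
          exact ⟨u, Subtype.ext hu⟩⟩
    rw [Nat.card_congr e, Nat.card_eq_fintype_card, Fintype.card_subtype_compl,
      Fintype.card_subtype_eq]
  set n := Nat.card F with hn
  set d := Nat.card H with hdd
  have hconj : ∀ h ∈ H, ∀ u ∈ F, h * u * h⁻¹ ∈ F := fun h hh u hu =>
    hFn.conj_mem ⟨u, hFle hu⟩ hu ⟨h, hh.1⟩
  let cj : H → F → F := fun h u => ⟨h * u * (h : G)⁻¹, hconj h h.2 u u.2⟩
  have hfix : ∀ (h : H) (u : F), u ≠ 1 → cj h u = u → h = 1 := by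
    intro h u hu he
    apply Subtype.ext
    refine hfree h a b ((u : G) • b) hab (fun e => hu ?_) (hne u).symm h.2.1 h.2.2 ?_
    · exact (hreg b b hab.symm hab.symm).unique e.symm (one_smul G b)
    · have he' : (h : G) * u * (h : G)⁻¹ = u := congrArg Subtype.val he
      rw [← mul_smul, mul_inv_eq_iff_eq_mul.mp he', mul_smul, h.2.2]
  let orb : F → Set F := fun u => Set.range fun h => cj h u
  have horb : ∀ u : F, u ≠ 1 → (orb u).ncard = d := by
    intro u hu
    have hinj : Function.Injective fun h => cj h u := by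
      intro h k e
      have e' : (h : G) * u * (h : G)⁻¹ = k * u * (k : G)⁻¹ := congrArg Subtype.val e
      have h1 : k⁻¹ * h = 1 := hfix _ u hu (Subtype.ext (by
        show ((k⁻¹ * h : H) : G) * u * ((k⁻¹ * h : H) : G)⁻¹ = u
        rw [Subgroup.coe_mul, Subgroup.coe_inv]
        calc (k : G)⁻¹ * h * u * ((k : G)⁻¹ * h)⁻¹ = (k : G)⁻¹ * (h * u * (h : G)⁻¹) * k := by group
          _ = u := by rw [e']; group))
      exact (inv_mul_eq_one.mp h1).symm
    rw [← Nat.card_coe_set_eq, Nat.card_range_of_injective hinj]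
  have hd0 : 0 < d := Nat.card_pos
  -- a proper invariant set of nontrivial elements
  have key : ∀ B : Set F, B.Nonempty → (1 : F) ∉ B → (∀ h, ∀ u ∈ B, cj h u ∈ B) →
      (∃ w : F, w ≠ 1 ∧ w ∉ B) → B.ncard = d ∧ n = 2 * d + 1 := by
    rintro B ⟨u, hu⟩ h1 hinv ⟨w, hw1, hw⟩
    have hu1 : u ≠ 1 := fun h => h1 (h ▸ hu)
    have hsub : orb u ⊆ B := by
      rintro _ ⟨h, rfl⟩
      exact hinv h u hu
    have hdis : Disjoint B (orb w) := by
      rw [Set.disjoint_left]
      rintro _ hx ⟨h, rfl⟩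
      refine hw ?_
      have h2 := hinv h⁻¹ _ hx
      rwa [show cj h⁻¹ (cj h w) = w from Subtype.ext (by
        show ((h⁻¹ : H) : G) * ((h : G) * w * (h : G)⁻¹) * ((h⁻¹ : H) : G)⁻¹ = w
        rw [Subgroup.coe_inv]; group)] at h2
    have hBw : B ∪ orb w ⊆ {1}ᶜ := by
      rintro x (hx | ⟨h, rfl⟩) e
      · exact h1 ((show x = 1 from e) ▸ hx)
      · exact hw1 (Subtype.ext (conj_eq_one_iff.mp (congrArg Subtype.val (show cj h w = 1 from e))))
    have h3 := Set.ncard_le_ncard hBw (Set.toFinite _)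
    rw [Set.ncard_union_eq hdis, horb w hw1, Set.ncard_compl, Set.ncard_singleton, ← hn] at h3
    have h4 : d ≤ B.ncard := horb u hu1 ▸ Set.ncard_le_ncard hsub (Set.toFinite _)
    omega
  obtain ⟨p, hp, hpn⟩ := Nat.exists_prime_and_dvd (show n ≠ 1 by omega)
  haveI : Fact p.Prime := ⟨hp⟩
  have hclash : ∀ B : Set F, B.ncard = d → n = 2 * d + 1 → p ∣ B.ncard + 1 → False := by
    intro B hB hn' hpB
    rw [hB] at hpB
    have h2 : p ∣ 2 * (d + 1) := dvd_mul_of_dvd_right hpB 2
    rw [show 2 * (d + 1) = n + 1 by omega] at h2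
    exact hp.one_lt.ne' (Nat.dvd_one.mp ((Nat.dvd_add_right hpn).mp h2))
  have hexp : ∀ u : F, u ^ p = 1 := by
    by_contra hne'
    push Not at hne'
    obtain ⟨w, hw⟩ := hne'
    obtain ⟨u, hu⟩ := exists_prime_orderOf_dvd_card' (G := F) p hpn
    let B : Set F := {x | x ^ p = 1} \ {1}
    obtain ⟨hB, hn'⟩ := key B ⟨u, show u ^ p = 1 from hu ▸ pow_orderOf_eq_one u, fun h => by
        rw [show u = 1 from h, orderOf_one] at hu; exact hp.one_lt.ne hu⟩
      (fun h => h.2 rfl) (fun h x hx => ⟨Subtype.ext (by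
        show ((cj h x : F) : G) ^ p = 1
        show ((h : G) * x * (h : G)⁻¹) ^ p = 1
        rw [conj_pow, show (x : G) ^ p = 1 from congrArg Subtype.val hx.1, mul_one, mul_inv_cancel]),
        fun e => hx.2 (Subtype.ext (conj_eq_one_iff.mp
          (congrArg Subtype.val (show cj h x = 1 from e))))⟩)
      ⟨w, fun h => hw (by rw [h, one_pow]), fun h => hw h.1⟩
    refine hclash B hB hn' ?_
    rw [show B = {x : F | x ^ p = 1} \ {1} from rfl,
      Set.ncard_sdiff_singleton_add_one (show (1 : F) ∈ {x : F | x ^ p = 1} from one_pow p) (Set.toFinite _)]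
    exact (CfsgLib.Frobenius.Divisibility.dvd_card_pow_eq_one hpn).trans
      (dvd_of_eq (Nat.card_coe_set_eq {x : F | x ^ p = 1}))
  have hpg : IsPGroup p F := fun u => ⟨1, by rw [pow_one]; exact hexp u⟩
  haveI : Nontrivial F := Finite.one_lt_card_iff_nontrivial.mp (by omega)
  obtain ⟨f, hf⟩ := IsPGroup.iff_card.mp hpg
  refine ⟨?_, p, f, hp, fun u hu => congrArg Subtype.val (hexp ⟨u, hu⟩), ?_⟩
  · by_contra hnc
    have hw : ∃ w : F, w ∉ Subgroup.center F := by
      by_contra hall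
      push Not at hall
      exact hnc ⟨⟨fun x y => (Subgroup.mem_center_iff.mp (hall y) x)⟩⟩
    obtain ⟨w, hw⟩ := hw
    have hZ : Nontrivial (Subgroup.center F) := hpg.center_nontrivial
    obtain ⟨z, hz⟩ := exists_ne (1 : Subgroup.center F)
    let B : Set F := (Subgroup.center F : Set F) \ {1}
    obtain ⟨hB, hn'⟩ := key B ⟨z, z.2, fun h => hz (Subtype.ext h)⟩ (fun h => h.2 rfl)
      (fun h x hx => ⟨Subgroup.mem_center_iff.mpr fun y => Subtype.ext (by
        show (y : G) * ((h : G) * x * (h : G)⁻¹) = (h : G) * x * (h : G)⁻¹ * y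
        have h1 : (h⁻¹ : G) * y * h * x = x * ((h⁻¹ : G) * y * h) := by
          have := Subgroup.mem_center_iff.mp hx.1 ⟨(h : G)⁻¹ * y * h, by
            simpa using hconj _ (inv_mem h.2) y y.2⟩
          exact congrArg Subtype.val this
        calc (y : G) * ((h : G) * x * (h : G)⁻¹) = h * ((h⁻¹ : G) * y * h * x) * (h : G)⁻¹ := by group
          _ = _ := by rw [h1]; group),
        fun e => hx.2 (Subtype.ext (conj_eq_one_iff.mp
          (congrArg Subtype.val (show cj h x = 1 from e))))⟩)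
      ⟨w, fun h => hw (h ▸ one_mem _), fun h => hw h.1⟩
    refine hclash B hB hn' ?_
    rw [show B = (Subgroup.center F : Set F) \ {1} from rfl, Set.ncard_sdiff_singleton_add_one
      (show (1 : F) ∈ (Subgroup.center F : Set F) from one_mem _) (Set.toFinite _), ← Nat.card_coe_set_eq]
    obtain ⟨k, hk⟩ := IsPGroup.iff_card.mp (hpg.to_subgroup (Subgroup.center F))
    have hk0 : k ≠ 0 := fun h => by
      rw [h, pow_zero] at hk
      exact absurd (Finite.one_lt_card_iff_nontrivial.mpr hZ) (by omega)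
    exact (dvd_pow_self p hk0).trans (dvd_of_eq hk.symm)
  · rw [← hn] at hf
    omega

end CfsgLib.Perm.ZGroup
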