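import Cfsg.Agent.Lib.Perm.ZGroup.Index
import Cfsg.Agent.Lib.Perm.ZGroup.Kernel
import Cfsg.Agent.Lib.Classical.Dickson.Subfield

/-!
# Recognition of `PSL(2, q)` as a Zassenhaus group

If the kernel is abelian and `2 d = n - 1` the kernel is the additive group of a field on which the
two-point stabiliser acts by the squares, and an exchanging involution acts as `x ↦ c / x`.
-/

set_option autoImplicit false

namespace CfsgLib.Perm.ZGroup

open MulAction

variable {G Ω : Type*} [Group G] [Finite G] [MulAction G Ω] [Fintype Ω] {a b : Ω}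

/-- An irreducible fixed-point-free cyclic group of automorphisms acts by multiplications on a
finite field. -/
theorem exists_field_of_irreducible {V H : Type*} [AddCommGroup V] [Finite V] [Group H] [IsCyclic H]
    {p f : ℕ} [Fact p.Prime] (hf0 : f ≠ 0) (hcard : Nat.card V = p ^ f) (hpV : ∀ x : V, p • x = 0)
    (act : H → V →+ V) (hone : ∀ x, act 1 x = x) (hmul : ∀ g h x, act (g * h) x = act g (act h x))
    (hirr : ∀ W : AddSubgroup V, (∀ h, ∀ x ∈ W, act h x ∈ W) → W = ⊥ ∨ W = ⊤)
    {ε : V} (hε0 : ε ≠ 0) :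
    ∃ (E : V ≃+ GaloisField p f) (χ : H →* GaloisField p f),
      E ε = 1 ∧ ∀ h v, E (act h v) = χ h * E v := by
  classical
  haveI : Module (ZMod p) V := AddCommGroup.zmodModule hpV
  let ρ : H →* Module.End (ZMod p) V :=
    { toFun := fun h => (act h).toZModLinearMap p
      map_one' := LinearMap.ext hone
      map_mul' := fun g h => LinearMap.ext (hmul g h) }
  have hρ : ∀ h v, ρ h v = act h v := fun _ _ => rfl
  obtain ⟨g₀, hg₀⟩ := IsCyclic.exists_generator (α := H)
  haveI : Finite H ∨ True := Or.inr trivial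
  set L := Algebra.adjoin (ZMod p) {ρ g₀} with hL
  haveI : Finite (Module.End (ZMod p) V) := Finite.of_injective _ DFunLike.coe_injective
  letI : CommRing L := Algebra.adjoinCommRingOfComm (ZMod p) (s := {ρ g₀}) (by
    intro y hy z hz
    rw [Set.mem_singleton_iff] at hy hz
    rw [hy, hz])
  have hρL : ∀ h : H, ρ h ∈ L := by
    intro h
    obtain ⟨m, rfl⟩ := Subgroup.mem_zpowers_iff.mp (hg₀ h)
    have h1 : ρ g₀ ^ (Monoid.exponent (Module.End (ZMod p) V)ˣ) = 1 := by
      have := congrArg Units.val (Monoid.pow_exponent_eq_one (ρ.toHomUnits g₀))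
      rwa [Units.val_pow_eq_pow_val] at this
    set N := Monoid.exponent (Module.End (ZMod p) V)ˣ with hN
    have hN0 : (N : ℤ) ≠ 0 := by
      exact_mod_cast Monoid.exponent_ne_zero_of_finite (G := (Module.End (ZMod p) V)ˣ)
    have h2 : ρ (g₀ ^ m) = ρ g₀ ^ (m % N).toNat := by
      have e : m = (m % N).toNat + N * (m / N) := by
        rw [Int.toNat_of_nonneg (Int.emod_nonneg _ hN0), Int.emod_add_mul_ediv]
      conv_lhs => rw [e, zpow_add, zpow_natCast, zpow_mul, zpow_natCast, map_mul, map_pow]
      rw [show ρ ((g₀ ^ N) ^ (m / N)) = 1 by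
        have h3 : ρ.toHomUnits ((g₀ ^ N) ^ (m / N)) = 1 := by
          rw [map_zpow, map_pow, Monoid.pow_exponent_eq_one, one_zpow]
        exact congrArg Units.val h3, mul_one]
    rw [h2]
    exact pow_mem (Algebra.self_mem_adjoin_singleton _ _) _
  have hcommρ : ∀ (y : L) (h : H) (x : V),
      (y : Module.End (ZMod p) V) (act h x) = act h ((y : Module.End (ZMod p) V) x) := by
    intro y h x
    exact congrArg (fun w : L => (w : Module.End (ZMod p) V) x) (mul_comm y ⟨ρ h, hρL h⟩)
  have hnz : ∀ y : L, ∀ x : V, x ≠ 0 → (y : Module.End (ZMod p) V) x = 0 → y = 0 := by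
    intro y x hx hyx
    rcases hirr (AddMonoidHom.ker (y : Module.End (ZMod p) V).toAddMonoidHom)
      (fun h v hv => by
        show (y : Module.End (ZMod p) V) (act h v) = 0
        rw [hcommρ, show (y : Module.End (ZMod p) V) v = 0 from hv, map_zero]) with h1 | h1
    · exact absurd ((AddSubgroup.eq_bot_iff_forall _).mp h1 x hyx) hx
    · refine Subtype.ext (LinearMap.ext fun v => ?_)
      exact (h1.ge (AddSubgroup.mem_top v) :)
  let ev : L →+ V :=
    { toFun := fun y => (y : Module.End (ZMod p) V) ε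
      map_zero' := rfl
      map_add' := fun _ _ => rfl }
  have hinj : Function.Injective ev := (injective_iff_map_eq_zero ev).mpr fun y hy => hnz y ε hε0 hy
  have hsurj : Function.Surjective ev := by
    rw [← AddMonoidHom.range_eq_top]
    refine (hirr ev.range fun h x hx => ?_).resolve_left fun hb => hε0 ?_
    · obtain ⟨y, rfl⟩ := hx
      exact ⟨⟨ρ h, hρL h⟩ * y, rfl⟩
    · exact (AddSubgroup.eq_bot_iff_forall _).mp hb ε ⟨1, rfl⟩
  let evE : L ≃+ V := AddEquiv.ofBijective ev ⟨hinj, hsurj⟩
  haveI : Finite L := Finite.of_injective ev hinj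
  haveI : Nontrivial L := ⟨1, 0, fun h => hε0 (congrArg ev h)⟩
  haveI : NoZeroDivisors L := ⟨fun {y z} hyz => by
    by_contra hne
    push Not at hne
    exact hne.1 (hnz y _ (fun h => hne.2 (hnz z ε hε0 h))
      (congrArg (fun w : L => (w : Module.End (ZMod p) V) ε) hyz))⟩
  haveI : IsDomain L := NoZeroDivisors.to_isDomain L
  letI : Fintype L := Fintype.ofFinite L
  letI : Field L := Fintype.fieldOfDomain L
  haveI : Fintype (GaloisField p f) := Fintype.ofFinite _
  have hcardL : Fintype.card L = Fintype.card (GaloisField p f) := by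
    rw [← Nat.card_eq_fintype_card, ← Nat.card_eq_fintype_card, GaloisField.card _ _ hf0,
      Nat.card_congr evE.toEquiv]
    exact hcard
  let ι : L ≃+* GaloisField p f := FiniteField.ringEquivOfCardEq hcardL
  let χ : H →* GaloisField p f :=
    { toFun := fun h => ι ⟨ρ h, hρL h⟩
      map_one' := by
        rw [show (⟨ρ 1, hρL 1⟩ : L) = 1 from Subtype.ext (map_one ρ), map_one]
      map_mul' := fun g h => by
        rw [show (⟨ρ (g * h), hρL (g * h)⟩ : L) = ⟨ρ g, hρL g⟩ * ⟨ρ h, hρL h⟩ from
          Subtype.ext (map_mul ρ g h), map_mul] }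
  refine ⟨evE.symm.trans ι.toAddEquiv, χ, ?_, fun h v => ?_⟩
  · show ι (evE.symm ε) = 1
    rw [show evE.symm ε = 1 from (AddEquiv.symm_apply_eq evE).mpr rfl, map_one]
  · show ι (evE.symm (act h v)) = ι ⟨ρ h, hρL h⟩ * ι (evE.symm v)
    rw [← map_mul]
    refine congrArg ι ((AddEquiv.symm_apply_eq evE).mpr ?_)
    show act h v = act h (evE (evE.symm v))
    rw [AddEquiv.apply_symm_apply]

namespace Setup

variable (S : Setup G Ω a b)
include S

/-- Conjugation as a linear representation on the kernel; the field it generates. -/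
theorem exists_field (hFab : IsMulCommutative S.F) (h2d : 2 * Nat.card S.H = Nat.card S.F - 1)
    {e₀ : S.F} (he₀ : e₀ ≠ 1) :
    ∃ (p f : ℕ) (K : Type) (_ : Field K) (_ : Fintype K) (E : S.F ≃ K) (χ : S.H →* K),
      p.Prime ∧ p ≠ 2 ∧ Fintype.card K = p ^ f ∧ Fintype.card Ω = p ^ f + 1 ∧
      (∀ u v : S.F, E (u * v) = E u + E v) ∧ E e₀ = 1 ∧
      (∀ (h : S.H) (u : S.F), E (S.cF h u) = χ h * E u) ∧ Function.Injective χ := by
  classical
  have hcF := S.card_F
  obtain ⟨-, p, f, hp, hexp, hcard⟩ := kernel_elementary_abelian S.hZ S.hab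
    (show Fintype.card Ω - 2 ≤ 2 * Nat.card S.H by omega) S.F S.hle S.hnorm S.hreg
  have hq : Nat.card S.F = p ^ f := by omega
  have hn2 := S.two_le_F
  have hf0 : f ≠ 0 := by
    rintro rfl
    rw [pow_zero] at hq
    omega
  have hp2 : p ≠ 2 := by
    rintro rfl
    have h2 : 2 ∣ 2 ^ f := dvd_pow_self 2 hf0
    omega
  haveI : Fact p.Prime := ⟨hp⟩
  letI : CommGroup S.F := S.commGroupF hFab
  obtain ⟨hcyc, -⟩ := S.inverted_cyclic hFab h2d
  haveI := hcyc
  have hinjF : ∀ (x : S.F), x ≠ 1 → Function.Injective fun h : S.H => S.cF h x := by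
    intro x hx g h (e : S.cF g x = S.cF h x)
    have e2 : S.cF (h⁻¹ * g) x = x := by
      rw [← S.cF_cF, e, S.cF_cF, inv_mul_cancel, S.cF_one]
    exact (inv_mul_eq_one.mp (Subtype.ext (S.eq_one_of_conj_eq (h⁻¹ * g).2 x.2
      (fun e3 => hx (Subtype.ext e3)) (congrArg Subtype.val e2)))).symm
  have hirr : ∀ W : AddSubgroup (Additive S.F),
      (∀ h, ∀ x ∈ W, MonoidHom.toAdditive (S.cF h) x ∈ W) → W = ⊥ ∨ W = ⊤ := by
    intro W hW
    by_contra hne
    push Not at hne
    have hWn : Nat.card W * 3 ≤ Nat.card S.F := by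
      have h1 := W.card_mul_index
      have h2 : W.index ∣ p ^ f := by
        rw [← hq]; exact W.index_dvd_card
      obtain ⟨j, -, hj⟩ := (Nat.dvd_prime_pow hp).mp h2
      have hj0 : j ≠ 0 := fun h => hne.2 (AddSubgroup.index_eq_one.mp (by rw [hj, h, pow_zero]))
      have h3 : 3 ≤ W.index := by
        rw [hj]
        calc 3 ≤ p := by have := hp.two_le; omega
          _ ≤ _ := Nat.le_self_pow hj0 p
      rw [show Nat.card S.F = Nat.card W * W.index from h1.symm]
      exact Nat.mul_le_mul_left _ h3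
    obtain ⟨x, hx, hx0⟩ : ∃ x ∈ W, x ≠ 0 := by
      by_contra h
      push Not at h
      exact hne.1 ((AddSubgroup.eq_bot_iff_forall _).mpr h)
    have hx1 : Additive.toMul x ≠ 1 := fun e => hx0 (Additive.toMul.injective e)
    have hinj : Function.Injective fun h : S.H => (⟨_, hW h x hx⟩ : W) := fun g h e =>
      hinjF _ hx1 (congrArg (fun w : W => Additive.toMul (w : Additive S.F)) e)
    have h4 : Nat.card S.H < Nat.card W := by
      refine lt_of_le_of_ne (Nat.card_le_card_of_injective _ hinj) fun e => ?_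
      obtain ⟨h, hh⟩ := ((Nat.bijective_iff_injective_and_card _).mpr ⟨hinj, e⟩).2 0
      refine hx1 ?_
      have h5 : S.cF h (Additive.toMul x) = 1 :=
        congrArg (fun w : W => Additive.toMul (w : Additive S.F)) hh
      have h6 := congrArg (S.cF h⁻¹) h5
      rwa [S.cF_cF, inv_mul_cancel, S.cF_one, map_one] at h6
    omega
  obtain ⟨E, χ, hE1, hχ⟩ := exists_field_of_irreducible (V := Additive S.F) hf0 hq
    (fun x => by
      apply Additive.toMul.injective
      rw [toMul_nsmul, toMul_zero]
      exact Subtype.ext (by rw [SubmonoidClass.coe_pow]; exact hexp _ (Additive.toMul x).2))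
    (fun h => MonoidHom.toAdditive (S.cF h))
    (fun x => Additive.toMul.injective (S.cF_one (Additive.toMul x)))
    (fun g h x => Additive.toMul.injective (S.cF_cF g h (Additive.toMul x)).symm)
    hirr (ε := Additive.ofMul e₀) (fun h => he₀ (congrArg Additive.toMul h))
  haveI : Fintype (GaloisField p f) := Fintype.ofFinite _
  refine ⟨p, f, GaloisField p f, inferInstance, inferInstance,
    Additive.ofMul.trans E.toEquiv, χ, hp, hp2, ?_, hcard, ?_, hE1, fun h u => hχ h _, ?_⟩
  · rw [← Nat.card_eq_fintype_card, GaloisField.card _ _ hf0]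
  · exact fun u v => map_add E (Additive.ofMul u) (Additive.ofMul v)
  · intro g h e
    refine hinjF e₀ he₀ ?_
    apply Additive.ofMul.injective
    apply E.injective
    exact (hχ g _).trans ((congrArg (· * _) e).trans (hχ h _).symm)

section Coordinates

variable {K : Type} [Field K] (E : S.F ≃ K)

/-- The point with the given coordinate. -/
def pt (x : K) : Ω := (E.symm x : G) • b

theorem pt_ne (x : K) : S.pt E x ≠ a := S.F_smul_ne _ (E.symm x).2 S.hab.symm

theorem pt_injective : Function.Injective (S.pt E) := fun _ _ h =>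
  E.symm.injective (Subtype.ext (S.F_eq_of_smul (E.symm _).2 (E.symm _).2 h))

theorem exists_pt {y : Ω} (hy : y ≠ a) : ∃ x, S.pt E x = y := by
  obtain ⟨u, hu, e⟩ := S.F_exists hy
  exact ⟨E ⟨u, hu⟩, by rw [pt, E.symm_apply_apply]; exact e⟩

variable (hE : ∀ u v : S.F, E (u * v) = E u + E v)
include hE

theorem E_one : E 1 = 0 := by
  have := hE 1 1
  rwa [one_mul, left_eq_add] at this

theorem pt_zero : S.pt E 0 = b := by
  rw [pt, ← S.E_one E hE, E.symm_apply_apply, Subgroup.coe_one, one_smul]

theorem F_smul_pt (u : S.F) (x : K) : (u : G) • S.pt E x = S.pt E (x + E u) := by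
  rw [pt, pt, ← mul_smul, ← Subgroup.coe_mul]
  congr 1
  refine congrArg Subtype.val (E.injective ?_)
  rw [hE, E.apply_symm_apply, E.apply_symm_apply, add_comm]

end Coordinates

end Setup

open CfsgLib.Classical.Dickson OnePoint in
/-- The recognition theorem. -/
theorem psl_of_half (S : Setup G Ω a b) (hFab : IsMulCommutative S.F)
    (h2d : 2 * Nat.card S.H = Nat.card S.F - 1) :
    ∃ (p f : ℕ) (K : Type) (_ : Field K) (_ : Fintype K), p.Prime ∧ p ≠ 2 ∧
      Fintype.card K = p ^ f ∧ Fintype.card Ω = p ^ f + 1 ∧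
      Nonempty (G ≃* Matrix.ProjectiveSpecialLinearGroup (Fin 2) K) := by
  classical
  haveI := S.hZ.1
  have hcF := S.card_F
  obtain ⟨hcyc, hinvert⟩ := S.inverted_cyclic hFab h2d
  obtain ⟨t, ht, hta, htb⟩ := S.exists_involution
  -- the unit point
  obtain ⟨e₀, he₀, he₀fix⟩ : ∃ e₀ : S.F, e₀ ≠ 1 ∧
      (Even (Nat.card S.H) → t • ((e₀ : G) • b) = (e₀ : G) • b) := by
    obtain ⟨u₁, hu₁, hu₁1⟩ : ∃ u ∈ S.F, u ≠ 1 := by
      by_contra h
      push Not at h
      exact S.F_ne_bot ((Subgroup.eq_bot_iff_forall _).mpr h)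
    by_cases hpar : Even (Nat.card S.H)
    · have hfix := (swap_of_eq S.hZ S.hab (show Even (Nat.card S.H) from hpar)
        (show Fintype.card Ω - 2 = 2 * Nat.card S.H by omega) hta htb).2
      obtain ⟨⟨e, he⟩⟩ : Nonempty (fixedBy Ω t) := (Nat.card_pos_iff.mp (by omega)).1
      have hea : e ≠ a := fun h => S.hab (by rw [← hta]; exact (h ▸ he : t • a = a).symm)
      obtain ⟨u, hu, hue⟩ := S.F_exists hea
      refine ⟨⟨u, hu⟩, fun h => ?_, fun _ => by rw [hue]; exact he⟩
      have h' : u = 1 := congrArg Subtype.val h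
      rw [h', one_smul] at hue
      exact S.hab (htb.symm.trans (hue ▸ he : t • b = b))
    · exact ⟨⟨u₁, hu₁⟩, fun h => hu₁1 (congrArg Subtype.val h), fun h => absurd h hpar⟩
  obtain ⟨p, f, K, hK, hKf, E, χ, hp, hp2, hKc, hΩc, hE, hE1, hχ, hχinj⟩ :=
    S.exists_field hFab h2d he₀
  refine ⟨p, f, K, hK, hKf, hp, hp2, hKc, hΩc, ?_⟩
  set d := Nat.card S.H with hd
  have hq : Fintype.card K = 2 * d + 1 := by
    have := S.two_le_F
    omega
  haveI : Fact p.Prime := ⟨hp⟩
  haveI : CharP K p := charP_of_card_eq_prime_pow (f := f) hKc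
  have h2K : (2 : K) ≠ 0 := by
    intro h0
    have h1 : ((2 : ℕ) : K) = 0 := by exact_mod_cast h0
    rw [CharP.cast_eq_zero_iff K p] at h1
    exact hp2 ((Nat.prime_dvd_prime_iff_eq hp Nat.prime_two).mp h1)
  have hringchar : ringChar K ≠ 2 := by rw [ringChar.eq K p]; exact hp2
  -- the squares
  have hχd : ∀ h, χ h ^ d = 1 := fun h => by rw [← map_pow, pow_card_eq_one', map_one]
  have hχ0 : ∀ h, χ h ≠ 0 := fun h h0 => by
    have := hχd h
    rw [h0, zero_pow (Nat.card_pos (α := S.H)).ne'] at this
    exact zero_ne_one this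
  have hhalf : Fintype.card K / 2 = d := by omega
  have hsq : ∀ x : K, x ≠ 0 → (IsSquare x ↔ x ^ d = 1) := fun x hx => by
    rw [FiniteField.isSquare_iff hringchar hx, hhalf]
  have hrange : ∀ x : K, x ≠ 0 → IsSquare x → ∃ h, χ h = x := by
    intro x hx hxs
    have hle : (Polynomial.nthRoots d (1 : K)).toFinset.card ≤ d :=
      (Multiset.toFinset_card_le _).trans (Polynomial.card_nthRoots d 1)
    haveI := Fintype.ofFinite S.H
    have himg : Finset.univ.image (fun h => χ h) ⊆ (Polynomial.nthRoots d (1 : K)).toFinset := by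
      intro y hy
      obtain ⟨h, -, rfl⟩ := Finset.mem_image.mp hy
      rw [Multiset.mem_toFinset, Polynomial.mem_nthRoots Nat.card_pos]
      exact hχd h
    have heq := Finset.eq_of_subset_of_card_le himg (hle.trans (by
      rw [Finset.card_image_of_injective _ hχinj, Finset.card_univ, ← Nat.card_eq_fintype_card]))
    have : x ∈ Finset.univ.image (fun h => χ h) := by
      rw [heq, Multiset.mem_toFinset, Polynomial.mem_nthRoots Nat.card_pos]
      exact (hsq x hx).mp hxs
    obtain ⟨h, -, rfl⟩ := Finset.mem_image.mp this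
    exact ⟨h, rfl⟩
  have hχsq : ∀ h, IsSquare (χ h) := fun h => (hsq _ (hχ0 h)).mpr (hχd h)
  have hnsmul : ∀ x y : K, x ≠ 0 → y ≠ 0 → ¬ IsSquare x → ¬ IsSquare y → IsSquare (x * y) := by
    intro x y hx hy hxs hys
    have h1 := (FiniteField.pow_dichotomy hringchar hx).resolve_left (by rw [hhalf]; exact fun e => hxs ((hsq x hx).mpr e))
    have h2 := (FiniteField.pow_dichotomy hringchar hy).resolve_left (by rw [hhalf]; exact fun e => hys ((hsq y hy).mpr e))
    rw [hsq _ (mul_ne_zero hx hy), mul_pow, ← hhalf, h1, h2, neg_mul_neg, one_mul]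
  have hscal : ∀ (h : S.H) (x : K), (h : G) • S.pt E x = S.pt E (χ h * x) := by
    intro h x
    rw [Setup.pt, Setup.pt, S.conj_smul_b h.2, ← S.cF_coe]
    congr 2
    refine E.injective ?_
    rw [hχ, E.apply_symm_apply, E.apply_symm_apply]
  -- the exchanging involution
  have htt : ∀ y : Ω, t • t • y = y := fun y => by rw [← mul_smul, ht, one_smul]
  have hexφ : ∀ x : K, x ≠ 0 → ∃ y : K, y ≠ 0 ∧ t • S.pt E x = S.pt E y := by
    intro x hx
    have h1 : t • S.pt E x ≠ a := by
      intro e
      refine hx (S.pt_injective E ?_)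
      rw [S.pt_zero E hE, ← htt (S.pt E x), e, hta]
    obtain ⟨y, hy⟩ := S.exists_pt E h1
    refine ⟨y, fun h0 => S.pt_ne E x ?_, hy.symm⟩
    rw [← htt (S.pt E x), ← hy, h0, S.pt_zero E hE, htb]
  have hφ : ∀ (h : S.H) (x y : K), t • S.pt E x = S.pt E y →
      t • S.pt E (χ h * x) = S.pt E ((χ h)⁻¹ * y) := by
    intro h x y e
    have h1 : χ h⁻¹ = (χ h)⁻¹ := eq_inv_of_mul_eq_one_left (by rw [← map_mul, inv_mul_cancel, map_one])
    rw [← hscal, ← h1, ← hscal, ← e, ← mul_smul, ← mul_smul]
    congr 1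
    have h2 := hinvert t hta htb h h.2
    rw [Subgroup.coe_inv, ← h2]
    group
  obtain ⟨c, hc0, hc⟩ := hexφ 1 one_ne_zero
  have hsqform : ∀ x : K, x ≠ 0 → IsSquare x → t • S.pt E x = S.pt E (c / x) := by
    intro x hx hxs
    obtain ⟨h, rfl⟩ := hrange x hx hxs
    rw [← mul_one (χ h), hφ h 1 c hc, mul_one, inv_mul_eq_div]
  -- the swap is `x ↦ c / x`, with `-c` a square
  obtain ⟨hform, hnc⟩ : (∀ x : K, x ≠ 0 → t • S.pt E x = S.pt E (c / x)) ∧ IsSquare (-c) := by
    have hneg1 : IsSquare (-1 : K) ↔ Even d := by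
      rw [hsq _ (neg_ne_zero.mpr one_ne_zero)]
      constructor
      · intro h
        by_contra hodd
        rw [Nat.not_even_iff_odd] at hodd
        rw [hodd.neg_one_pow] at h
        exact h2K (by linear_combination -h)
      · exact fun h => h.neg_one_pow
    by_cases hpar : Even d
    · -- a fixed point, and the relation of the triangle
      have hc1 : c = 1 := by
        refine S.pt_injective E (hc.symm.trans ?_)
        have e1 : S.pt E 1 = (e₀ : G) • b := by
          rw [Setup.pt, ← hE1, E.symm_apply_apply]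
        rw [e1]
        exact he₀fix hpar
      subst hc1
      refine ⟨?_, hneg1.mpr hpar⟩
      obtain ⟨z, hz⟩ := hrange (-1) (neg_ne_zero.mpr one_ne_zero) (hneg1.mpr hpar)
      have hrφ : ∀ x : K, ((e₀ : G) * z) • S.pt E x = S.pt E (1 - x) := by
        intro x
        rw [mul_smul, hscal, hz, S.F_smul_pt E hE, hE1]
        congr 1
        ring
      have hrel : t * ((e₀ : G) * z) * t = (e₀ : G) * z * t * ((e₀ : G) * z) := by
        have ra : ((e₀ : G) * z) • a = a := by
          rw [mul_smul, (show (z : G) • a = a from z.2.1)]; exact S.hle e₀.2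
        have rb : ((e₀ : G) * z) • b = S.pt E 1 :=
          (congrArg _ (S.pt_zero E hE).symm).trans (by rw [hrφ, sub_zero])
        have rc : ((e₀ : G) * z) • S.pt E 1 = b := by rw [hrφ, sub_self, S.pt_zero E hE]
        have tc : t • S.pt E 1 = S.pt E 1 := by simpa using hc
        generalize (e₀ : G) * z = r at ra rb rc ⊢
        refine inv_mul_eq_one.mp (S.free S.hab (S.pt_ne E 1).symm
          (fun e => one_ne_zero (S.pt_injective E (e.symm.trans (S.pt_zero E hE).symm))) ?_ ?_ ?_) <;>
          rw [mul_smul, inv_smul_eq_iff]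
        · simp only [mul_smul, hta, htb, tc, ra, rb, rc]
        · simp only [mul_smul, hta, htb, tc, ra, rb, rc]
        · simp only [mul_smul, hta, htb, tc, ra, rb, rc]
      -- a square `x ≠ 1` with `1 - x` a non-square
      obtain ⟨x, hx0, hx1, hxs, hxn⟩ : ∃ x : K, x ≠ 0 ∧ x ≠ 1 ∧ IsSquare x ∧ ¬ IsSquare (1 - x) := by
        by_contra hall
        push Not at hall
        have hsq1 : ∀ y : K, IsSquare y → IsSquare (1 + y) := by
          intro y hy
          by_cases hy0 : y = 0
          · rw [hy0, add_zero]; exact IsSquare.one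
          by_cases hy1 : -y = 1
          · rw [← hy1, neg_add_cancel]; exact IsSquare.zero
          have h := hall (-y) (neg_ne_zero.mpr hy0) hy1 (by
            rw [neg_eq_neg_one_mul]; exact (hneg1.mpr hpar).mul hy)
          rwa [sub_neg_eq_add] at h
        let W : AddSubgroup K :=
          { carrier := {y | IsSquare y}
            zero_mem' := IsSquare.zero
            add_mem' := fun {u v} (hu : IsSquare u) (hv : IsSquare v) => by
              show IsSquare (u + v)
              by_cases hu0 : u = 0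
              · rwa [hu0, zero_add]
              have h := hu.mul (hsq1 (v / u) (hv.div hu))
              rwa [mul_add, mul_one, mul_div_cancel₀ _ hu0] at h
            neg_mem' := fun {u} (hu : IsSquare u) => by
              show IsSquare (-u)
              rw [neg_eq_neg_one_mul]; exact (hneg1.mpr hpar).mul hu }
        have hcardW : Nat.card W = d + 1 := by
          have e : ({y : K | IsSquare y} : Set K) = insert 0 (Set.range fun h => χ h) := by
            ext y
            constructor
            · intro hy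
              by_cases hy0 : y = 0
              · exact Or.inl hy0
              · exact Or.inr (hrange y hy0 hy)
            · rintro (rfl | ⟨h, rfl⟩)
              exacts [IsSquare.zero, hχsq h]
          show Nat.card ({y : K | IsSquare y} : Set K) = _
          rw [Nat.card_coe_set_eq, e, Set.ncard_insert_of_notMem (by rintro ⟨h, hh⟩; exact hχ0 h hh) (Set.toFinite _),
            ← Nat.card_coe_set_eq, Nat.card_range_of_injective hχinj, hd]
        have h1 := AddSubgroup.card_addSubgroup_dvd_card W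
        rw [hcardW, Nat.card_eq_fintype_card, hq] at h1
        have h2 : d + 1 ∣ 2 * (d + 1) := dvd_mul_left _ _
        have h3 := Nat.dvd_sub h2 h1
        rw [show 2 * (d + 1) - (2 * d + 1) = 1 by omega] at h3
        have := Nat.le_of_dvd one_pos h3
        have := S.one_lt_H
        omega
      have hy0 : 1 - x ≠ 0 := sub_ne_zero.mpr (Ne.symm hx1)
      have hy'0 : 1 - 1 / x ≠ 0 := by
        rw [sub_ne_zero, ne_eq, eq_comm, div_eq_one_iff_eq hx0, eq_comm]; exact hx1
      have hy's : ¬ IsSquare (1 - 1 / x) := by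
        intro h
        apply hxn
        have h2 := ((hneg1.mpr hpar).mul h).mul hxs
        rwa [show -1 * (1 - 1 / x) * x = 1 - x by field_simp; ring] at h2
      obtain ⟨w, hw0, hw⟩ := hexφ (1 - x) hy0
      have hns : ∀ y : K, y ≠ 0 → ¬ IsSquare y → t • S.pt E y = S.pt E ((1 - x) * w / y) := by
        intro y hy hys
        obtain ⟨h, hh⟩ := hrange (y / (1 - x)) (div_ne_zero hy hy0) (by
          have h1 := (hnsmul y (1 - x) hy hy0 hys hxn).div (IsSquare.mul_self (1 - x))
          rwa [mul_div_mul_right _ _ hy0] at h1)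
        have e := hφ h _ _ hw
        rw [hh, div_mul_cancel₀ _ hy0] at e
        rw [e]
        congr 1
        field_simp
      have hγ : (1 - x) * w = 1 := by
        have e : (t * ((e₀ : G) * z) * t) • S.pt E x = ((e₀ : G) * z * t * ((e₀ : G) * z)) • S.pt E x := by
          rw [hrel]
        rw [mul_smul (t * ((e₀ : G) * z)) t, mul_smul t ((e₀ : G) * z),
          mul_smul ((e₀ : G) * z * t) ((e₀ : G) * z), mul_smul ((e₀ : G) * z) t,
          hsqform x hx0 hxs, hrφ, hns _ hy'0 hy's, hrφ, hns _ hy0 hxn, hrφ] at e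
        have h1 := S.pt_injective E e
        generalize (1 - x) * w = γ at h1 ⊢
        have hx1' : x - 1 ≠ 0 := sub_ne_zero.mpr hx1
        field_simp at h1
        apply mul_left_cancel₀ (mul_ne_zero hx1' hy0)
        linear_combination h1
      intro y hy
      by_cases hys : IsSquare y
      · exact hsqform y hy hys
      · rw [hns y hy hys, hγ]
    · -- no fixed point
      rw [Nat.not_even_iff_odd] at hpar
      have hm1 : ¬ IsSquare (-1 : K) := fun h => Nat.not_even_iff_odd.mpr hpar (hneg1.mp h)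
      have hfix : ∀ x : K, x ≠ 0 → t • S.pt E x ≠ S.pt E x := by
        intro x hx e
        have hto : orderOf t = 2 := orderOf_eq_prime (by rw [pow_two, ht]) fun h1 => S.hab (by
          rw [← hta, h1, one_smul])
        have heven : Even (Fintype.card Ω) := by
          rw [← hcF, show Nat.card S.F = 2 * d + 1 by omega]; exact ⟨d + 1, by omega⟩
        rcases ((Cfsg.Agent.S0740.result S.hZ S.hab).2.1 t hto hta htb).2 heven with h0 | h0
        · haveI : Nonempty (fixedBy Ω t) := ⟨⟨S.pt E x, e⟩⟩
          exact Nat.card_pos.ne' h0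
        · haveI : Nontrivial (fixedBy Ω t) := Finite.one_lt_card_iff_nontrivial.mp (by omega)
          obtain ⟨⟨y₁, hy₁⟩, ⟨y₂, hy₂⟩, hy⟩ := exists_pair_ne (fixedBy Ω t)
          obtain ⟨g, hg1, hg2⟩ := S.pair (fun e => hy (Subtype.ext e)) S.hab
          have hmem : g * t * g⁻¹ ∈ S.H :=
            ⟨show (g * t * g⁻¹) • a = a by rw [← hg1, mul_smul, inv_smul_smul, mul_smul, hy₁],
             show (g * t * g⁻¹) • b = b by rw [← hg2, mul_smul, inv_smul_smul, mul_smul, hy₂]⟩
          have h2 : orderOf (MulAut.conj g t) ∣ d := Subgroup.orderOf_dvd_natCard S.H hmem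
          rw [MulEquiv.orderOf_eq, hto] at h2
          exact Nat.not_even_iff_odd.mpr hpar (even_iff_two_dvd.mpr h2)
      have hcn : ¬ IsSquare c := by
        intro hcs
        obtain ⟨h, hh⟩ := hrange c hc0 hcs
        have hk : χ (h ^ ((d + 1) / 2)) * χ (h ^ ((d + 1) / 2)) = c := by
          rw [← map_mul, ← pow_add, show (d + 1) / 2 + (d + 1) / 2 = d + 1 by
            obtain ⟨j, hj⟩ := hpar; omega, pow_succ, pow_card_eq_one', one_mul, hh]
        refine hfix _ (hχ0 (h ^ ((d + 1) / 2))) ?_
        rw [hsqform _ (hχ0 _) (hχsq _)]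
        congr 1
        rw [div_eq_iff (hχ0 _), hk]
      refine ⟨fun x hx => ?_, ?_⟩
      · by_cases hxs : IsSquare x
        · exact hsqform x hx hxs
        · have h1 : IsSquare (c / x) := by
            have h := (hnsmul c x hc0 hx hcn hxs).div (IsSquare.mul_self x)
            rwa [mul_div_mul_right _ _ hx] at h
          have e := hsqform (c / x) (div_ne_zero hc0 hx) h1
          rw [div_div_cancel₀ hc0] at e
          calc t • S.pt E x = t • (t • S.pt E (c / x)) := by rw [e]
            _ = _ := htt _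
      · rw [neg_eq_neg_one_mul]
        exact hnsmul _ c (neg_ne_zero.mpr one_ne_zero) hc0 hm1 hcn
  -- the projective line
  let φ₀ : OnePoint K → Ω := fun x => x.elim a (S.pt E)
  have hbij : Function.Bijective φ₀ := by
    constructor
    · intro x y hxy
      cases x <;> cases y
      · rfl
      · exact absurd hxy.symm (S.pt_ne E _)
      · exact absurd hxy (S.pt_ne E _)
      · exact congrArg _ (S.pt_injective E hxy)
    · intro y
      by_cases hy : y = a
      · exact ⟨∞, hy.symm⟩
      · obtain ⟨x, hx⟩ := S.exists_pt E hy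
        exact ⟨(x : OnePoint K), hx⟩
  let φ : OnePoint K ≃ Ω := Equiv.ofBijective φ₀ hbij
  let Ψ : Matrix.ProjGenLinGroup (Fin 2) K →* Equiv.Perm Ω :=
    φ.permCongrHom.toMonoidHom.comp (MulAction.toPermHom _ (OnePoint K))
  have hΨ : ∀ g x, Ψ g (φ x) = φ (g • x) := fun g x => by
    show φ (g • φ.symm (φ x)) = _
    rw [φ.symm_apply_apply]
  have hΨinj : Function.Injective Ψ :=
    φ.permCongrHom.injective.comp MulAction.toPerm_injective
  set P := (Matrix.SpecialLinearGroup.toPGL (n := Fin 2) (R := K)).range.map Ψ with hP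
  let θ : G →* Equiv.Perm Ω := MulAction.toPermHom G Ω
  have hθinj : Function.Injective θ := MulAction.toPerm_injective
  have hof : ∀ (g : G) (m : Matrix.SpecialLinearGroup (Fin 2) K),
      (∀ x, g • φ x = φ (Matrix.SpecialLinearGroup.toPGL m • x)) → θ g ∈ P := by
    intro g m h
    refine ⟨_, ⟨m, rfl⟩, Equiv.ext fun y => ?_⟩
    obtain ⟨x, rfl⟩ := φ.surjective y
    rw [hΨ, ← h]
    rfl
  have hFP : ∀ u ∈ S.F, θ u ∈ P := by
    intro u hu
    refine hof u ⟨!![1, E ⟨u, hu⟩; 0, 1], by simp [Matrix.det_fin_two]⟩ fun x => ?_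
    show _ = φ (Matrix.ProjGenLinGroup.mk (Matrix.SpecialLinearGroup.toGL _) • x)
    rw [mk_smul]
    cases x with
    | infty =>
      rw [smul_infty_eq_ite]
      simp only [Matrix.SpecialLinearGroup.toGL, MonoidHom.coe_mk, OneHom.coe_mk]
      simp
      exact S.hle hu
    | coe x =>
      rw [smul_some_eq_ite]
      simp only [Matrix.SpecialLinearGroup.toGL, MonoidHom.coe_mk, OneHom.coe_mk]
      simp
      exact S.F_smul_pt E hE ⟨u, hu⟩ x
  have hHP : ∀ h : S.H, θ h ∈ P := by
    intro h
    obtain ⟨r, hr⟩ := hχsq h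
    have hr0 : r ≠ 0 := fun e => hχ0 h (by rw [hr, e, mul_zero])
    refine hof h ⟨!![r, 0; 0, r⁻¹], by simp [Matrix.det_fin_two, hr0]⟩ fun x => ?_
    show _ = φ (Matrix.ProjGenLinGroup.mk (Matrix.SpecialLinearGroup.toGL _) • x)
    rw [mk_smul]
    cases x with
    | infty =>
      rw [smul_infty_eq_ite]
      simp only [Matrix.SpecialLinearGroup.toGL, MonoidHom.coe_mk, OneHom.coe_mk]
      simp
      exact h.2.1
    | coe x =>
      rw [smul_some_eq_ite]
      simp only [Matrix.SpecialLinearGroup.toGL, MonoidHom.coe_mk, OneHom.coe_mk]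
      simp [hr0]
      show (h : G) • S.pt E x = S.pt E (r * x * r)
      rw [hscal, hr]
      congr 1
      ring
  have htP : θ t ∈ P := by
    obtain ⟨r, hr⟩ := hnc
    have hr0 : r ≠ 0 := fun e => hc0 (by rw [← neg_neg c, hr, e, mul_zero, neg_zero])
    refine hof t ⟨!![0, c * r⁻¹; r⁻¹, 0], ?_⟩ fun x => ?_
    · rw [Matrix.det_fin_two]
      simp
      field_simp
      linear_combination hr
    show _ = φ (Matrix.ProjGenLinGroup.mk (Matrix.SpecialLinearGroup.toGL _) • x)
    rw [mk_smul]
    cases x with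
    | infty =>
      rw [smul_infty_eq_ite]
      simp only [Matrix.SpecialLinearGroup.toGL, MonoidHom.coe_mk, OneHom.coe_mk]
      simp [hr0]
      show t • a = S.pt E 0
      rw [hta, S.pt_zero E hE]
    | coe x =>
      rw [smul_some_eq_ite]
      simp only [Matrix.SpecialLinearGroup.toGL, MonoidHom.coe_mk, OneHom.coe_mk]
      rcases eq_or_ne x 0 with rfl | hx
      · simp [hr0]
        show t • S.pt E 0 = a
        rw [S.pt_zero E hE, htb]
      · simp [hr0, hx]
        show t • S.pt E x = S.pt E _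
        rw [hform x hx]
        congr 1
        field_simp
  have hle : θ.range ≤ P := by
    have hfixa : ∀ g : G, g • a = a → θ g ∈ P := by
      intro g hg
      obtain ⟨u, hu, h, hh, e⟩ := S.exists_mul hg
      rw [e, map_mul]
      exact mul_mem (hFP u hu) (hHP ⟨h, hh⟩)
    rintro _ ⟨g, rfl⟩
    by_cases hg : g • a = a
    · exact hfixa g hg
    · obtain ⟨u, hu, hub⟩ := S.F_exists hg
      have h1 : (t * u⁻¹ * g) • a = a := by
        rw [mul_smul, mul_smul, ← hub, inv_smul_smul, htb]
      have h2 := mul_mem (mul_mem (hFP u hu) htP) (hfixa _ h1)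
      rwa [← map_mul, ← map_mul, show u * t * (t * u⁻¹ * g) = g by
        calc u * t * (t * u⁻¹ * g) = u * (t * t) * (u⁻¹ * g) := by group
          _ = g := by rw [ht, mul_one, mul_inv_cancel_left]] at h2
  have hcardP : Nat.card P ≤ Nat.card θ.range := by
    rw [hP, Subgroup.card_map_of_injective hΨinj, Nat.card_congr (MonoidHom.ofInjective hθinj).toEquiv.symm]
    have h1 := card_range_toPGL K
    have hKn : Nat.card K = 2 * d + 1 := by rw [Nat.card_eq_fintype_card, hq]
    rw [hKn, show Nat.gcd 2 (2 * d + 1 - 1) = 2 from Nat.gcd_eq_left ⟨d, by omega⟩] at h1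
    rw [S.card_G, show Nat.card S.F = 2 * d + 1 by omega, ← hd]
    rw [show 2 * d + 1 - 1 = 2 * d by omega] at h1
    nlinarith
  have heq := Subgroup.eq_of_le_of_card_ge hle hcardP
  have e1 : G ≃* P := (MonoidHom.ofInjective hθinj).trans (MulEquiv.subgroupCongr heq)
  have e2 : (Matrix.SpecialLinearGroup.toPGL (n := Fin 2) (R := K)).range ≃* P :=
    Subgroup.equivMapOfInjective _ Ψ hΨinj
  have hran : (Matrix.ProjectiveSpecialLinearGroup.toPGL (n := Fin 2) (R := K)).range =
      (Matrix.SpecialLinearGroup.toPGL (n := Fin 2) (R := K)).range := by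
    ext y
    constructor
    · rintro ⟨x, rfl⟩
      induction x using Quotient.inductionOn with
      | _ x => exact ⟨x, rfl⟩
    · rintro ⟨x, rfl⟩
      exact ⟨(x : Matrix.ProjectiveSpecialLinearGroup (Fin 2) K), rfl⟩
  have e3 : Matrix.ProjectiveSpecialLinearGroup (Fin 2) K ≃*
      (Matrix.SpecialLinearGroup.toPGL (n := Fin 2) (R := K)).range :=
    (MonoidHom.ofInjective Matrix.ProjectiveSpecialLinearGroup.toPGL_injective).trans
      (MulEquiv.subgroupCongr hran)
  exact ⟨e1.trans (e2.symm.trans e3.symm)⟩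

end CfsgLib.Perm.ZGroup
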