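import Mathlib
import Cfsg.Prelude.Def_LieExceptional

/-!
# Zassenhaus groups with two-point stabilisers of even order

The conjugates of an involution fixing two points fix exactly two points each. Counting the triples
(conjugate, two fixed points) and (conjugate, two exchanged points) gives `n - 1 ≤ 2d`.
-/

set_option autoImplicit false

namespace CfsgLib.Perm.ZGroup

open MulAction Finset

variable {G Ω : Type*} [Group G] [Finite G] [MulAction G Ω] [Fintype Ω]

theorem counting (hZ : Cfsg.IsZassenhausGroup G Ω) {a b : Ω} (hab : a ≠ b)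
    (heven : Even (Nat.card ↥(stabilizer G a ⊓ stabilizer G b))) [DecidableEq G] [DecidableEq Ω] :
    ∃ C : Finset G, C.Nonempty ∧
      (∀ t ∈ C, t * t = 1 ∧ #(univ.filter fun x : Ω => t • x = x) = 2) ∧
      #(univ.filter fun q : Ω × Ω => q.1 ≠ q.2) ≤ #C * 2 ∧
      ∑ q ∈ univ.filter (fun q : Ω × Ω => q.1 ≠ q.2), #(C.filter fun t => t • q.1 = q.2) =
        #C * (Fintype.card Ω - 2) ∧
      ∀ q ∈ univ.filter (fun q : Ω × Ω => q.1 ≠ q.2), #(C.filter fun t => t • q.1 = q.2) ≤
        Nat.card ↥(stabilizer G a ⊓ stabilizer G b) := by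
  obtain ⟨-, h2, hfree, -, -⟩ := hZ
  letI := Fintype.ofFinite G
  classical
  set H := stabilizer G a ⊓ stabilizer G b with hH
  haveI : Fact (Nat.Prime 2) := ⟨Nat.prime_two⟩
  obtain ⟨⟨z, hzH⟩, hz'⟩ := exists_prime_orderOf_dvd_card' (G := H) 2 (even_iff_two_dvd.mp heven)
  have hz : orderOf z = 2 := by rw [← hz']; exact Subgroup.orderOf_coe (⟨z, hzH⟩ : H)
  have hz1 : z ≠ 1 := fun h => by rw [h, orderOf_one] at hz; norm_num at hz
  have hzfix : ∀ x, z • x = x ↔ x = a ∨ x = b := by
    intro x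
    refine ⟨fun hx => ?_, fun h => ?_⟩
    · by_contra hne
      push Not at hne
      exact hz1 (hfree z a b x hab (Ne.symm hne.2) (Ne.symm hne.1) hzH.1 hzH.2 hx)
    · rcases h with rfl | rfl
      exacts [hzH.1, hzH.2]
  let C : Finset G := univ.filter fun t => IsConj z t
  have hC : ∀ t, t ∈ C ↔ IsConj z t := fun t => by simp [C]
  have hfix2 : ∀ t ∈ C, #(univ.filter fun x : Ω => t • x = x) = 2 := by
    intro t ht
    obtain ⟨g, hg⟩ := isConj_iff.mp ((hC t).mp ht)
    have h : (univ.filter fun x : Ω => t • x = x) = {g • a, g • b} := by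
      ext x
      simp only [mem_filter, mem_univ, true_and, mem_insert, mem_singleton]
      rw [← hg, mul_smul, mul_smul, ← eq_inv_smul_iff, hzfix, inv_smul_eq_iff, inv_smul_eq_iff]
    rw [h, card_pair fun e => hab (MulAction.injective g e)]
  let O : Finset (Ω × Ω) := univ.filter fun q => q.1 ≠ q.2
  set n := Fintype.card Ω with hn
  -- exchanged pairs, counted in two ways
  have hmove : ∑ q ∈ O, #(C.filter fun t => t • q.1 = q.2) = #C * (n - 2) := by
    simp only [card_filter]
    rw [sum_comm, card_eq_sum_ones C, sum_mul]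
    refine sum_congr rfl fun t ht => ?_
    rw [one_mul, sum_filter, Fintype.sum_prod_type]
    have h1 : ∀ x : Ω, (∑ y : Ω, if (x, y).1 ≠ (x, y).2 then (if t • (x, y).1 = (x, y).2 then 1 else 0) else 0) =
        if t • x = x then 0 else 1 := by
      intro x
      rw [Finset.sum_eq_single (t • x) (fun y _ hy => ?_) (by simp)]
      · by_cases h : t • x = x
        · simp [h]
        · simp [h, Ne.symm h]
      · simp [Ne.symm hy]
    simp only [h1]
    rw [sum_ite, sum_const_zero, zero_add, sum_const, smul_eq_mul, mul_one, filter_not,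
      card_sdiff_of_subset (subset_univ _), hfix2 t ht, card_univ]
  have hfixp : ∑ q ∈ O, #(C.filter fun t => t • q.1 = q.1 ∧ t • q.2 = q.2) = #C * 2 := by
    simp only [card_filter]
    rw [sum_comm, card_eq_sum_ones C, sum_mul]
    refine sum_congr rfl fun t ht => ?_
    rw [one_mul, ← card_filter]
    obtain ⟨x, y, hxy, hF⟩ := card_eq_two.mp (hfix2 t ht)
    have hmem : ∀ w, t • w = w ↔ w = x ∨ w = y := fun w => by
      have := congrArg (w ∈ ·) hF
      simpa using this
    rw [show (O.filter fun q => t • q.1 = q.1 ∧ t • q.2 = q.2) = {(x, y), (y, x)} by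
      ext ⟨u, v⟩
      simp only [O, mem_filter, mem_univ, true_and, mem_insert, mem_singleton, Prod.mk.injEq, hmem]
      constructor
      · rintro ⟨huv, rfl | rfl, rfl | rfl⟩ <;> simp_all
      · rintro (⟨rfl, rfl⟩ | ⟨rfl, rfl⟩) <;> simp [hxy, Ne.symm hxy]]
    exact card_pair (by simp [hxy])
  have hmove' : ∀ q ∈ O, #(C.filter fun t => t • q.1 = q.2) ≤ Nat.card H := by
    rintro ⟨x, y⟩ hq
    rw [mem_filter] at hq
    obtain ⟨g, hga, hgb⟩ := (is_two_pretransitive_iff.mp h2) hab hq.2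
    simp only at hga hgb
    rcases (C.filter fun t => t • x = y).eq_empty_or_nonempty with he | ⟨t₀, ht₀⟩
    · simp [he]
    have hinv : ∀ t ∈ C, ∀ u v : Ω, t • u = v → t • v = u := by
      intro t ht u v huv
      obtain ⟨k, hk⟩ := isConj_iff.mp ((hC t).mp ht)
      have hzz : z * z = 1 := by
        have := pow_orderOf_eq_one z
        rwa [hz, pow_two] at this
      have htt : t * t = 1 := by
        rw [← hk]
        calc k * z * k⁻¹ * (k * z * k⁻¹) = k * (z * z) * k⁻¹ := by group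
          _ = 1 := by rw [hzz, mul_one, mul_inv_cancel]
      rw [← huv, ← mul_smul, htt, one_smul]
    rw [mem_filter] at ht₀
    rw [Nat.card_eq_fintype_card, ← card_univ]
    refine card_le_card_of_injOn (fun t => if h : g⁻¹ * (t₀⁻¹ * t) * g ∈ H then ⟨_, h⟩ else 1)
      (fun t _ => mem_univ _) fun t ht t' ht' e => ?_
    have hm : ∀ t ∈ C.filter (fun t => t • x = y), g⁻¹ * (t₀⁻¹ * t) * g ∈ H := by
      intro t ht
      rw [mem_filter] at ht
      constructor
      · show (g⁻¹ * (t₀⁻¹ * t) * g) • a = a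
        rw [mul_smul, hga, mul_smul, mul_smul, ht.2, ← ht₀.2, inv_smul_smul, ← hga, inv_smul_smul]
      · show (g⁻¹ * (t₀⁻¹ * t) * g) • b = b
        rw [mul_smul, hgb, mul_smul, mul_smul, hinv t ht.1 x y ht.2,
          ← hinv t₀ ht₀.1 x y ht₀.2, inv_smul_smul, ← hgb, inv_smul_smul]
    simp only [hm t (Finset.mem_coe.mp ht), hm t' (Finset.mem_coe.mp ht'), dif_pos,
      Subtype.mk.injEq] at e
    exact mul_left_cancel (mul_left_cancel (mul_right_cancel e))
  have hfix' : ∀ q ∈ O, 1 ≤ #(C.filter fun t => t • q.1 = q.1 ∧ t • q.2 = q.2) := by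
    rintro ⟨x, y⟩ hq
    rw [mem_filter] at hq
    obtain ⟨g, hga, hgb⟩ := (is_two_pretransitive_iff.mp h2) hab hq.2
    simp only at hga hgb
    refine card_pos.mpr ⟨g * z * g⁻¹, mem_filter.mpr ⟨(hC _).mpr (isConj_iff.mpr ⟨g, rfl⟩), ?_, ?_⟩⟩
    · show (g * z * g⁻¹) • x = x
      rw [← hga, mul_smul, inv_smul_smul, mul_smul, (hzfix a).mpr (Or.inl rfl)]
    · show (g * z * g⁻¹) • y = y
      rw [← hgb, mul_smul, inv_smul_smul, mul_smul, (hzfix b).mpr (Or.inr rfl)]
  have h1 : #O ≤ #C * 2 := by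
    rw [← hfixp, card_eq_sum_ones O]; exact sum_le_sum hfix'
  have hzz : z * z = 1 := by
    have := pow_orderOf_eq_one z
    rwa [hz, pow_two] at this
  refine ⟨C, ⟨z, (hC z).mpr (IsConj.refl z)⟩, fun t ht => ⟨?_, by convert hfix2 t ht⟩,
    by convert h1, by convert hmove, fun q hq => by convert hmove' q (by convert hq)⟩
  obtain ⟨k, hk⟩ := isConj_iff.mp ((hC t).mp ht)
  rw [← hk]
  calc k * z * k⁻¹ * (k * z * k⁻¹) = k * (z * z) * k⁻¹ := by group
    _ = 1 := by rw [hzz, mul_one, mul_inv_cancel]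

theorem bound_of_even (hZ : Cfsg.IsZassenhausGroup G Ω) {a b : Ω} (hab : a ≠ b)
    (heven : Even (Nat.card ↥(stabilizer G a ⊓ stabilizer G b))) :
    Fintype.card Ω - 2 ≤ 2 * Nat.card ↥(stabilizer G a ⊓ stabilizer G b) := by
  classical
  obtain ⟨C, hC, -, h1, hmove, hmove'⟩ := counting hZ hab heven
  set d := Nat.card ↥(stabilizer G a ⊓ stabilizer G b)
  set O := univ.filter fun q : Ω × Ω => q.1 ≠ q.2
  have h3 : #C * (Fintype.card Ω - 2) ≤ #O * d := by
    rw [← hmove]; exact (sum_le_card_nsmul _ _ _ hmove').trans (by rw [smul_eq_mul])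
  refine Nat.le_of_mul_le_mul_left (h3.trans ?_) hC.card_pos
  calc #O * d ≤ #C * 2 * d := Nat.mul_le_mul_right _ h1
    _ = #C * (2 * d) := Nat.mul_assoc _ _ _

/-- When the bound is attained every element exchanging the two points is an involution with
exactly two fixed points. -/
theorem swap_of_eq (hZ : Cfsg.IsZassenhausGroup G Ω) {a b : Ω} (hab : a ≠ b)
    (heven : Even (Nat.card ↥(stabilizer G a ⊓ stabilizer G b)))
    (heq : Fintype.card Ω - 2 = 2 * Nat.card ↥(stabilizer G a ⊓ stabilizer G b))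
    {s : G} (hsa : s • a = b) (hsb : s • b = a) :
    s * s = 1 ∧ Nat.card (fixedBy Ω s) = 2 := by
  classical
  obtain ⟨C, hC, hCt, h1, hmove, hmove'⟩ := counting hZ hab heven
  set d := Nat.card ↥(stabilizer G a ⊓ stabilizer G b) with hd
  set O := univ.filter fun q : Ω × Ω => q.1 ≠ q.2
  have hsum : ∑ q ∈ O, d = ∑ q ∈ O, #(C.filter fun t => t • q.1 = q.2) := by
    refine le_antisymm ?_ (sum_le_sum hmove')
    rw [sum_const, smul_eq_mul, hmove, heq]
    calc #O * d ≤ #C * 2 * d := Nat.mul_le_mul_right _ h1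
      _ = #C * (2 * d) := Nat.mul_assoc _ _ _
  have hfull := ((sum_eq_sum_iff_of_le hmove').mp hsum.symm (a, b) (by simp [O, hab]))
  letI := Fintype.ofFinite G
  let K : Finset G := univ.filter fun t => t • a = b ∧ t • b = a
  have hK : #K ≤ d := by
    rw [hd, Nat.card_eq_fintype_card, ← card_univ]
    refine card_le_card_of_injOn (fun t => if h : s⁻¹ * t ∈ stabilizer G a ⊓ stabilizer G b
      then ⟨_, h⟩ else 1) (fun t _ => mem_univ _) fun t ht t' ht' e => ?_
    have hm : ∀ u ∈ K, s⁻¹ * u ∈ stabilizer G a ⊓ stabilizer G b := fun u hu => by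
      rw [mem_filter] at hu
      exact ⟨show (s⁻¹ * u) • a = a by rw [mul_smul, hu.2.1, inv_smul_eq_iff, hsa],
        show (s⁻¹ * u) • b = b by rw [mul_smul, hu.2.2, inv_smul_eq_iff, hsb]⟩
    simp only [hm t (Finset.mem_coe.mp ht), hm t' (Finset.mem_coe.mp ht'), dif_pos,
      Subtype.mk.injEq] at e
    exact mul_left_cancel e
  have hsub : (C.filter fun t => t • a = b) ⊆ K := by
    intro t ht
    rw [mem_filter] at ht
    exact mem_filter.mpr ⟨mem_univ _, ht.2, by rw [← ht.2, ← mul_smul, (hCt t ht.1).1, one_smul]⟩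
  have hKC := eq_of_subset_of_card_le hsub (hK.trans_eq hfull.symm)
  have hsK : s ∈ K := mem_filter.mpr ⟨mem_univ _, hsa, hsb⟩
  rw [← hKC] at hsK
  have hs : s ∈ C := (mem_filter.mp hsK).1
  refine ⟨(hCt s hs).1, ?_⟩
  rw [Nat.card_eq_fintype_card, Fintype.card_subtype]
  convert (hCt s hs).2 using 3
  exact Iff.rfl

end CfsgLib.Perm.ZGroup
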