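import Cfsg.Agent.Lib.Perm.ZGroup.Basic

/-!
# Zassenhaus groups with two-point stabilisers as large as possible are sharply triply transitive
-/

set_option autoImplicit false

namespace CfsgLib.Perm.ZGroup

open MulAction

variable {G Ω : Type*} [Group G] [Finite G] [MulAction G Ω] [Fintype Ω] {a b : Ω}

/-- Sharp triple transitivity. -/
theorem Setup.sharply_three_transitive (S : Setup G Ω a b)
    (h1 : Nat.card S.H = Nat.card S.F - 1) :
    IsMultiplyPretransitive G Ω 3 ∧ ∀ t : Fin 3 ↪ Ω, stabilizer G t = ⊥ := by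
  classical
  have hb : b ≠ a := S.hab.symm
  have hfree3 : ∀ t : Fin 3 ↪ Ω, stabilizer G t = ⊥ := fun t => (Subgroup.eq_bot_iff_forall _).mpr
    fun g hg => by
      have h : ∀ i, g • t i = t i := fun i => congrArg (fun e : Fin 3 ↪ Ω => e i) (mem_stabilizer_iff.mp hg)
      exact S.free (fun e => by simpa using t.injective e) (fun e => by simpa using t.injective e)
        (fun e => by simpa using t.injective e) (h 0) (h 1) (h 2)
  refine ⟨?_, hfree3⟩
  -- the two-point stabiliser is transitive on the remaining points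
  have hH : ∀ y z : Ω, y ≠ a → y ≠ b → z ≠ a → z ≠ b → ∃ g ∈ S.H, g • y = z := by
    intro y z hy hy' hz hz'
    have hmaps : ∀ h : S.H, (h : G) • y ≠ a ∧ (h : G) • y ≠ b := fun h =>
      ⟨fun e => hy (MulAction.injective (h : G) (e.trans h.2.1.symm)),
       fun e => hy' (MulAction.injective (h : G) (e.trans h.2.2.symm))⟩
    let φ : S.H → {w : Ω // w ∈ ({a, b} : Finset Ω)ᶜ} := fun h =>
      ⟨(h : G) • y, by simpa using hmaps h⟩
    have hinj : Function.Injective φ := fun g h e => by
      have e' : (g : G) • y = (h : G) • y := congrArg Subtype.val e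
      refine Subtype.ext (inv_mul_eq_one.mp (S.free hb.symm hy.symm hy'.symm ?_ ?_ ?_)).symm
      · rw [mul_smul, g.2.1, inv_smul_eq_iff, h.2.1]
      · rw [mul_smul, g.2.2, inv_smul_eq_iff, h.2.2]
      · rw [mul_smul, e', inv_smul_smul]
    have hcard : Nat.card S.H = Nat.card {w : Ω // w ∈ ({a, b} : Finset Ω)ᶜ} := by
      rw [Nat.card_eq_finsetCard, Finset.card_compl, Finset.card_pair hb.symm, h1]
      have := S.card_F
      omega
    obtain ⟨h, hh⟩ := ((Nat.bijective_iff_injective_and_card φ).mpr ⟨hinj, hcard⟩).2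
      ⟨z, by simp [hz, hz']⟩
    exact ⟨h, h.2, congrArg Subtype.val hh⟩
  obtain ⟨c, hcx, hcb⟩ : ∃ c : Ω, c ≠ a ∧ c ≠ b := by
    by_contra h
    push Not at h
    have h3 := S.three_le
    have : (Finset.univ : Finset Ω) ⊆ {a, b} := fun w _ => by
      by_cases hw : w = a
      · simp [hw]
      · simp [h w hw]
    have h4 := (Finset.card_le_card this).trans Finset.card_le_two
    rw [Finset.card_univ] at h4
    omega
  let t₀ : Fin 3 ↪ Ω := ⟨![a, b, c], by
    intro i j
    fin_cases i <;> fin_cases j <;> simp [hb, hb.symm, hcx, hcx.symm, hcb, hcb.symm]⟩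
  have hbase : ∀ t : Fin 3 ↪ Ω, ∃ g : G, g • t = t₀ := by
    intro t
    obtain ⟨g, hg0, hg1⟩ := S.pair (fun e => by simpa using t.injective e : t 0 ≠ t 1) hb.symm
    obtain ⟨h, hh, hh2⟩ := hH (g • t 2) c
      (fun e => by simpa using t.injective (MulAction.injective g (e.trans hg0.symm)))
      (fun e => by simpa using t.injective (MulAction.injective g (e.trans hg1.symm))) hcx hcb
    refine ⟨h * g, Function.Embedding.ext fun i => ?_⟩
    rw [Function.Embedding.smul_apply, mul_smul]
    fin_cases i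
    · show h • g • t 0 = a
      rw [hg0, hh.1]
    · show h • g • t 1 = b
      rw [hg1, hh.2]
    · exact hh2
  refine ⟨fun t t' => ?_⟩
  obtain ⟨g, hg⟩ := hbase t
  obtain ⟨g', hg'⟩ := hbase t'
  exact ⟨g'⁻¹ * g, by rw [mul_smul, hg, ← hg', inv_smul_smul]⟩

end CfsgLib.Perm.ZGroup
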