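import Mathlib
import Cfsg.Prelude.Def_LieExceptional
import Cfsg.Agent.Lib.FrobRealize.FixedPointFree

/-!
# Zassenhaus groups: a point stabiliser and its regular normal subgroup

`Setup G Ω a b` records a regular normal subgroup `F` of the stabiliser of `a`; `H` is the
stabiliser of `a` and `b`.
-/

set_option autoImplicit false

namespace CfsgLib.Perm.ZGroup

open MulAction

variable {G Ω : Type*} [Group G] [Finite G] [MulAction G Ω] [Fintype Ω]

/-- A regular normal subgroup of a point stabiliser of a Zassenhaus group. -/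
structure Setup (G Ω : Type*) [Group G] [MulAction G Ω] (a b : Ω) where
  hZ : Cfsg.IsZassenhausGroup G Ω
  hab : a ≠ b
  F : Subgroup G
  hle : F ≤ stabilizer G a
  hnorm : (F.subgroupOf (stabilizer G a)).Normal
  hreg : ∀ y z : Ω, y ≠ a → z ≠ a → ∃! u : F, (u : G) • y = z

namespace Setup

variable {a b : Ω} (S : Setup G Ω a b)
include S

/-- The stabiliser of the two points. -/
def H (_ : Setup G Ω a b) : Subgroup G := stabilizer G a ⊓ stabilizer G b

omit S in
theorem mem_H {S : Setup G Ω a b} {g : G} : g ∈ S.H ↔ g • a = a ∧ g • b = b := Iff.rfl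

theorem pair {x y z w : Ω} (hxy : x ≠ y) (hzw : z ≠ w) : ∃ g : G, g • x = z ∧ g • y = w :=
  (is_two_pretransitive_iff.mp S.hZ.2.1) hxy hzw

theorem free {g : G} {x y z : Ω} (hxy : x ≠ y) (hxz : x ≠ z) (hyz : y ≠ z) (hx : g • x = x)
    (hy : g • y = y) (hz : g • z = z) : g = 1 :=
  S.hZ.2.2.1 g x y z hxy hyz hxz hx hy hz

theorem F_smul_ne (u : G) (hu : u ∈ S.F) {y : Ω} (hy : y ≠ a) : u • y ≠ a := fun e =>
  hy (MulAction.injective u (e.trans (S.hle hu).symm))

theorem F_free {u : G} (hu : u ∈ S.F) {y : Ω} (hy : y ≠ a) (h : u • y = y) : u = 1 :=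
  congrArg Subtype.val ((S.hreg y y hy hy).unique (y₁ := ⟨u, hu⟩) (y₂ := 1) h (one_smul G y))

theorem F_exists {y : Ω} (hy : y ≠ a) : ∃ u ∈ S.F, u • b = y := by
  obtain ⟨u, hu, -⟩ := S.hreg b y S.hab.symm hy
  exact ⟨u, u.2, hu⟩

theorem F_conj {g u : G} (hg : g • a = a) (hu : u ∈ S.F) : g * u * g⁻¹ ∈ S.F :=
  S.hnorm.conj_mem ⟨u, S.hle hu⟩ hu ⟨g, hg⟩

theorem F_eq_of_smul {u v : G} (hu : u ∈ S.F) (hv : v ∈ S.F) (h : u • b = v • b) : u = v :=
  inv_mul_eq_one.mp (S.F_free (mul_mem (inv_mem hu) hv) S.hab.symm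
    (by rw [mul_smul, ← h, inv_smul_smul]))

theorem card_F : Nat.card S.F + 1 = Fintype.card Ω := by
  classical
  have e : S.F ≃ {y : Ω // y ≠ a} := Equiv.ofBijective
    (fun u => ⟨(u : G) • b, S.F_smul_ne u u.2 S.hab.symm⟩)
    ⟨fun u v h => Subtype.ext (S.F_eq_of_smul u.2 v.2 (congrArg Subtype.val h)), fun y => by
      obtain ⟨u, hu, e⟩ := S.F_exists y.2
      exact ⟨⟨u, hu⟩, Subtype.ext e⟩⟩
  rw [Nat.card_congr e, Nat.card_eq_fintype_card, Fintype.card_subtype_compl,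
    Fintype.card_subtype_eq]
  have : 0 < Fintype.card Ω := Fintype.card_pos_iff.mpr ⟨a⟩
  omega

theorem three_le : 3 ≤ Fintype.card Ω := by
  classical
  haveI := S.hZ.1
  obtain ⟨g, hg, x, y, hxy, hx, hy⟩ := S.hZ.2.2.2.1
  obtain ⟨w, hw⟩ : ∃ w : Ω, g • w ≠ w := by
    by_contra hall
    push Not at hall
    exact hg (eq_of_smul_eq_smul (α := Ω) fun w => by rw [hall w, one_smul])
  have hwx : w ≠ x := fun h => hw (h ▸ hx)
  have hwy : w ≠ y := fun h => hw (h ▸ hy)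
  calc 3 = ({x, y, w} : Finset Ω).card :=
        (Finset.card_eq_three.mpr ⟨x, y, w, hxy, hwx.symm, hwy.symm, rfl⟩).symm
    _ ≤ _ := Finset.card_le_univ _

theorem two_le_F : 2 ≤ Nat.card S.F := by
  have := S.card_F
  have := S.three_le
  omega

theorem one_lt_H : 1 < Nat.card S.H := by
  obtain ⟨g, hg, x, y, hxy, hx, hy⟩ := S.hZ.2.2.2.1
  obtain ⟨t, hta, htb⟩ := S.pair hxy S.hab
  rw [Subgroup.one_lt_card_iff_ne_bot]
  intro h
  refine hg (conj_eq_one_iff.mp (?_ : t * g * t⁻¹ = 1))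
  rw [← Subgroup.mem_bot, ← h, mem_H]
  exact ⟨by rw [← hta, mul_smul, inv_smul_smul, mul_smul, hx],
    by rw [← htb, mul_smul, inv_smul_smul, mul_smul, hy]⟩

theorem conj_smul_b {h : G} (hh : h ∈ S.H) (u : G) : h • (u • b) = (h * u * h⁻¹) • b := by
  rw [mul_smul, mul_smul, inv_smul_eq_iff.mpr hh.2.symm]

theorem eq_one_of_conj_eq {h u : G} (hh : h ∈ S.H) (hu : u ∈ S.F) (hu1 : u ≠ 1)
    (he : h * u * h⁻¹ = u) : h = 1 :=
  S.free S.hab (S.F_smul_ne u hu S.hab.symm).symm (fun e => hu1 (S.F_free hu S.hab.symm e.symm))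
    hh.1 hh.2 (by rw [S.conj_smul_b hh, he])

theorem exists_mul {g : G} (hg : g • a = a) : ∃ u ∈ S.F, ∃ h ∈ S.H, g = u * h := by
  obtain ⟨u, hu, e⟩ := S.F_exists (y := g • b) fun e =>
    S.hab.symm (MulAction.injective g (e.trans hg.symm))
  refine ⟨u, hu, u⁻¹ * g, ⟨?_, ?_⟩, (mul_inv_cancel_left u g).symm⟩
  · show (u⁻¹ * g) • a = a
    rw [mul_smul, hg, inv_smul_eq_iff]; exact (S.hle hu).symm
  · show (u⁻¹ * g) • b = b
    rw [mul_smul, ← e, inv_smul_smul]

theorem eq_one_of_mem_inf {g : G} (hF : g ∈ S.F) (hH : g ∈ S.H) : g = 1 :=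
  S.F_free hF S.hab.symm hH.2

theorem card_stab : Nat.card (stabilizer G a) = Nat.card S.F * Nat.card S.H := by
  rw [← Nat.card_prod]
  refine (Nat.card_congr (Equiv.ofBijective (fun p : S.F × S.H =>
    (⟨(p.1 : G) * p.2, mul_mem (S.hle p.1.2) p.2.2.1⟩ : stabilizer G a)) ⟨?_, ?_⟩)).symm
  · intro p q e
    have e' : (p.1 : G) * p.2 = q.1 * q.2 := congrArg Subtype.val e
    have h1 : (p.1 : G) = q.1 := S.F_eq_of_smul p.1.2 q.1.2 (by
      have h2 := congrArg (· • b) e'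
      simp only [mul_smul] at h2
      rwa [show (p.2 : G) • b = b from p.2.2.2, show (q.2 : G) • b = b from q.2.2.2] at h2)
    rw [h1, mul_right_inj] at e'
    exact Prod.ext (Subtype.ext h1) (Subtype.ext e')
  · intro g
    obtain ⟨u, hu, h, hh, e⟩ := S.exists_mul g.2
    exact ⟨(⟨u, hu⟩, ⟨h, hh⟩), Subtype.ext e.symm⟩

theorem isPretransitive : IsPretransitive G Ω :=
  haveI := S.hZ.2.1
  isPretransitive_of_is_two_pretransitive

theorem card_G : Nat.card G = (Nat.card S.F + 1) * (Nat.card S.F * Nat.card S.H) := by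
  haveI := S.isPretransitive
  rw [← S.card_stab, S.card_F, ← Nat.card_eq_fintype_card]
  rw [← (stabilizer G a).index_mul_card, MulAction.index_stabilizer_of_transitive G a]

/-- The order of the two-point stabiliser divides `n - 1`. -/
theorem card_H_dvd : Nat.card S.H ∣ Nat.card S.F - 1 := by
  classical
  let T := {u : S.F // u ≠ 1}
  have hT : Nat.card T = Nat.card S.F - 1 := by
    letI := Fintype.ofFinite S.F
    rw [Nat.card_eq_fintype_card, Nat.card_eq_fintype_card, Fintype.card_subtype_compl,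
      Fintype.card_subtype_eq]
  letI : MulAction S.H T :=
    { smul := fun h u => ⟨⟨(h : G) * (u.1 : G) * (h : G)⁻¹, S.F_conj h.2.1 u.1.2⟩, fun e =>
        u.2 (Subtype.ext (conj_eq_one_iff.mp (congrArg Subtype.val e)))⟩
      one_smul := fun u => Subtype.ext (Subtype.ext (by
        show ((1 : S.H) : G) * (u.1 : G) * ((1 : S.H) : G)⁻¹ = u.1; simp))
      mul_smul := fun h k u => Subtype.ext (Subtype.ext (by
        show ((h * k : S.H) : G) * (u.1 : G) * ((h * k : S.H) : G)⁻¹ =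
          (h : G) * ((k : G) * (u.1 : G) * (k : G)⁻¹) * (h : G)⁻¹
        simp [mul_assoc])) }
  have hstab : ∀ u : T, stabilizer S.H u = ⊥ := fun u => eq_bot_iff.mpr fun h hh =>
    Subgroup.mem_bot.mpr (Subtype.ext (S.eq_one_of_conj_eq h.2 u.1.2
      (fun e => u.2 (Subtype.ext e)) (congrArg (fun w : T => (w.1 : G)) hh)))
  haveI : Finite (orbitRel.Quotient S.H T) := Quotient.finite _
  letI := Fintype.ofFinite (orbitRel.Quotient S.H T)
  rw [← hT, Nat.card_congr (selfEquivSigmaOrbits S.H T)]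
  rw [Nat.card_sigma]
  refine Finset.dvd_sum fun q _ => dvd_of_eq ?_
  have h := Nat.card_congr (orbitProdStabilizerEquivGroup S.H q.out)
  rw [Nat.card_prod, hstab, Subgroup.card_bot, mul_one] at h
  exact h.symm

theorem eq_a_of_fixed {u : G} (hu : u ∈ S.F) (hu1 : u ≠ 1) {y : Ω} (h : u • y = y) : y = a :=
  by_contra fun hy => hu1 (S.F_free hu hy h)

/-- Fusion in the kernel takes place in the point stabiliser. -/
theorem smul_a_of_conj {u g : G} (hu : u ∈ S.F) (hu1 : u ≠ 1) (h : g * u * g⁻¹ ∈ S.F) :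
    g • a = a := by
  refine S.eq_a_of_fixed h (fun e => hu1 (conj_eq_one_iff.mp e)) ?_
  rw [mul_smul, mul_smul, inv_smul_smul]
  exact congrArg (g • ·) (S.hle hu)

/-- Fusion in the two-point stabiliser takes place in its normaliser. -/
theorem fusion_H {x g : G} (hx : x ∈ S.H) (hx1 : x ≠ 1) (h : g * x * g⁻¹ ∈ S.H) :
    (g • a = a ∧ g • b = b) ∨ (g • a = b ∧ g • b = a) := by
  have hfix : ∀ y, x • y = y → g • y = a ∨ g • y = b := by
    intro y hy
    by_contra hne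
    push Not at hne
    refine hx1 (conj_eq_one_iff.mp (S.free S.hab hne.1.symm hne.2.symm h.1 h.2 ?_))
    rw [mul_smul, mul_smul, inv_smul_smul, hy]
  rcases hfix a hx.1 with ea | ea <;> rcases hfix b hx.2 with eb | eb
  · exact absurd (MulAction.injective g (ea.trans eb.symm)) S.hab
  · exact Or.inl ⟨ea, eb⟩
  · exact Or.inr ⟨ea, eb⟩
  · exact absurd (MulAction.injective g (ea.trans eb.symm)) S.hab

theorem swap_conj_mem {t x : G} (hta : t • a = b) (htb : t • b = a) (hx : x ∈ S.H) :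
    t * x * t⁻¹ ∈ S.H := by
  constructor
  · show (t * x * t⁻¹) • a = a
    rw [mul_smul, mul_smul, inv_smul_eq_iff.mpr htb.symm, hx.2, htb]
  · show (t * x * t⁻¹) • b = b
    rw [mul_smul, mul_smul, inv_smul_eq_iff.mpr hta.symm, hx.1, hta]

theorem F_ne_bot : S.F ≠ ⊥ := by
  intro h
  have := S.two_le_F
  rw [h, Subgroup.card_bot] at this
  omega

theorem H_le_normalizer : S.H ≤ Subgroup.normalizer (S.F : Set G) := by
  intro h hh
  rw [Subgroup.mem_normalizer_iff]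
  intro u
  refine ⟨fun hu => S.F_conj hh.1 hu, fun hu => ?_⟩
  have := S.F_conj (g := h⁻¹) (inv_smul_eq_iff.mpr hh.1.symm) hu
  rwa [show h⁻¹ * (h * u * h⁻¹) * h⁻¹⁻¹ = u by group] at this

theorem H_fpf : ∀ h ∈ S.H, h ≠ 1 → S.F ⊓ Subgroup.centralizer {h} = ⊥ := by
  intro h hh hh1
  rw [eq_bot_iff]
  rintro u ⟨hu, huc⟩
  rw [Subgroup.mem_bot]
  by_contra hu1
  have e : h * u = u * h := by
    have := Subgroup.mem_centralizer_singleton_iff.mp huc
    first
      | exact this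
      | exact this.symm
  exact hh1 (S.eq_one_of_conj_eq hh hu hu1 (by rw [e, mul_inv_cancel_right]))

/-- The two-point stabiliser has cyclic or generalised quaternion Sylow subgroups. -/
theorem sylow {p : ℕ} [Fact p.Prime] (P : Sylow p S.H) :
    IsCyclic P ∨ (p = 2 ∧ ∃ n : ℕ, Nonempty (P ≃* QuaternionGroup (2 ^ n))) :=
  CfsgLib.FrobRealize.FPF.sylow_cyclic_or_quaternion S.F_ne_bot S.H_le_normalizer S.H_fpf P

/-- A commutative two-point stabiliser is cyclic. -/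
theorem isCyclic_H (hc : ∀ x y : S.H, x * y = y * x) : IsCyclic S.H :=
  CfsgLib.FrobRealize.FPF.isCyclic_of_comm S.F_ne_bot S.H_le_normalizer S.H_fpf ⟨⟨hc⟩⟩

end Setup

/-- Every point stabiliser has such a subgroup, by Frobenius' theorem. -/
theorem exists_setup (hZ : Cfsg.IsZassenhausGroup G Ω) {a b : Ω} (hab : a ≠ b) :
    Nonempty (Setup G Ω a b) := by
  classical
  obtain ⟨hfaith, h2, hfree, ⟨g₀, hg₀, a₀, b₀, hab₀, hga₀, hgb₀⟩, hno⟩ := hZ
  haveI := hfaith
  set M := stabilizer G a with hM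
  set E : Subgroup M := (stabilizer G b).subgroupOf M with hE
  have hpair : ∀ {x y z w : Ω}, x ≠ y → z ≠ w → ∃ g : G, g • x = z ∧ g • y = w :=
    fun h h' => (is_two_pretransitive_iff.mp h2) h h'
  obtain ⟨t, hta, htb⟩ := hpair hab₀ hab
  have hgH : (t * g₀ * t⁻¹) • a = a ∧ (t * g₀ * t⁻¹) • b = b :=
    ⟨by rw [← hta, mul_smul, inv_smul_smul, mul_smul, hga₀],
      by rw [← htb, mul_smul, inv_smul_smul, mul_smul, hgb₀]⟩
  obtain ⟨w, hw⟩ : ∃ w : Ω, g₀ • w ≠ w := by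
    by_contra hall
    push Not at hall
    exact hg₀ (eq_of_smul_eq_smul (α := Ω) fun w => by rw [hall w, one_smul])
  have hC : ∃ c : Ω, c ≠ a ∧ c ≠ b :=
    ⟨t • w, fun e => hw (by rw [MulAction.injective t (e.trans hta.symm)]; exact hga₀),
      fun e => hw (by rw [MulAction.injective t (e.trans htb.symm)]; exact hgb₀)⟩
  have hFC : Cfsg.IsFrobeniusComplement E := by
    refine ⟨fun h => hg₀ ?_, fun h => ?_, fun g hg => ?_⟩
    · have h1 : (⟨t * g₀ * t⁻¹, hgH.1⟩ : M) ∈ E := hgH.2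
      rw [h, Subgroup.mem_bot] at h1
      exact conj_eq_one_iff.mp (congrArg Subtype.val h1)
    · obtain ⟨c, hca, hcb⟩ := hC
      obtain ⟨g, hga, hgb⟩ := hpair hab (Ne.symm hca)
      have h1 : (⟨g, hga⟩ : M) ∈ E := h ▸ Subgroup.mem_top _
      exact hcb (hgb.symm.trans h1)
    · rw [eq_bot_iff]
      rintro x ⟨hx, hxc⟩
      rw [Subgroup.mem_bot]
      replace hxc : g⁻¹ * x * g ∈ E := CfsgLib.FrobRealize.Kernel.mem_conj_smul.mp hxc
      by_contra hx1
      apply hg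
      have h1 : ((g⁻¹ * x * g : M) : G) • b = b := hxc
      rw [Subgroup.coe_mul, Subgroup.coe_mul, Subgroup.coe_inv, mul_smul, mul_smul,
        inv_smul_eq_iff] at h1
      show (g : G) • b = b
      by_contra hgb
      refine hx1 (Subtype.ext (hfree (x : G) a b ((g : G) • b) hab (Ne.symm hgb) ?_ x.2 hx h1))
      exact fun e => hab (MulAction.injective (g : G) (g.2.trans e))
  obtain ⟨N, hN, -, -, -, hc, hset⟩ := CfsgLib.FrobRealize.FPF.exists_fpf_kernel hFC
  haveI := hN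
  refine ⟨{
    hZ := ⟨hfaith, h2, hfree, ⟨g₀, hg₀, a₀, b₀, hab₀, hga₀, hgb₀⟩, hno⟩
    hab := hab
    F := N.map M.subtype
    hle := Subgroup.map_subtype_le N
    hnorm := by rwa [Subgroup.subgroupOf, Subgroup.comap_map_eq_self_of_injective M.subtype_injective]
    hreg := ?_ }⟩
  have hfix : ∀ u : M, u ∈ N → ∀ y : Ω, y ≠ a → (u : G) • y = y → u = 1 := by
    intro u hu y hy he
    obtain ⟨g, hga, hgb⟩ := hpair hab (Ne.symm hy)
    have hu' : u ∈ Cfsg.frobeniusKernel E := hset ▸ hu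
    refine hu'.resolve_right fun h => h ⟨g, hga⟩ ?_
    rw [CfsgLib.FrobRealize.Kernel.mem_conj_smul]
    show ((g : G)⁻¹ * u * g) • b = b
    rw [mul_smul, mul_smul, hgb, he, inv_smul_eq_iff, hgb]
  intro y z hy hz
  obtain ⟨g, hga, hgz⟩ := hpair (Ne.symm hy) (Ne.symm hz)
  obtain ⟨k, hka, hkb⟩ := hpair hab (Ne.symm hy)
  obtain ⟨⟨⟨n, hn⟩, ⟨e, he⟩⟩, hne⟩ := hc.2 (⟨g, hga⟩ * ⟨k, hka⟩ : M)
  obtain ⟨⟨⟨n', hn'⟩, ⟨e', he'⟩⟩, hne'⟩ := hc.2 (⟨k, hka⟩ : M)
  have h1 : ((n * e : M) : G) = g * k := congrArg Subtype.val hne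
  have h2' : ((n' * e' : M) : G) = k := congrArg Subtype.val hne'
  rw [Subgroup.coe_mul] at h1 h2'
  have hnb : (n : G) • b = z := by
    have := congrArg (· • b) h1
    simp only [mul_smul] at this
    rwa [show (e : G) • b = b from he, hkb, hgz] at this
  have hn'b : (n' : G) • b = y := by
    have := congrArg (· • b) h2'
    simp only [mul_smul] at this
    rwa [show (e' : G) • b = b from he', hkb] at this
  refine ⟨⟨((n * n'⁻¹ : M) : G), ⟨_, mul_mem hn (inv_mem hn'), rfl⟩⟩, ?_, ?_⟩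
  · show ((n * n'⁻¹ : M) : G) • y = z
    rw [← hn'b, Subgroup.coe_mul, Subgroup.coe_inv, mul_smul, inv_smul_smul, hnb]
  · rintro ⟨_, ⟨u, hu, rfl⟩⟩ he1
    suffices h : u = n * n'⁻¹ by subst h; rfl
    refine inv_mul_eq_one.mp (hfix _ (mul_mem (inv_mem hu) (mul_mem hn (inv_mem hn'))) y hy ?_)
    rw [Subgroup.coe_mul, mul_smul, Subgroup.coe_mul, Subgroup.coe_inv, Subgroup.coe_inv,
      mul_smul, show (n' : G)⁻¹ • y = b from inv_smul_eq_iff.mpr hn'b.symm, hnb, inv_smul_eq_iff]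
    exact he1.symm

end CfsgLib.Perm.ZGroup
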