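import Mathlib

/-!
# Involutory automorphisms of Z-groups of odd order

Either the automorphism inverts every element (and the group is cyclic), or for some prime `q` it
fixes a homomorphism onto an abelian group of order the `q`-part of the group order.
-/

set_option autoImplicit false

namespace CfsgLib.Perm.ZGroup

theorem mulAut_comm {A : Type*} [Group A] [IsCyclic A] (x y : MulAut A) : x * y = y * x := by
  let e := (IsCyclic.mulAutMulEquiv A)
  exact e.injective (by rw [map_mul, map_mul, mul_comm])

theorem inverts_or_invariant_hom {H : Type*} [Group H] [Finite H] [IsZGroup H]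
    (hodd : Odd (Nat.card H)) (σ : H ≃* H) (hσ : ∀ h, σ (σ h) = h) :
    ((∀ h : H, σ h = h⁻¹) ∧ IsCyclic H) ∨
      ∃ q : ℕ, q.Prime ∧ q ∣ Nat.card H ∧
        ∃ μ : H →* Abelianization H, (∀ h, μ (σ h) = μ h) ∧
          Nat.card μ.range = q ^ (Nat.card H).factorization q := by
  classical
  haveI : IsCyclic (Abelianization H) := inferInstance
  haveI : Finite (Abelianization H) := inferInstance
  have hQH : Nat.card (Abelianization H) = (commutator H).index := rfl
  have hQodd : Odd (Nat.card (Abelianization H)) :=
    hodd.of_dvd_nat (hQH ▸ (commutator H).index_dvd_card)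
  let π : H →* Abelianization H := Abelianization.of
  let σQ : Abelianization H →* Abelianization H := Abelianization.lift (π.comp σ.toMonoidHom)
  have hσQ : ∀ h, σQ (π h) = π (σ h) := fun h => Abelianization.lift_apply_of _ h
  have hπ : Function.Surjective π := QuotientGroup.mk'_surjective _
  have hσQ2 : Function.Involutive σQ := fun x => by
    obtain ⟨h, rfl⟩ := hπ x
    rw [hσQ, hσQ, hσ]
  by_cases hfix : MonoidHom.FixedPointFree σQ
  · left
    have hinvQ : ∀ x, σQ x = x⁻¹ := congrFun (hfix.coe_eq_inv_of_involutive hσQ2)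
    -- the commutator subgroup is central
    haveI hA : IsCyclic (commutator H) := IsZGroup.isCyclic_commutator H
    let c : H →* MulAut (commutator H) := MulAut.conjNormal
    have hσA : ∀ a ∈ commutator H, σ a ∈ commutator H := fun a ha => by
      have h1 : σ a ∈ (commutator H).map σ.toMonoidHom := ⟨a, ha, rfl⟩
      rwa [commutator_def, Subgroup.map_commutator, Subgroup.map_top_of_surjective _ σ.surjective] at h1
    let τ : MulAut (commutator H) :=
      { toFun := fun a => ⟨σ a, hσA a a.2⟩
        invFun := fun a => ⟨σ a, hσA a a.2⟩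
        left_inv := fun a => Subtype.ext (hσ a)
        right_inv := fun a => Subtype.ext (hσ a)
        map_mul' := fun a b => Subtype.ext (map_mul σ (a : H) b) }
    have hc : ∀ h : H, c h = c h⁻¹ := by
      intro h
      have h1 : τ * c h = c (σ h) * τ := MulEquiv.ext fun a => Subtype.ext (by
        show σ (h * (a : H) * h⁻¹) = σ h * σ a * (σ h)⁻¹
        rw [map_mul, map_mul, map_inv])
      rw [mulAut_comm τ, mul_right_cancel_iff] at h1
      have h2 : h * σ h ∈ commutator H := by
        rw [← Abelianization.ker_of]
        show π (h * σ h) = 1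
        rw [map_mul, ← hσQ, hinvQ, mul_inv_cancel]
      have h3 : c (h * σ h) = 1 := MulEquiv.ext fun a => Subtype.ext (by
        show h * σ h * (a : H) * (h * σ h)⁻¹ = a
        haveI := hA
        have := congrArg Subtype.val (mul_comm' (⟨h * σ h, h2⟩ : commutator H) a)
        rw [show h * σ h * (a : H) = a * (h * σ h) from this, mul_inv_cancel_right])
      rw [map_mul, ← h1] at h3
      rw [map_inv]
      exact eq_inv_of_mul_eq_one_right h3
    have hcen : commutator H ≤ Subgroup.center H := by
      intro a ha
      rw [Subgroup.mem_center_iff]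
      intro h
      have h1 : c h * c h = 1 := by
        conv_lhs => arg 2; rw [hc h]
        rw [← map_mul, mul_inv_cancel, map_one]
      have h2 : c h = 1 := by
        have e1 : orderOf (c h) ∣ 2 := orderOf_dvd_of_pow_eq_one (by rw [pow_two]; exact h1)
        have e2 : orderOf (c h) ∣ Nat.card H := (orderOf_map_dvd c h).trans (orderOf_dvd_natCard h)
        have e3 := Nat.dvd_gcd e1 e2
        rw [Nat.Coprime.gcd_eq_one (Nat.coprime_two_left.mpr hodd), Nat.dvd_one,
          orderOf_eq_one_iff] at e3
        exact e3
      have h3 := congrArg Subtype.val (DFunLike.congr_fun h2 (⟨a, ha⟩ : commutator H))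
      rwa [MulAut.conjNormal_apply, MulAut.one_apply, mul_inv_eq_iff_eq_mul] at h3
    haveI : Group.IsNilpotent (Abelianization H) := by
      letI : CommGroup (Abelianization H) := inferInstance
      infer_instance
    haveI : Group.IsNilpotent H :=
      Subgroup.isNilpotent_of_ker_le_center π (by rw [Abelianization.ker_of]; exact hcen)
    haveI : IsCyclic H := inferInstance
    refine ⟨fun h => ?_, inferInstance⟩
    have hinj : Function.Injective π := by
      rw [← MonoidHom.ker_eq_bot_iff, Abelianization.ker_of]
      exact (Subgroup.eq_bot_iff_forall _).mpr fun a ha => by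
        rw [commutator_def] at ha
        have h1 : ⁅(⊤ : Subgroup H), ⊤⁆ ≤ ⊥ := Subgroup.commutator_le.mpr fun x _ y _ => by
          rw [Subgroup.mem_bot, commutatorElement_eq_one_iff_mul_comm]
          exact mul_comm' x y
        exact h1 ha
    apply hinj
    rw [← hσQ, hinvQ, map_inv]
  · right
    simp only [MonoidHom.FixedPointFree, not_forall] at hfix
    obtain ⟨x₀, hx₀, hx₀1⟩ := hfix
    obtain ⟨q, hq, hqo⟩ := Nat.exists_prime_and_dvd (show orderOf x₀ ≠ 1 from
      fun h => hx₀1 (orderOf_eq_one_iff.mp h))
    haveI : Fact q.Prime := ⟨hq⟩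
    set x := x₀ ^ (orderOf x₀ / q) with hx
    have hxo : orderOf x = q := by
      rw [hx, orderOf_pow_of_dvd (Nat.div_pos (Nat.le_of_dvd (orderOf_pos x₀) hqo) hq.pos).ne'
        (Nat.div_dvd_of_dvd hqo), Nat.div_div_self hqo (orderOf_pos x₀).ne']
    have hxfix : σQ x = x := by rw [hx, map_pow, hx₀]
    have hqQ : q ∣ Nat.card (Abelianization H) := hxo ▸ orderOf_dvd_natCard x
    have hqH : q ∣ Nat.card H := hqQ.trans (hQH ▸ (commutator H).index_dvd_card)
    set v := (Nat.card (Abelianization H)).factorization q with hv
    set m := Nat.card (Abelianization H) / q ^ v with hm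
    have hmQ : q ^ v * m = Nat.card (Abelianization H) := Nat.ordProj_mul_ordCompl_eq_self _ q
    -- fixed points on the `q`-part
    have hqpart : ∀ y : Abelianization H, y ^ q ^ v = 1 → σQ y = y := by
      intro y hy
      by_contra hne
      set w := σQ y * y⁻¹ with hw
      have hw1 : w ≠ 1 := fun h => hne (mul_inv_eq_one.mp h)
      have hwq : w ^ q ^ v = 1 := by rw [hw, mul_pow, inv_pow, ← map_pow, hy, map_one, inv_one, one_mul]
      have hσw : σQ w = w⁻¹ := by rw [hw, map_mul, map_inv, hσQ2, mul_inv_rev, inv_inv, mul_comm]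
      obtain ⟨j, hj, hwo⟩ := (Nat.dvd_prime_pow hq).mp (orderOf_dvd_of_pow_eq_one hwq)
      obtain ⟨i, rfl⟩ : ∃ i, j = i + 1 := Nat.exists_eq_succ_of_ne_zero (fun h => hw1 (by
        rw [h, pow_zero] at hwo; exact orderOf_eq_one_iff.mp hwo))
      set u := w ^ q ^ i with hu
      have huo : orderOf u = q := by
        rw [hu, orderOf_pow_of_dvd (pow_ne_zero _ hq.ne_zero) (hwo ▸ ⟨q, (pow_succ q i)⟩), hwo,
          pow_succ, Nat.mul_div_cancel_left _ (pow_pos hq.pos i)]
      have hux : u ∈ Subgroup.zpowers x := by
        haveI : IsCyclic (Abelianization H) := inferInstance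
        have h1 : Subgroup.zpowers x = (powMonoidHom q).ker := by
          refine Subgroup.eq_of_le_of_card_ge (Subgroup.zpowers_le.mpr (by
            show x ^ q = 1; rw [← hxo, pow_orderOf_eq_one])) ?_
          rw [IsCyclic.card_powMonoidHom_ker, Nat.card_zpowers, hxo, Nat.gcd_eq_right hqQ]
        rw [h1]
        show u ^ q = 1
        rw [← huo, pow_orderOf_eq_one]
      obtain ⟨k, hk⟩ := Subgroup.mem_zpowers_iff.mp hux
      have h1 : u = u⁻¹ := by
        calc u = σQ u := by rw [← hk, map_zpow, hxfix]
          _ = u⁻¹ := by rw [hu, map_pow, hσw, inv_pow]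
      have h2 : orderOf u ∣ 2 := orderOf_dvd_of_pow_eq_one (by
        rw [pow_two]; nth_rw 2 [h1]; exact mul_inv_cancel u)
      rw [huo, Nat.prime_dvd_prime_iff_eq hq Nat.prime_two] at h2
      subst h2
      exact (Nat.not_even_iff_odd.mpr hQodd) (even_iff_two_dvd.mpr hqQ)
    refine ⟨q, hq, hqH, (powMonoidHom m).comp π, fun h => ?_, ?_⟩
    · show π (σ h) ^ m = π h ^ m
      rw [← hσQ, ← map_pow]
      refine hqpart _ ?_
      rw [← pow_mul, mul_comm, hmQ, pow_card_eq_one']
    · have hcard : (Nat.card H).factorization q = v := by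
        have hA0 : ¬ q ∣ Nat.card (commutator H) := fun h => by
          have := IsZGroup.coprime_commutator_index H
          exact hq.one_lt.ne' (Nat.eq_one_of_dvd_coprimes this h (hQH ▸ hqQ))
        rw [← (commutator H).card_mul_index, ← hQH,
          Nat.factorization_mul Nat.card_pos.ne' Nat.card_pos.ne', Finsupp.add_apply,
          Nat.factorization_eq_zero_of_not_dvd hA0, zero_add]
      rw [hcard, MonoidHom.range_eq_map, ← Subgroup.map_map, Subgroup.map_top_of_surjective π hπ]
      obtain ⟨g, hg⟩ := IsCyclic.exists_generator (α := Abelianization H)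
      have h1 : Subgroup.map (powMonoidHom m) ⊤ = Subgroup.zpowers (g ^ m) := by
        rw [show (⊤ : Subgroup (Abelianization H)) = Subgroup.zpowers g from
          (eq_top_iff.mpr fun y _ => hg y).symm, MonoidHom.map_zpowers]
        rfl
      rw [h1, Nat.card_zpowers, orderOf_pow, orderOf_eq_card_of_forall_mem_zpowers hg,
        Nat.gcd_eq_right ⟨q ^ v, (mul_comm _ _).trans hmQ |>.symm⟩]
      exact Nat.div_eq_of_eq_mul_left (Nat.pos_of_ne_zero fun h => Nat.card_pos.ne' (by
        rw [← hmQ, h, mul_zero])) hmQ.symm

end CfsgLib.Perm.ZGroup
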