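import Cfsg.Agent.Lib.Perm.ZGroup.Mult
import Cfsg.Agent.Lib.Perm.ZGroup.OddAut
import Cfsg.Agent.Lib.Perm.ZGroup.Bound
import Cfsg.Agent.Lib.Perm.Sharp2
import Cfsg.Agent.S0740

/-!
# Zassenhaus groups with abelian kernel: the order of the two-point stabiliser

It is `n - 1` or `(n - 1) / 2`; in the second case it is cyclic and inverted by every element
exchanging the two points.
-/

set_option autoImplicit false

namespace CfsgLib.Perm.ZGroup

open MulAction

universe u v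

variable {G : Type u} {Ω : Type v} [Group G] [Finite G] [MulAction G Ω] [Fintype Ω] {a b : Ω}

namespace Setup

variable (S : Setup G Ω a b)
include S

/-- Either an exchanging involution inverts the stabiliser, or there is a normal complement. -/
theorem odd_dichotomy (hodd : Odd (Nat.card S.H)) {t : G} (ht : t * t = 1) (hta : t • a = b)
    (htb : t • b = a) :
    ((∀ h ∈ S.H, t * h * t⁻¹ = h⁻¹) ∧ IsCyclic S.H) ∨
      ∃ q : ℕ, q.Prime ∧ q ≠ 2 ∧ q ∣ Nat.card S.H ∧ ∃ N : Subgroup G, N.Normal ∧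
        N.index = q ^ (Nat.card G).factorization q ∧ S.F ≤ N ∧
        Nat.card ↥(N ⊓ S.H : Subgroup G) * q ^ (Nat.card S.H).factorization q = Nat.card S.H := by
  classical
  haveI : IsZGroup S.H := ⟨fun p hp P => by
    haveI := Fact.mk hp
    rcases S.sylow P with h | ⟨rfl, m, ⟨e⟩⟩
    · exact h
    · exfalso
      refine Nat.not_even_iff_odd.mpr hodd (even_iff_two_dvd.mpr ?_)
      have h1 := Subgroup.card_subgroup_dvd_card (P : Subgroup S.H)
      rw [show Nat.card (P : Subgroup S.H) = Nat.card (QuaternionGroup (2 ^ m)) from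
        Nat.card_congr e.toEquiv] at h1
      haveI : NeZero (2 ^ m) := ⟨pow_ne_zero _ two_ne_zero⟩
      rw [Nat.card_eq_fintype_card, QuaternionGroup.card] at h1
      exact (show 2 ∣ 4 * 2 ^ m from ⟨2 * 2 ^ m, by ring⟩).trans h1⟩
  have hti : t⁻¹ = t := inv_eq_of_mul_eq_one_right ht
  let σ : S.H ≃* S.H :=
    { toFun := fun h => ⟨_, S.swap_conj_mem hta htb h.2⟩
      invFun := fun h => ⟨_, S.swap_conj_mem hta htb h.2⟩
      left_inv := fun h => Subtype.ext (by
        show t * (t * (h : G) * t⁻¹) * t⁻¹ = h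
        calc t * (t * (h : G) * t⁻¹) * t⁻¹ = (t * t) * h * (t * t)⁻¹ := by group
          _ = h := by rw [ht, one_mul, inv_one, mul_one])
      right_inv := fun h => Subtype.ext (by
        show t * (t * (h : G) * t⁻¹) * t⁻¹ = h
        calc t * (t * (h : G) * t⁻¹) * t⁻¹ = (t * t) * h * (t * t)⁻¹ := by group
          _ = h := by rw [ht, one_mul, inv_one, mul_one])
      map_mul' := fun g h => Subtype.ext (by
        show t * ((g : G) * h) * t⁻¹ = t * g * t⁻¹ * (t * h * t⁻¹)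
        group) }
  rcases inverts_or_invariant_hom hodd σ σ.left_inv with ⟨h1, h2⟩ | ⟨q, hq, hqd, μ, hμ, hcard⟩
  · exact Or.inl ⟨fun h hh => congrArg Subtype.val (h1 ⟨h, hh⟩), h2⟩
  · have hq2 : q ≠ 2 := fun e =>
      Nat.not_even_iff_odd.mpr hodd (even_iff_two_dvd.mpr (e ▸ hqd))
    exact Or.inr ⟨q, hq, hq2, hqd, S.exists_complement hta htb hq hq2 hqd μ hμ hcard⟩

theorem exists_involution : ∃ t : G, t * t = 1 ∧ t • a = b ∧ t • b = a := by
  obtain ⟨⟨t, ht, hta, htb⟩, -⟩ := Cfsg.Agent.S0740.result S.hZ S.hab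
  exact ⟨t, by rw [← pow_two, ← ht, pow_orderOf_eq_one], hta, htb⟩

/-- A normal subgroup containing the kernel is doubly transitive. -/
theorem normal_pair (N : Subgroup G) (hN : N.Normal) (hFN : S.F ≤ N) {x y : Ω}
    (hxy : x ≠ y) : ∃ g ∈ N, g • x = a ∧ g • y = b := by
  haveI := S.hZ.1
  haveI := S.isPretransitive
  obtain ⟨m, hm, hma⟩ : ∃ m ∈ N, m • a ≠ a := by
    by_contra hall
    push Not at hall
    obtain ⟨u, hu, hu1⟩ : ∃ u ∈ S.F, u ≠ 1 := by
      by_contra h
      push Not at h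
      exact S.F_ne_bot ((Subgroup.eq_bot_iff_forall _).mpr h)
    refine hu1 (eq_of_smul_eq_smul (α := Ω) fun z => ?_)
    obtain ⟨g, rfl⟩ := exists_smul_eq G a z
    rw [one_smul]
    have h := hall _ (hN.conj_mem u (hFN hu) g⁻¹)
    rw [inv_inv, mul_smul, mul_smul, inv_smul_eq_iff] at h
    exact h
  have h1 : ∀ z : Ω, ∃ g ∈ N, g • a = z := by
    intro z
    by_cases hz : z = a
    · exact ⟨1, one_mem _, by rw [hz, one_smul]⟩
    · obtain ⟨u, ⟨hu, -⟩⟩ : ∃ u : S.F, (u : G) • (m • a) = z ∧ True :=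
        let ⟨u, hu, _⟩ := S.hreg (m • a) z hma hz
        ⟨u, hu, trivial⟩
      exact ⟨(u : G) * m, mul_mem (hFN u.2) hm, by rw [mul_smul, hu]⟩
  obtain ⟨g, hg, hgx⟩ := h1 x
  have hgy : g⁻¹ • y ≠ a := fun e => hxy (by rw [← hgx, ← e, smul_inv_smul])
  obtain ⟨u, hu, hub⟩ := S.F_exists hgy
  refine ⟨u⁻¹ * g⁻¹, mul_mem (inv_mem (hFN hu)) (inv_mem hg), ?_, ?_⟩
  · rw [mul_smul, inv_smul_eq_iff.mpr hgx.symm, inv_smul_eq_iff]; exact (S.hle hu).symm
  · rw [mul_smul, inv_smul_eq_iff, hub]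

theorem normal_two_pretransitive (N : Subgroup G) (hN : N.Normal) (hFN : S.F ≤ N) :
    IsMultiplyPretransitive N Ω 2 := by
  rw [is_two_pretransitive_iff]
  intro x y z w hxy hzw
  obtain ⟨g, hg, hgx, hgy⟩ := S.normal_pair N hN hFN hxy
  obtain ⟨k, hk, hkz, hkw⟩ := S.normal_pair N hN hFN hzw
  refine ⟨⟨k⁻¹ * g, mul_mem (inv_mem hk) hg⟩, ?_, ?_⟩
  · show (k⁻¹ * g) • x = z
    rw [mul_smul, hgx, inv_smul_eq_iff, hkz]
  · show (k⁻¹ * g) • y = w
    rw [mul_smul, hgy, inv_smul_eq_iff, hkw]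

/-- No normal regular subgroup. -/
theorem not_regular (R : Subgroup G) (hR : R.Normal) (htr : IsPretransitive R Ω) :
    ¬ ∀ x : Ω, stabilizer R x = ⊥ := by
  intro h
  obtain ⟨x, hx⟩ := S.hZ.2.2.2.2 R hR htr
  exact hx (h x)

/-- The restriction of the setup to a normal subgroup with nontrivial two-point stabilisers. -/
noncomputable def restrict (N : Subgroup G) (hN : N.Normal) (hFN : S.F ≤ N)
    (hne : N ⊓ S.H ≠ ⊥) : Setup N Ω a b where
  hZ := by
    classical
    haveI := S.hZ.1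
    refine ⟨⟨fun {g h} e => Subtype.ext (eq_of_smul_eq_smul e)⟩, S.normal_two_pretransitive N hN hFN,
      fun g x y z hxy hyz hxz hx hy hz => Subtype.ext (S.free hxy hxz hyz hx hy hz), ?_, ?_⟩
    · obtain ⟨g, hg, hg1⟩ : ∃ g ∈ N ⊓ S.H, g ≠ 1 := by
        by_contra h
        push Not at h
        exact hne ((Subgroup.eq_bot_iff_forall _).mpr h)
      exact ⟨⟨g, hg.1⟩, fun e => hg1 (congrArg Subtype.val e), a, b, S.hab, hg.2.1, hg.2.2⟩
    intro R hR htr
    by_contra hall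
    push Not at hall
    set R' : Subgroup G := R.map N.subtype with hR'
    have hR'N : R' ≤ N := Subgroup.map_subtype_le R
    have hfree : ∀ r ∈ R', ∀ x : Ω, r • x = x → r = 1 := by
      rintro _ ⟨r, hr, rfl⟩ x hx
      have h1 : (⟨r, hr⟩ : R) ∈ stabilizer R x := hx
      rw [hall x, Subgroup.mem_bot] at h1
      exact congrArg (fun w : R => ((w : N) : G)) h1
    have htrans : ∀ x y : Ω, ∃ r ∈ R', r • x = y := fun x y => by
      obtain ⟨r, hr⟩ := htr.exists_smul_eq x y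
      exact ⟨((r : N) : G), ⟨r, r.2, rfl⟩, hr⟩
    have heq : ∀ r ∈ R', ∀ r' ∈ R', r • a = r' • a → r = r' := fun r hr r' hr' e =>
      inv_mul_eq_one.mp (hfree _ (mul_mem (inv_mem hr) hr') a (by rw [mul_smul, ← e, inv_smul_smul]))
    have hinv : ∀ g ∈ N, ∀ r ∈ R', g * r * g⁻¹ ∈ R' := by
      rintro g hg _ ⟨r, hr, rfl⟩
      exact ⟨⟨g, hg⟩ * r * (⟨g, hg⟩ : N)⁻¹, hR.conj_mem r hr _, rfl⟩
    have hne1 : ∀ r ∈ R', r ≠ 1 → r • a ≠ a := fun r hr h e => h (hfree r hr a e)
    have hconj : ∀ r ∈ R', r ≠ 1 → ∀ r' ∈ R', r' ≠ 1 → ∃ g ∈ N, g * r * g⁻¹ = r' := by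
      intro r hr h1 r' hr' h1'
      obtain ⟨g, hga, hgr⟩ := (is_two_pretransitive_iff.mp (S.normal_two_pretransitive N hN hFN))
        (hne1 r hr h1).symm (hne1 r' hr' h1').symm
      refine ⟨g, g.2, heq _ (hinv g g.2 r hr) r' hr' ?_⟩
      rw [mul_smul, mul_smul, inv_smul_eq_iff.mpr (show a = (g : G) • a from hga.symm)]
      exact hgr
    obtain ⟨r₀, hr₀, hr₀1⟩ : ∃ r ∈ R', r ≠ 1 := by
      obtain ⟨r, hr, e⟩ := htrans a b
      exact ⟨r, hr, fun h => S.hab (by rw [← e, h, one_smul])⟩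
    haveI : Nontrivial R' := ⟨⟨r₀, hr₀⟩, 1, fun e => hr₀1 (congrArg Subtype.val e)⟩
    obtain ⟨p, hp, hpd⟩ := Nat.exists_prime_and_dvd (Finite.one_lt_card (α := R')).ne'
    haveI : Fact p.Prime := ⟨hp⟩
    obtain ⟨r₁, hr₁⟩ := exists_prime_orderOf_dvd_card' (G := R') p hpd
    have hr₁' : (r₁ : G) ≠ 1 := fun e => hp.one_lt.ne' (by
      rw [← hr₁, ← Subgroup.orderOf_coe, e, orderOf_one])
    have hpg : IsPGroup p R' := fun r => ⟨1, by
      by_cases h : (r : G) = 1
      · exact Subtype.ext (by rw [SubmonoidClass.coe_pow, h, one_pow]; rfl)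
      obtain ⟨g, hg, e⟩ := hconj r₁ r₁.2 hr₁' r r.2 h
      refine Subtype.ext ?_
      rw [SubmonoidClass.coe_pow, pow_one, ← e, conj_pow, ← hr₁, ← Subgroup.orderOf_coe,
        pow_orderOf_eq_one, mul_one, mul_inv_cancel]
      rfl⟩
    obtain ⟨z, hz⟩ := @exists_ne _ hpg.center_nontrivial (1 : Subgroup.center R')
    have hcomm : ∀ r ∈ R', ∀ r' ∈ R', r * r' = r' * r := by
      intro r hr r' hr'
      by_cases h1 : r = 1
      · simp [h1]
      have hz' : ((z : R') : G) ≠ 1 := fun e => hz (Subtype.ext (Subtype.ext e))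
      obtain ⟨g, hg, e⟩ := hconj _ (z : R').2 hz' r hr h1
      have h2 := hinv g⁻¹ (inv_mem hg) r' hr'
      have h3 : (g⁻¹ * r' * g⁻¹⁻¹) * (z : R') = (z : R') * (g⁻¹ * r' * g⁻¹⁻¹) :=
        congrArg Subtype.val (Subgroup.mem_center_iff.mp z.2 ⟨_, h2⟩)
      rw [← e]
      calc g * ((z : R') : G) * g⁻¹ * r' = g * (((z : R') : G) * (g⁻¹ * r' * g⁻¹⁻¹)) * g⁻¹ := by group
        _ = g * ((g⁻¹ * r' * g⁻¹⁻¹) * (z : R')) * g⁻¹ := by rw [h3]
        _ = _ := by group
    have hnorm : R'.Normal := by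
      refine ⟨fun r hr g => ?_⟩
      by_cases hgr : g * r * g⁻¹ ∈ R'
      · exact hgr
      exfalso
      set C : Subgroup G := R'.map (MulAut.conj g).toMonoidHom with hC
      have hmemC : g * r * g⁻¹ ∈ C := ⟨r, hr, rfl⟩
      have hCN : C ≤ N := by
        rintro _ ⟨x, hx, rfl⟩
        exact hN.conj_mem x (hR'N hx) g
      have hCinv : ∀ k ∈ N, ∀ x ∈ C, k * x * k⁻¹ ∈ C := by
        rintro k hk _ ⟨x, hx, rfl⟩
        refine ⟨(g⁻¹ * k * g⁻¹⁻¹) * x * (g⁻¹ * k * g⁻¹⁻¹)⁻¹, hinv _ (hN.conj_mem k hk g⁻¹) x hx, ?_⟩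
        show g * (g⁻¹ * k * g⁻¹⁻¹ * x * (g⁻¹ * k * g⁻¹⁻¹)⁻¹) * g⁻¹ = k * (g * x * g⁻¹) * k⁻¹
        group
      by_cases hint : ∃ x ∈ R', x ∈ C ∧ x ≠ 1
      · obtain ⟨x, hx, hxC, hx1⟩ := hint
        have hsub : R' ≤ C := by
          intro y hy
          by_cases hy1 : y = 1
          · rw [hy1]; exact one_mem _
          obtain ⟨k, hk, e⟩ := hconj x hx hx1 y hy hy1
          rw [← e]; exact hCinv k hk x hxC
        have := Subgroup.eq_of_le_of_card_ge hsub
          (by rw [hC, Subgroup.card_map_of_injective (MulAut.conj g).injective])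
        exact hgr (this ▸ hmemC)
      · push Not at hint
        obtain ⟨r', hr', e⟩ := htrans a ((g * r * g⁻¹) • a)
        have hcc : ∀ x ∈ R', ∀ y ∈ C, x * y = y * x := by
          intro x hx y hy
          have h1 : x * y * x⁻¹ * y⁻¹ ∈ C := mul_mem (hCinv x (hR'N hx) y hy) (inv_mem hy)
          have h2 : x * y * x⁻¹ * y⁻¹ ∈ R' := by
            have := mul_mem hx (hinv y (hCN hy) x⁻¹ (inv_mem hx))
            simpa [mul_assoc] using this
          exact commutatorElement_eq_one_iff_mul_comm.mp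
            (by rw [commutatorElement_def]; exact hint _ h2 h1)
        set w := r'⁻¹ * (g * r * g⁻¹) with hw
        have hwa : w • a = a := by rw [hw, mul_smul, ← e, inv_smul_smul]
        have hwc : ∀ x ∈ R', x * w = w * x := fun x hx => by
          calc x * w = (x * r'⁻¹) * (g * r * g⁻¹) := by rw [hw]; exact (mul_assoc _ _ _).symm
            _ = (r'⁻¹ * x) * (g * r * g⁻¹) := by rw [hcomm x hx _ (inv_mem hr')]
            _ = r'⁻¹ * (x * (g * r * g⁻¹)) := mul_assoc _ _ _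
            _ = r'⁻¹ * ((g * r * g⁻¹) * x) := by rw [hcc x hx _ hmemC]
            _ = _ := by rw [hw]; exact (mul_assoc _ _ _).symm
        have hw1 : w = 1 := eq_of_smul_eq_smul (α := Ω) fun y => by
          obtain ⟨x, hx, rfl⟩ := htrans a y
          rw [one_smul, ← mul_smul, ← hwc x hx, mul_smul, hwa]
        exact hgr (inv_mul_eq_one.mp hw1 ▸ hr')
    refine S.not_regular R' hnorm ⟨fun x y => ?_⟩ fun x => ?_
    · obtain ⟨r, hr, e⟩ := htrans x y
      exact ⟨⟨r, hr⟩, e⟩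
    · exact (Subgroup.eq_bot_iff_forall _).mpr fun r hr => Subtype.ext (hfree r r.2 x hr)
  hab := S.hab
  F := S.F.subgroupOf N
  hle := fun u hu => S.hle hu
  hnorm := ⟨fun u hu g => S.F_conj g.2 hu⟩
  hreg := fun y z hy hz => by
    obtain ⟨u, hu, huniq⟩ := S.hreg y z hy hz
    exact ⟨⟨⟨u, hFN u.2⟩, u.2⟩, hu, fun v hv =>
      Subtype.ext (Subtype.ext (congrArg (fun w : S.F => (w : G)) (huniq ⟨((v : N) : G), v.2⟩ hv)))⟩

end Setup

/-- A normal subgroup containing the kernel meets the two-point stabiliser nontrivially. -/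
theorem Setup.normal_inf_ne_bot (S : Setup G Ω a b) (N : Subgroup G) (hN : N.Normal)
    (hFN : S.F ≤ N) : N ⊓ S.H ≠ ⊥ := fun h1 => False.elim <| by
  haveI := S.hZ.1
  have hfree : ∀ (g : N) (x y : Ω), x ≠ y → g • x = x → g • y = y → g = 1 := by
    intro g x y hxy hgx hgy
    obtain ⟨k, hk, hkx, hky⟩ := S.normal_pair N hN hFN hxy
    refine Subtype.ext (conj_eq_one_iff.mp ((Subgroup.eq_bot_iff_forall _).mp h1 (k * g * k⁻¹)
      ⟨hN.conj_mem g g.2 k, ?_, ?_⟩))
    · show (k * g * k⁻¹) • a = a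
      rw [← hkx, mul_smul, inv_smul_smul, mul_smul]; exact congrArg (k • ·) hgx
    · show (k * g * k⁻¹) • b = b
      rw [← hky, mul_smul, inv_smul_smul, mul_smul]; exact congrArg (k • ·) hgy
  obtain ⟨p, j, K, -, -, -, -, -, -, hKtr, hKfree, hKmem, -, -⟩ :=
    CfsgLib.Perm.Sharp2.structure_thm (S.normal_two_pretransitive N hN hFN) hfree
      (by rw [Nat.card_eq_fintype_card]; have := S.three_le; omega)
  refine S.not_regular (K.map N.subtype) ⟨?_⟩ ⟨fun x y => ?_⟩ fun x => ?_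
  · rintro _ ⟨k, hk, rfl⟩ g
    refine ⟨⟨g * k * g⁻¹, hN.conj_mem k k.2 g⟩, (hKmem _).mpr ?_, rfl⟩
    rcases (hKmem k).mp hk with e | e
    · exact Or.inl (Subtype.ext (by rw [e]; simp))
    · refine Or.inr fun y hy => e (g⁻¹ • y) ?_
      have h2 : (g * (k : G) * g⁻¹) • y = y := hy
      rw [mul_smul, mul_smul, ← eq_inv_smul_iff] at h2
      exact h2
  · obtain ⟨k, hk⟩ := hKtr.exists_smul_eq x y
    exact ⟨⟨((k : N) : G), ⟨k, k.2, rfl⟩⟩, hk⟩
  · refine (Subgroup.eq_bot_iff_forall _).mpr fun r hr => ?_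
    obtain ⟨r, ⟨k, hk, rfl⟩⟩ := r
    have h2 : (⟨k, hk⟩ : K) ∈ stabilizer K x := hr
    rw [hKfree x, Subgroup.mem_bot] at h2
    exact Subtype.ext (congrArg (fun w : K => ((w : N) : G)) h2)

/-- The two-point stabiliser has order `n - 1` or `(n - 1) / 2`. -/
theorem small_index : ∀ (m : ℕ) {G : Type u} {Ω : Type v} [Group G] [Finite G] [MulAction G Ω]
    [Fintype Ω] {a b : Ω} (S : Setup G Ω a b), IsMulCommutative S.F → Nat.card S.H = m →
    m = Nat.card S.F - 1 ∨ 2 * m = Nat.card S.F - 1 := by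
  intro m
  induction m using Nat.strong_induction_on with
  | _ m IH =>
    intro G Ω _ _ _ _ a b S hFab hm
    classical
    have hdvd := S.card_H_dvd
    have hn2 := S.two_le_F
    obtain ⟨s, hs⟩ := hdvd
    rw [hm] at hs
    have key : Nat.card S.F - 1 ≤ 2 * m → m = Nat.card S.F - 1 ∨ 2 * m = Nat.card S.F - 1 := by
      intro h
      have h1 : s ≤ 2 := Nat.le_of_mul_le_mul_left (show m * s ≤ m * 2 by omega)
        (by rw [← hm]; exact Nat.card_pos)
      interval_cases s <;> omega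
    by_cases hpar : Even m
    · refine key ?_
      have h1 : Fintype.card Ω - 2 ≤ 2 * Nat.card S.H :=
        bound_of_even S.hZ S.hab (show Even (Nat.card S.H) from hm.symm ▸ hpar)
      have := S.card_F
      omega
    rw [Nat.not_even_iff_odd] at hpar
    obtain ⟨t, ht, hta, htb⟩ := S.exists_involution
    rcases S.odd_dichotomy (hm.symm ▸ hpar) ht hta htb with ⟨hinv, hcyc⟩ | ⟨q, hq, hq2, hqd, N, hN, -, hFN, hcard⟩
    · refine key ?_
      by_contra hlt
      push Not at hlt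
      letI := Fintype.ofFinite G
      refine S.false_of_large_index hta htb hinv hFab (hm.symm ▸ hpar) hcyc ?_
      have h1 : 3 ≤ s := by
        by_contra h
        push Not at h
        have := Nat.mul_le_mul_left m (show s ≤ 2 by omega)
        omega
      rw [hm, hs, mul_comm 3]
      exact Nat.mul_le_mul_left m h1
    · exfalso
      rw [hm] at hcard hqd
      have hv : 1 ≤ m.factorization q :=
        (hq.dvd_iff_one_le_factorization (by rw [← hm]; exact Nat.card_pos.ne')).mp hqd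
      have hq3 : 3 ≤ q ^ m.factorization q := by
        have h2 := hq.two_le
        calc 3 ≤ q := by omega
          _ ≤ _ := Nat.le_self_pow (by omega) q
      set d₀ := Nat.card ↥(N ⊓ S.H : Subgroup G) with hd₀
      have h1 := S.normal_inf_ne_bot N hN hFN
      let S' := S.restrict N hN hFN h1
      have hF' : Nat.card S'.F = Nat.card S.F :=
        Nat.card_congr (Subgroup.subgroupOfEquivOfLe hFN).toEquiv
      have hH' : Nat.card S'.H = d₀ := Nat.card_congr
        { toFun := fun g => ⟨((g : N) : G), (g : N).2, g.2⟩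
          invFun := fun g => ⟨⟨(g : G), g.2.1⟩, g.2.2⟩
          left_inv := fun _ => rfl
          right_inv := fun _ => rfl }
      have hd₀0 : 0 < d₀ := Nat.card_pos
      have hlt : d₀ < m := by
        calc d₀ = d₀ * 1 := (mul_one _).symm
          _ < d₀ * q ^ m.factorization q := Nat.mul_lt_mul_of_pos_left (by omega) hd₀0
          _ = m := hcard
      have hF'ab : IsMulCommutative S'.F := ⟨⟨fun x y => Subtype.ext (Subtype.ext (congrArg (fun w : S.F => (w : G))
        (hFab.is_comm.comm (⟨((x : N) : G), x.2⟩ : S.F) ⟨((y : N) : G), y.2⟩)))⟩⟩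
      have hle : m ≤ Nat.card S.F - 1 := Nat.le_of_dvd (by omega) ⟨s, hs⟩
      have h3 : d₀ * 3 ≤ m := hcard ▸ Nat.mul_le_mul_left d₀ hq3
      rcases IH d₀ hlt S' hF'ab hH' with h | h <;> rw [hF'] at h <;> omega

/-- The structure of the small case. -/
theorem Setup.inverted_cyclic (S : Setup G Ω a b) (hFab : IsMulCommutative S.F)
    (h2d : 2 * Nat.card S.H = Nat.card S.F - 1) :
    IsCyclic S.H ∧ (∀ s : G, s • a = b → s • b = a → ∀ h ∈ S.H, s * h * s⁻¹ = h⁻¹) := by
  classical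
  letI := Fintype.ofFinite G
  have hcF := S.card_F
  obtain ⟨t, hta, htb, hinv⟩ : ∃ t : G, t • a = b ∧ t • b = a ∧ ∀ h ∈ S.H, t * h * t⁻¹ = h⁻¹ := by
    obtain ⟨t, ht, hta, htb⟩ := S.exists_involution
    refine ⟨t, hta, htb, ?_⟩
    by_cases hpar : Even (Nat.card S.H)
    · intro h hh
      have hs : (t * h) * (t * h) = 1 :=
        (swap_of_eq S.hZ S.hab (show Even (Nat.card S.H) from hpar)
          (show Fintype.card Ω - 2 = 2 * Nat.card S.H by omega) (s := t * h)
          (by rw [mul_smul, hh.1, hta]) (by rw [mul_smul, hh.2, htb])).1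
      rw [inv_eq_of_mul_eq_one_right ht]
      exact eq_inv_of_mul_eq_one_left (by rw [← hs]; group)
    · rw [Nat.not_even_iff_odd] at hpar
      rcases S.odd_dichotomy hpar ht hta htb with ⟨hinv, -⟩ | ⟨q, hq, hq2, hqd, N, hN, -, hFN, hcard⟩
      · exact hinv
      exfalso
      have hv : 1 ≤ (Nat.card S.H).factorization q :=
        (hq.dvd_iff_one_le_factorization Nat.card_pos.ne').mp hqd
      have hq3 : 3 ≤ q ^ (Nat.card S.H).factorization q := by
        have := hq.two_le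
        calc 3 ≤ q := by omega
          _ ≤ _ := Nat.le_self_pow (by omega) q
      have h1 := S.normal_inf_ne_bot N hN hFN
      let S' := S.restrict N hN hFN h1
      have hF' : Nat.card S'.F = Nat.card S.F :=
        Nat.card_congr (Subgroup.subgroupOfEquivOfLe hFN).toEquiv
      have hH' : Nat.card S'.H = Nat.card ↥(N ⊓ S.H : Subgroup G) := Nat.card_congr
        { toFun := fun g => ⟨((g : N) : G), (g : N).2, g.2⟩
          invFun := fun g => ⟨⟨(g : G), g.2.1⟩, g.2.2⟩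
          left_inv := fun _ => rfl
          right_inv := fun _ => rfl }
      have hF'ab : IsMulCommutative S'.F := ⟨⟨fun x y => Subtype.ext (Subtype.ext (congrArg (fun w : S.F => (w : G))
        (hFab.is_comm.comm (⟨((x : N) : G), x.2⟩ : S.F) ⟨((y : N) : G), y.2⟩)))⟩⟩
      have h3 := Nat.mul_le_mul_left (Nat.card ↥(N ⊓ S.H : Subgroup G)) hq3
      rw [hcard] at h3
      have : 0 < Nat.card ↥(N ⊓ S.H : Subgroup G) := Nat.card_pos
      rcases small_index _ S' hF'ab hH' with h | h <;> rw [hF'] at h <;> omega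
  have hcomm := S.comm_H hta htb hinv
  refine ⟨S.isCyclic_H hcomm, fun s hsa hsb h hh => ?_⟩
  have hk : t⁻¹ * s ∈ S.H := ⟨show (t⁻¹ * s) • a = a by rw [mul_smul, hsa, inv_smul_eq_iff, hta],
    show (t⁻¹ * s) • b = b by rw [mul_smul, hsb, inv_smul_eq_iff, htb]⟩
  have e : (t⁻¹ * s) * h * (t⁻¹ * s)⁻¹ = h := by
    have := congrArg Subtype.val (hcomm ⟨_, hk⟩ ⟨h, hh⟩)
    rw [show (t⁻¹ * s) * h = h * (t⁻¹ * s) from this, mul_inv_cancel_right]
  rw [← hinv h hh]
  conv_rhs => rw [← e]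
  group

end CfsgLib.Perm.ZGroup
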