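import Cfsg.Agent.Lib.Perm.ZGroup.PSL
import Cfsg.Agent.Lib.Perm.ZGroup.Bound
import Cfsg.Agent.Lib.Perm.ZGroup.Sharp
import Cfsg.Agent.Lib.Classical.SLOrders
import Cfsg.Agent.S0144
import Cfsg.Agent.S0345
import Cfsg.Agent.Lib.Perm.ZGroup.Kernel

/-!
# Simple Zassenhaus groups with abelian kernel
-/

set_option autoImplicit false

namespace CfsgLib.Perm.ZGroup

open MulAction

/-- The order of `PSL(2, F)`. -/
theorem card_psl2_gcd {F : Type*} [Field F] [Fintype F] :
    Nat.gcd 2 (Fintype.card F - 1) * Nat.card (Matrix.ProjectiveSpecialLinearGroup (Fin 2) F)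
      = Fintype.card F * ((Fintype.card F - 1) * (Fintype.card F + 1)) := by
  rw [CfsgLib.Classical.card_psl_mul rfl 2 one_le_two]
  have h := CfsgLib.Classical.card_sl_mul (F := F) rfl 2 one_le_two
  rw [Fin.prod_univ_two, Fin.val_zero, Fin.val_one, pow_zero, pow_one] at h
  have h2 := Fintype.one_lt_card (α := F)
  refine Nat.eq_of_mul_eq_mul_left (show 0 < Fintype.card F - 1 by omega) ?_
  rw [h]
  obtain ⟨k, hk⟩ : ∃ k, Fintype.card F = k + 1 := ⟨_, (Nat.succ_pred_eq_of_pos (by omega)).symm⟩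
  rw [hk, Nat.add_sub_cancel, show (k + 1) ^ 2 - 1 = k * (k + 2) by rw [show (k + 1) ^ 2 = k * (k + 2) + 1 by ring, Nat.add_sub_cancel],
    show (k + 1) ^ 2 - (k + 1) = (k + 1) * k by rw [show (k + 1) ^ 2 = (k + 1) * k + (k + 1) by ring, Nat.add_sub_cancel]]
  ring

/-- A simple group isomorphic to `PSL(2, K)` has `|K| ≥ 4`. -/
theorem three_lt_of_simple_psl {G : Type*} [Group G] [Finite G] [IsSimpleGroup G] {K : Type*} [Field K]
    [Fintype K] (e : G ≃* Matrix.ProjectiveSpecialLinearGroup (Fin 2) K) : 3 < Fintype.card K := by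
  by_contra hle
  have h := card_psl2_gcd (F := K)
  have h1 := Fintype.one_lt_card (α := K)
  have hcard : Nat.card G = 6 ∨ Nat.card G = 12 := by
    rw [Nat.card_congr e.toEquiv]
    rcases (show Fintype.card K = 2 ∨ Fintype.card K = 3 by omega) with hK | hK <;>
      rw [hK] at h <;> norm_num at h <;> omega
  have hs : Group.IsSolvable G := by
    rcases hcard with hc | hc
    · exact Cfsg.Agent.S0144.result 2 3 1 1 Nat.prime_two Nat.prime_three (by rw [hc]; norm_num)
    · exact Cfsg.Agent.S0144.result 2 3 2 1 Nat.prime_two Nat.prime_three (by rw [hc]; norm_num)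
  haveI := IsSimpleGroup.comm_iff_isSolvable.mpr hs
  have hprime : (Nat.card G).Prime := by
    letI : CommGroup G := { ‹Group G› with mul_comm := fun a b => IsSimpleGroup.comm_iff_isSolvable.mpr hs a b }
    exact IsSimpleGroup.prime_card
  rcases hcard with hc | hc <;> rw [hc] at hprime <;> norm_num at hprime

variable {G Ω : Type*} [Group G] [Finite G] [MulAction G Ω] [Fintype Ω] {a b : Ω}

/-- A simple Zassenhaus group with abelian kernel is `PSL(2, K)`, or the degree is `2^f + 1` and the group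
is sharply triply transitive. -/
theorem Setup.simple_abelian [IsSimpleGroup G] (S : Setup G Ω a b) (hFab : IsMulCommutative S.F) :
    (∃ (p f : ℕ) (K : Type) (_ : Field K) (_ : Fintype K), p.Prime ∧ p ≠ 2 ∧
      Fintype.card K = p ^ f ∧ Fintype.card Ω = p ^ f + 1 ∧
      Nonempty (G ≃* Matrix.ProjectiveSpecialLinearGroup (Fin 2) K)) ∨
    (Odd (Fintype.card Ω) ∧ Nat.card S.H = Nat.card S.F - 1 ∧
      IsMultiplyPretransitive G Ω 3 ∧ ∀ t : Fin 3 ↪ Ω, stabilizer G t = ⊥) := by
  classical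
  haveI := S.hZ.1
  rcases small_index _ S hFab rfl with h | h
  · obtain ⟨h3, hsharp⟩ := S.sharply_three_transitive h
    refine Or.inr ⟨Nat.not_even_iff_odd.mp fun heven => ?_, h, h3, hsharp⟩
    have h1 := S.card_F
    have h2 := S.one_lt_H
    exact Cfsg.Agent.S0345.not_simple_of_sharp heven (by omega) h3 hsharp
  · exact Or.inl (psl_of_half S hFab h)

/-- In a simple Zassenhaus group the kernel is abelian, or the two-point stabiliser is cyclic, odd, small
and inverted. -/
theorem Setup.simple_cases [IsSimpleGroup G] (S : Setup G Ω a b) :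
    (IsMulCommutative S.F ∧ ∃ p f : ℕ, p.Prime ∧ Nat.card S.F = p ^ f) ∨
      (IsCyclic S.H ∧ Odd (Nat.card S.H) ∧ 2 * Nat.card S.H < Nat.card S.F - 1 ∧
        ∃ t : G, t • a = b ∧ t • b = a ∧ ∀ h ∈ S.H, t * h * t⁻¹ = h⁻¹) := by
  classical
  by_cases hle : Fintype.card Ω - 2 ≤ 2 * Nat.card S.H
  · obtain ⟨hab, p, f, hp, -, hcard⟩ := kernel_elementary_abelian S.hZ S.hab hle S.F S.hle S.hnorm S.hreg
    have := S.card_F
    exact Or.inl ⟨hab, p, f, hp, by omega⟩
  · have hodd : Odd (Nat.card S.H) := Nat.not_even_iff_odd.mp fun he =>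
      hle (bound_of_even S.hZ S.hab he)
    obtain ⟨hcyc, v, -, hva, hvb, hinv⟩ := Cfsg.Agent.S0345.result S.hZ S.hab
    have := S.card_F
    exact Or.inr ⟨hcyc, hodd, by omega, v, hva, hvb, hinv⟩

end CfsgLib.Perm.ZGroup
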