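import Cfsg.Agent.Lib.Perm.ZGroup.PSL
import Cfsg.Agent.Lib.Perm.SharpThreePGL
import Cfsg.Agent.Lib.Classical.Dickson.PSL
import Cfsg.Agent.Lib.Perm.ZassenhausNormal
import Cfsg.Prelude.Def_Perm

/-!
# Transitive groups of degree `p + 1` and order `(p + 1) p d` with `d < p`

The point stabiliser has a normal subgroup of order `p`, regular on the other points.  With a
regular normal subgroup the group consists of semi-affine maps of the field with `p + 1` elements,
otherwise it is a Zassenhaus group with abelian kernel.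
-/

set_option autoImplicit false

namespace CfsgLib.Perm.ZGroup.PrimePlusOne

open MulAction

variable {α : Type*} [Fintype α]

/-- The point stabiliser: a regular normal subgroup of order `p`, and no element fixes three
points. -/
theorem exists_kernel {p d : ℕ} (hp : p.Prime) (hα : Fintype.card α = p + 1)
    (G : Subgroup (Equiv.Perm α)) [IsPretransitive G α] (hG : Nat.card G = (p + 1) * p * d)
    (hd : d < p) (a : α) :
    ∃ P : Subgroup G, P ≤ stabilizer G a ∧ (P.subgroupOf (stabilizer G a)).Normal ∧ Nat.card P = p ∧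
      (∀ y z : α, y ≠ a → z ≠ a → ∃! u : P, (u : G) • y = z) ∧
      (∀ b : α, b ≠ a → Nat.card ↥(stabilizer G a ⊓ stabilizer G b) = d) ∧
      (∀ g : G, ∀ x y z : α, x ≠ y → y ≠ z → x ≠ z → g • x = x → g • y = y → g • z = z → g = 1) ∧
      IsMultiplyPretransitive G α 2 := by
  classical
  haveI : Fact p.Prime := ⟨hp⟩
  set S := stabilizer G a with hS
  have hd0 : 0 < d := by
    rcases Nat.eq_zero_or_pos d with h | h
    · exact absurd (show Nat.card G = 0 by rw [hG, h, mul_zero]) Nat.card_pos.ne'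
    · exact h
  have hSc : Nat.card S = p * d := by
    have h := (stabilizer G a).index_mul_card
    rw [index_stabilizer_of_transitive G a, Nat.card_eq_fintype_card (α := α), hα, hG] at h
    exact Nat.eq_of_mul_eq_mul_left (Nat.succ_pos p) (h.trans (mul_assoc _ _ _))
  have hndvd : ¬ p ∣ d := fun h => absurd (Nat.le_of_dvd hd0 h) (by omega)
  obtain ⟨Q⟩ : Nonempty (Sylow p S) := inferInstance
  have hQc : Nat.card Q = p := by
    rw [Q.card_eq_multiplicity, hSc, Nat.factorization_mul hp.ne_zero hd0.ne', Finsupp.add_apply,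
      hp.factorization_self, Nat.factorization_eq_zero_of_not_dvd hndvd, add_zero, pow_one]
  have hQn : (Q : Subgroup S).Normal := by
    have h1 : Nat.card (Sylow p S) ∣ d := by
      have h2 : (Q : Subgroup S).index = d := by
        have h3 := (Q : Subgroup S).index_mul_card
        rw [hSc, show Nat.card (Q : Subgroup S) = p from hQc, mul_comm p d] at h3
        exact Nat.eq_of_mul_eq_mul_right hp.pos h3
      exact h2 ▸ Q.card_dvd_index
    have h2 := card_sylow_modEq_one p S
    have h3 : Nat.card (Sylow p S) = 1 := by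
      have h4 : Nat.card (Sylow p S) < p := lt_of_le_of_lt (Nat.le_of_dvd hd0 h1) hd
      rw [Nat.ModEq, Nat.mod_eq_of_lt h4, Nat.mod_eq_of_lt hp.one_lt] at h2
      exact h2
    haveI : Subsingleton (Sylow p S) := (Nat.card_eq_one_iff_unique.mp h3).1
    exact Q.normal_of_subsingleton
  set P : Subgroup G := (Q : Subgroup S).map S.subtype with hP
  have hPle : P ≤ S := Subgroup.map_subtype_le _
  have hPc : Nat.card P = p := by
    rw [hP, Subgroup.card_map_of_injective S.subtype_injective]; exact hQc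
  have hPn : (P.subgroupOf S).Normal := by
    rw [hP, Subgroup.subgroupOf, Subgroup.comap_map_eq_self_of_injective S.subtype_injective]
    exact hQn
  have hPconj : ∀ g ∈ S, ∀ u ∈ P, g * u * g⁻¹ ∈ P := fun g hg u hu =>
    hPn.conj_mem ⟨u, hPle hu⟩ hu ⟨g, hg⟩
  -- the long orbit
  have horb : ∀ y : α, ∀ u ∈ P, u • y ≠ y → ∀ z : α, z ≠ a → ∃ v ∈ P, v • y = z := by
    intro y u hu hne z hz
    have h1 : Nat.card (orbit P y) = p := by
      have h2 := Nat.card_congr (orbitProdStabilizerEquivGroup P y)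
      rw [Nat.card_prod, hPc] at h2
      rcases (Nat.dvd_prime hp).mp (h2 ▸ dvd_mul_right (Nat.card (orbit P y)) _) with h3 | h3
      · exfalso
        obtain ⟨hsub, -⟩ := Nat.card_eq_one_iff_unique.mp h3
        exact hne (congrArg Subtype.val (hsub.elim ⟨u • y, ⟨⟨u, hu⟩, rfl⟩⟩ ⟨y, mem_orbit_self y⟩))
      · exact h3
    have h2 : orbit P y ⊆ ({a} : Set α)ᶜ := by
      rintro _ ⟨⟨v, hv⟩, rfl⟩ e
      have e' : v • y = a := e
      have hy : y = a := MulAction.injective v (e'.trans (hPle hv).symm)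
      exact hne (by rw [hy]; exact hPle hu)
    have h3 : orbit P y = ({a} : Set α)ᶜ := by
      refine Set.eq_of_subset_of_ncard_le h2 ?_ (Set.toFinite _)
      rw [Set.ncard_compl, Set.ncard_singleton, Nat.card_eq_fintype_card, hα, ← Nat.card_coe_set_eq, h1]
      omega
    obtain ⟨⟨v, hv⟩, hvy⟩ : z ∈ orbit P y := h3 ▸ hz
    exact ⟨v, hv, hvy⟩
  have htrP : ∀ y z : α, y ≠ a → z ≠ a → ∃ v ∈ P, v • y = z := by
    intro y z hy hz
    obtain ⟨u, hu, hu1⟩ : ∃ u ∈ P, u ≠ 1 := by
      by_contra h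
      push Not at h
      rw [(Subgroup.eq_bot_iff_forall _).mpr h, Subgroup.card_bot] at hPc
      exact hp.one_lt.ne hPc
    obtain ⟨w, hw⟩ : ∃ w : α, u • w ≠ w := by
      by_contra h
      push Not at h
      exact hu1 (Subtype.ext (Equiv.ext fun x => h x))
    have hwa : w ≠ a := fun e => hw (by rw [e]; exact hPle hu)
    obtain ⟨v₁, hv₁, e₁⟩ := horb w u hu hw y hy
    obtain ⟨v₂, hv₂, e₂⟩ := horb w u hu hw z hz
    exact ⟨v₂ * v₁⁻¹, mul_mem hv₂ (inv_mem hv₁), by rw [← e₁, mul_smul, inv_smul_smul, e₂]⟩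
  have hreg : ∀ y z : α, y ≠ a → z ≠ a → ∃! u : P, (u : G) • y = z := by
    intro y z hy hz
    let φ : P → {w : α // w ≠ a} := fun u =>
      ⟨(u : G) • y, fun e => hy (MulAction.injective (u : G) (e.trans (hPle u.2).symm))⟩
    have hs : Function.Surjective φ := fun w => by
      obtain ⟨v, hv, e⟩ := htrP y w hy w.2
      exact ⟨⟨v, hv⟩, Subtype.ext e⟩
    have hb : Function.Bijective φ := (Nat.bijective_iff_surjective_and_card φ).mpr ⟨hs, by
      rw [hPc, Nat.card_eq_fintype_card, Fintype.card_subtype_compl, Fintype.card_subtype_eq, hα]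
      omega⟩
    obtain ⟨u, hu⟩ := hs ⟨z, hz⟩
    exact ⟨u, congrArg Subtype.val hu, fun v hv =>
      hb.1 ((Subtype.ext hv : φ v = ⟨z, hz⟩).trans hu.symm)⟩
  have hfree_a : ∀ g : G, ∀ b c : α, b ≠ a → c ≠ a → b ≠ c → g • a = a → g • b = b → g • c = c →
      g = 1 := by
    intro g b c hb hc hbc hga hgb hgc
    obtain ⟨u, hu, hubc⟩ := htrP b c hb hc
    have hu1 : u ≠ 1 := fun e => hbc (by rw [← hubc, e, one_smul])
    have hfix : g * u * g⁻¹ = u := congrArg Subtype.val ((hreg b c hb hc).unique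
      (y₁ := ⟨_, hPconj g hga u hu⟩) (y₂ := ⟨u, hu⟩)
      (by show (g * u * g⁻¹) • b = c
          rw [mul_smul, mul_smul, inv_smul_eq_iff.mpr hgb.symm, hubc, hgc]) hubc)
    have hcomm : g * u = u * g := mul_inv_eq_iff_eq_mul.mp hfix
    refine Subtype.ext (Equiv.ext fun x => ?_)
    show g • x = x
    by_cases hx : x = a
    · rw [hx]; exact hga
    obtain ⟨v, hv, rfl⟩ := htrP b x hb hx
    haveI : IsCyclic P := isCyclic_of_prime_card hPc
    have hgen : (⟨v, hv⟩ : P) ∈ Subgroup.zpowers (⟨u, hu⟩ : P) :=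
      mem_zpowers_of_prime_card hPc (fun e => hu1 (congrArg Subtype.val e))
    obtain ⟨i, hi⟩ := Subgroup.mem_zpowers_iff.mp hgen
    have hgv : g * v = v * g := by
      rw [show v = u ^ i from (congrArg Subtype.val hi).symm.trans (SubgroupClass.coe_zpow _ _)]
      exact (Commute.zpow_right hcomm i).eq
    rw [← mul_smul, hgv, mul_smul, hgb]
  have hfree : ∀ g : G, ∀ x y z : α, x ≠ y → y ≠ z → x ≠ z → g • x = x → g • y = y → g • z = z →
      g = 1 := by
    intro g x y z hxy hyz hxz hx hy hz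
    obtain ⟨k, hk⟩ := exists_smul_eq G x a
    refine conj_eq_one_iff.mp (hfree_a (k * g * k⁻¹) (k • y) (k • z) ?_ ?_ ?_ ?_ ?_ ?_)
    · rw [← hk]; exact fun e => hxy (MulAction.injective k e).symm
    · rw [← hk]; exact fun e => hxz (MulAction.injective k e).symm
    · exact fun e => hyz (MulAction.injective k e)
    · rw [← hk, mul_smul, inv_smul_smul, mul_smul, hx]
    · rw [mul_smul, inv_smul_smul, mul_smul, hy]
    · rw [mul_smul, inv_smul_smul, mul_smul, hz]
  refine ⟨P, hPle, hPn, hPc, hreg, fun b hb => ?_, hfree, ?_⟩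
  · let φ : S → {w : α // w ≠ a} := fun g =>
      ⟨(g : G) • b, fun e => hb (MulAction.injective (g : G) (e.trans g.2.symm))⟩
    let H := stabilizer G a ⊓ stabilizer G b
    have hcount : Nat.card S = p * Nat.card H := by
      rw [← hPc, ← Nat.card_prod]
      refine (Nat.card_congr (Equiv.ofBijective (fun x : P × H =>
        (⟨(x.1 : G) * x.2, mul_mem (hPle x.1.2) x.2.2.1⟩ : S)) ⟨?_, ?_⟩)).symm
      · intro x y e
        have e' : (x.1 : G) * x.2 = y.1 * y.2 := congrArg Subtype.val e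
        have e1 : (x.1 : G) • b = (y.1 : G) • b := by
          have h := congrArg (· • b) e'
          simp only [mul_smul] at h
          rwa [show (x.2 : G) • b = b from x.2.2.2, show (y.2 : G) • b = b from y.2.2.2] at h
        have e2 : x.1 = y.1 := (hreg b ((x.1 : G) • b) hb (φ ⟨x.1, hPle x.1.2⟩).2).unique rfl e1.symm
        rw [e2, mul_right_inj] at e'
        exact Prod.ext e2 (Subtype.ext e')
      · intro g
        obtain ⟨u, hu, hub⟩ := htrP b _ hb (φ g).2
        refine ⟨(⟨u, hu⟩, ⟨u⁻¹ * g, ?_, ?_⟩), Subtype.ext (mul_inv_cancel_left u _)⟩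
        · exact (mul_mem (inv_mem (hPle hu : u ∈ S)) g.2 : u⁻¹ * (g : G) ∈ S)
        · show (u⁻¹ * (g : G)) • b = b
          rw [mul_smul, inv_smul_eq_iff]; exact hub.symm
    rw [hSc] at hcount
    exact (Nat.eq_of_mul_eq_mul_left hp.pos hcount).symm
  · rw [is_two_pretransitive_iff]
    intro x y z w hxy hzw
    obtain ⟨g, hg⟩ := exists_smul_eq G x a
    obtain ⟨k, hk⟩ := exists_smul_eq G z a
    obtain ⟨v, hv, e⟩ := htrP (g • y) (k • w)
      (fun e => hxy (MulAction.injective g (hg.trans e.symm)))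
      (fun e => hzw (MulAction.injective k (hk.trans e.symm)))
    refine ⟨k⁻¹ * (v * g), ?_, ?_⟩
    · rw [mul_smul, mul_smul, hg, show v • a = a from hPle hv, ← hk, inv_smul_smul]
    · rw [mul_smul, mul_smul, e, inv_smul_smul]

/-- With a regular normal subgroup: semi-affine maps. -/
theorem semiaffine_case {p : ℕ} (hp : p.Prime) (hp2 : p ≠ 2) (hα : Fintype.card α = p + 1)
    (G : Subgroup (Equiv.Perm α)) (h2 : IsMultiplyPretransitive G α 2) {a b : α} (hab : a ≠ b)
    (P : Subgroup G) (hPle : P ≤ stabilizer G a) (hPn : (P.subgroupOf (stabilizer G a)).Normal)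
    (hPc : Nat.card P = p) (hreg : ∀ y z : α, y ≠ a → z ≠ a → ∃! u : P, (u : G) • y = z)
    (N : Subgroup G) [N.Normal] [IsPretransitive N α] (hNr : ∀ x : α, stabilizer N x = ⊥) :
    ∃ q : ℕ, q.Prime ∧ p + 1 = 2 ^ q ∧ Nat.card ↥(stabilizer G a ⊓ stabilizer G b) ∣ q ∧
      ∃ e : α ≃ GaloisField 2 q,
        ∀ g : G, (e.symm.trans (((g : Equiv.Perm α)).trans e)) ∈ Cfsg.semiaffineGroup (GaloisField 2 q) := by
  classical
  haveI : Fact p.Prime := ⟨hp⟩
  haveI : Fact (Nat.Prime 2) := ⟨Nat.prime_two⟩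
  have hNc := ZassenhausNormal.regular_comm h2 N hNr a
  have hNcard : Nat.card N = p + 1 := by
    rw [Perm.Normal.regular_card N hNr a, Nat.card_eq_fintype_card, hα]
  have hNne : ∀ n ∈ N, n ≠ 1 → n • a ≠ a := fun n hn h1 e =>
    h1 (ZassenhausNormal.regular_unique hNr hn (one_mem N) (by rw [e, one_smul]))
  have hPconj : ∀ g : G, g • a = a → ∀ u ∈ P, g * u * g⁻¹ ∈ P := fun g hg u hu =>
    hPn.conj_mem ⟨u, hPle hu⟩ hu ⟨g, hg⟩
  have hconjN : ∀ g : G, g • a = a → ∀ n ∈ N, (g * n * g⁻¹) • a = g • (n • a) := fun g hg n _ => by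
    rw [mul_smul, mul_smul, inv_smul_eq_iff.mpr hg.symm]
  have htrN : ∀ n ∈ N, n ≠ 1 → ∀ m ∈ N, m ≠ 1 → ∃ u ∈ P, u * n * u⁻¹ = m := by
    intro n hn hn1 m hm hm1
    obtain ⟨⟨u, hu⟩, e, -⟩ := hreg _ _ (hNne n hn hn1) (hNne m hm hm1)
    exact ⟨u, hu, ZassenhausNormal.regular_unique hNr (Subgroup.Normal.conj_mem ‹_› n hn u) hm
      (x := a) ((hconjN u (hPle hu) n hn).trans e)⟩
  -- exponent two
  have hodd : 2 ∣ p + 1 := by
    obtain ⟨r, hr⟩ := hp.odd_of_ne_two hp2
    exact ⟨r + 1, by omega⟩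
  obtain ⟨z, hz⟩ := exists_prime_orderOf_dvd_card' (G := N) 2 (hNcard ▸ hodd)
  have hz1 : (z : G) ≠ 1 := fun e => by
    rw [← Subgroup.orderOf_coe, e, orderOf_one] at hz
    omega
  have hexp : ∀ n ∈ N, n ^ 2 = 1 := by
    intro n hn
    rcases eq_or_ne n 1 with rfl | h
    · exact one_pow 2
    obtain ⟨u, -, e⟩ := htrN z z.2 hz1 n hn h
    rw [← e, conj_pow, ← hz, ← Subgroup.orderOf_coe, pow_orderOf_eq_one, mul_one, mul_inv_cancel]
  obtain ⟨q, hq⟩ := IsPGroup.iff_card.mp
    (show IsPGroup 2 N from fun n => ⟨1, Subtype.ext (by simpa using hexp n n.2)⟩)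
  rw [hNcard] at hq
  have hq1 : q ≠ 1 := by rintro rfl; have := hp.two_le; omega
  have hqp : q.Prime := (Nat.prime_of_pow_sub_one_prime (a := 2) hq1 (by
    rw [← hq, Nat.add_sub_cancel]; exact hp)).2
  letI : CommGroup N := { (inferInstance : Group N) with
    mul_comm := fun x y => Subtype.ext (hNc x x.2 y y.2) }
  let act : G → Additive N →+ Additive N := fun g =>
    MonoidHom.toAdditive (MulAut.conjNormal (H := N) g).toMonoidHom
  have hact : ∀ (g : G) (v : Additive N),
      ((Additive.toMul (act g v) : N) : G) = g * (Additive.toMul v : N) * g⁻¹ := fun g v =>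
    MulAut.conjNormal_apply g (Additive.toMul v)
  have hactm : ∀ g h v, act (g * h) v = act g (act h v) := fun g h v =>
    Additive.toMul.injective (Subtype.ext (by simp only [hact]; group))
  have hact1 : ∀ v, act 1 v = v := fun v =>
    Additive.toMul.injective (Subtype.ext (by simp only [hact]; group))
  haveI : IsCyclic P := isCyclic_of_prime_card hPc
  -- the point `b`
  obtain ⟨n₁, hn₁⟩ := exists_smul_eq N a b
  have hn₁1 : n₁ ≠ 1 := fun e => hab (by rw [← hn₁, e, one_smul])
  have htrV : ∀ v w : Additive N, v ≠ 0 → w ≠ 0 → ∃ u : P, act u v = w := by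
    intro v w hv hw
    obtain ⟨u, hu, e⟩ := htrN _ (Additive.toMul v).2 (fun e => hv (Additive.toMul.injective (Subtype.ext e)))
      _ (Additive.toMul w).2 (fun e => hw (Additive.toMul.injective (Subtype.ext e)))
    exact ⟨⟨u, hu⟩, Additive.toMul.injective (Subtype.ext ((hact u v).trans e))⟩
  have hirr : ∀ W : AddSubgroup (Additive N), (∀ u : P, ∀ x ∈ W, act u x ∈ W) → W = ⊥ ∨ W = ⊤ := by
    intro W hW
    by_cases h : ∃ x ∈ W, x ≠ 0
    · obtain ⟨x, hx, hx0⟩ := h
      refine Or.inr (eq_top_iff.mpr fun w _ => ?_)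
      rcases eq_or_ne w 0 with rfl | hw
      · exact W.zero_mem
      obtain ⟨u, rfl⟩ := htrV x w hx0 hw
      exact hW u x hx
    · push Not at h
      exact Or.inl ((AddSubgroup.eq_bot_iff_forall _).mpr h)
  obtain ⟨E, χ, hE1, hχ⟩ := exists_field_of_irreducible (V := Additive N) (p := 2) (f := q)
    hqp.ne_zero (hNcard.trans hq)
    (fun x => Additive.toMul.injective (Subtype.ext (by
      rw [toMul_nsmul, toMul_zero, SubmonoidClass.coe_pow]; exact hexp _ (Additive.toMul x).2)))
    (fun u : P => act (u : G)) (fun x => by rw [Subgroup.coe_one]; exact hact1 x)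
    (fun u v x => by rw [Subgroup.coe_mul]; exact hactm _ _ x) hirr
    (ε := Additive.ofMul n₁) (fun h => hn₁1 (congrArg Additive.toMul h))
  -- coordinates
  let ψ : GaloisField 2 q → α := fun x => ((Additive.toMul (E.symm x) : N) : G) • a
  have hψbij : Function.Bijective ψ := by
    constructor
    · intro x y e
      exact E.symm.injective (Additive.toMul.injective
        (Subtype.ext (ZassenhausNormal.regular_unique hNr (Subtype.prop _) (Subtype.prop _) e)))
    · intro y
      obtain ⟨n, hn⟩ := exists_smul_eq N a y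
      exact ⟨E (Additive.ofMul n), by show ((Additive.toMul (E.symm (E (Additive.ofMul n))) : N) : G) • a = y
                                      rw [E.symm_apply_apply]; exact hn⟩
  set e : α ≃ GaloisField 2 q := (Equiv.ofBijective ψ hψbij).symm with he
  have heψ : ∀ x, e (ψ x) = x := fun x => by
    rw [he]; exact (Equiv.ofBijective ψ hψbij).symm_apply_apply x
  have hesymm : ∀ x, e.symm x = ψ x := fun x => by rw [he, Equiv.symm_symm]; rfl
  let θ : G →* Equiv.Perm (GaloisField 2 q) := e.permCongrHom.toMonoidHom.comp G.subtype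
  have hθ : ∀ (g : G) (x : GaloisField 2 q), θ g x = e (g • ψ x) := fun g x => by
    show e ((g : Equiv.Perm α) (e.symm x)) = _
    rw [hesymm]; rfl
  -- the stabiliser acts semilinearly
  let F₀ : G → GaloisField 2 q →+ GaloisField 2 q := fun g =>
    E.toAddMonoidHom.comp ((act g).comp E.symm.toAddMonoidHom)
  have hF₀ : ∀ g x, F₀ g x = E (act g (E.symm x)) := fun _ _ => rfl
  have hθF : ∀ g : G, g • a = a → ∀ x, θ g x = F₀ g x := by
    intro g hg x
    rw [hθ, show g • ψ x = ψ (F₀ g x) from ?_, heψ]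
    show g • ((Additive.toMul (E.symm x) : N) : G) • a =
      ((Additive.toMul (E.symm (E (act g (E.symm x)))) : N) : G) • a
    rw [E.symm_apply_apply, hact, hconjN g hg _ (Additive.toMul (E.symm x)).2]
  have hF₀inv : ∀ g x, F₀ g⁻¹ (F₀ g x) = x := fun g x => by
    rw [hF₀, hF₀, E.symm_apply_apply, ← hactm, inv_mul_cancel, hact1, E.apply_symm_apply]
  have hsemi : ∀ g : G, g • a = a → ∀ x y, F₀ g (x * y) * F₀ g 1 = F₀ g x * F₀ g y := by
    intro g hg x y
    rcases eq_or_ne x 0 with rfl | hx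
    · rw [zero_mul, map_zero, zero_mul, zero_mul]
    obtain ⟨u, hu⟩ := htrV (Additive.ofMul n₁) (E.symm x)
      (fun h => hn₁1 (congrArg Additive.toMul h)) (fun h => hx (by simpa using congrArg E h))
    have hux : χ u = x := by
      have h := hχ u (Additive.ofMul n₁)
      rw [hu, E.apply_symm_apply, hE1, mul_one] at h
      exact h.symm
    have key : ∀ w, F₀ g (χ u * w) = χ ⟨g * u * g⁻¹, hPconj g hg u u.2⟩ * F₀ g w := by
      intro w
      rw [hF₀, hF₀, ← hχ, show E.symm (χ u * w) = act u (E.symm w) from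
        E.injective (by rw [E.apply_symm_apply, hχ, E.apply_symm_apply]), ← hactm, ← hactm]
      congr 2
      group
    rw [← hux, key y]
    have h1 := key 1
    rw [mul_one] at h1
    rw [h1]
    ring
  have hF1 : ∀ g, F₀ g 1 ≠ 0 := fun g h => by
    have h2 := hF₀inv g 1
    rw [h, map_zero] at h2
    exact zero_ne_one h2
  have hauto : ∀ g : G, g • a = a → ∃ φ : GaloisField 2 q ≃+* GaloisField 2 q,
      ∀ x, F₀ g x = F₀ g 1 * φ x := by
    intro g hg
    have hb : Function.Bijective fun x => F₀ g x / F₀ g 1 := by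
      refine Finite.injective_iff_bijective.mp fun x y h => ?_
      rw [← hF₀inv g x, ← hF₀inv g y, (div_left_inj' (hF1 g)).mp h]
    refine ⟨{ Equiv.ofBijective _ hb with
      map_mul' := fun x y => ?_
      map_add' := fun x y => ?_ }, fun x => ?_⟩
    · show F₀ g (x * y) / F₀ g 1 = F₀ g x / F₀ g 1 * (F₀ g y / F₀ g 1)
      field_simp [hF1 g]
      linear_combination hsemi g hg x y
    · show F₀ g (x + y) / F₀ g 1 = F₀ g x / F₀ g 1 + F₀ g y / F₀ g 1
      rw [map_add, add_div]
    · show F₀ g x = F₀ g 1 * (F₀ g x / F₀ g 1)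
      rw [mul_div_cancel₀ _ (hF1 g)]
  have hmem : ∀ g : G, θ g ∈ Cfsg.semiaffineGroup (GaloisField 2 q) := by
    have hN' : ∀ n ∈ N, θ n ∈ Cfsg.semiaffineGroup (GaloisField 2 q) := by
      intro n hn
      refine ⟨1, E (Additive.ofMul ⟨n, hn⟩), RingEquiv.refl _, fun x => ?_⟩
      rw [Units.val_one, one_mul, RingEquiv.refl_apply, hθ,
        show n • ψ x = ψ (x + E (Additive.ofMul ⟨n, hn⟩)) from ?_, heψ]
      show n • ((Additive.toMul (E.symm x) : N) : G) • a =
        ((Additive.toMul (E.symm (x + E (Additive.ofMul ⟨n, hn⟩))) : N) : G) • a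
      rw [map_add, E.symm_apply_apply, toMul_add, toMul_ofMul, ← mul_smul, Subgroup.coe_mul]
      congr 1
      exact hNc n hn _ (Subtype.prop _)
    intro g
    obtain ⟨n, hn⟩ := exists_smul_eq N a (g • a)
    have hs : ((n : G)⁻¹ * g) • a = a := by rw [mul_smul, inv_smul_eq_iff]; exact hn.symm
    have h1 : θ ((n : G)⁻¹ * g) ∈ Cfsg.semiaffineGroup (GaloisField 2 q) := by
      obtain ⟨φ, hφ⟩ := hauto _ hs
      exact ⟨Units.mk0 _ (hF1 ((n : G)⁻¹ * g)), 0, φ, fun x => by
        rw [Units.val_mk0, add_zero, hθF _ hs, hφ]⟩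
    have h2 := mul_mem (hN' n n.2) h1
    rwa [← map_mul, mul_inv_cancel_left] at h2
  refine ⟨q, hqp, hq, ?_, e, hmem⟩
  -- the two-point stabiliser consists of field automorphisms
  set H := stabilizer G a ⊓ stabilizer G b with hH
  have hψ1 : ψ 1 = b := by
    show ((Additive.toMul (E.symm 1) : N) : G) • a = b
    rw [← hE1, E.symm_apply_apply]; exact hn₁
  have hFH : ∀ h : H, F₀ h 1 = 1 := fun h => by
    rw [← hθF h h.2.1, hθ, hψ1, show (h : G) • b = b from h.2.2, ← hψ1, heψ]
  have hφH : ∀ h : H, ∃ σ : GaloisField 2 q ≃ₐ[ZMod 2] GaloisField 2 q, ∀ x, σ x = F₀ h x := by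
    intro h
    obtain ⟨φ, hφ⟩ := hauto h h.2.1
    refine ⟨AlgEquiv.ofRingEquiv (f := φ) fun r => ?_, fun x => ?_⟩
    · exact congrFun (congrArg (fun F : ZMod 2 →+* GaloisField 2 q => (F : ZMod 2 → GaloisField 2 q))
        (RingHom.ext_zmod (φ.toRingHom.comp (algebraMap (ZMod 2) (GaloisField 2 q))) (algebraMap _ _))) r
    · show φ x = F₀ h x
      rw [hφ, hFH, one_mul]
  choose σ hσ using hφH
  let Φ : H →* (GaloisField 2 q ≃ₐ[ZMod 2] GaloisField 2 q) := MonoidHom.mk' σ fun g h =>
    AlgEquiv.ext fun x => by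
      rw [AlgEquiv.mul_apply, hσ, hσ, hσ, Subgroup.coe_mul, hF₀, hF₀, hF₀, E.symm_apply_apply, hactm]
  have hΦ : Function.Injective Φ := by
    intro g h hgh
    refine Subtype.ext (Subtype.ext (Equiv.ext fun y => ?_))
    obtain ⟨x, rfl⟩ := hψbij.2 y
    have e' : F₀ g x = F₀ h x := by rw [← hσ, ← hσ]; exact DFunLike.congr_fun hgh x
    show (g : G) • ψ x = (h : G) • ψ x
    apply e.injective
    rw [← hθ, ← hθ, hθF _ g.2.1, hθF _ h.2.1, e']
  have hcard := Subgroup.card_dvd_of_injective Φ hΦ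
  rwa [IsGalois.card_aut_eq_finrank, GaloisField.finrank _ hqp.ne_zero] at hcard

end CfsgLib.Perm.ZGroup.PrimePlusOne
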