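import Cfsg.Agent.Lib.Perm.ZGroup.Transfer
import Cfsg.Agent.Lib.Char.ZassenhausInduced
import Cfsg.Agent.Lib.Char.Orth

/-!
# The principal series of a Zassenhaus group with inverted two-point stabiliser

If an element exchanging the two points inverts the (abelian) two-point stabiliser `H`, the
characters induced from the linear characters of the point stabiliser that are trivial on the kernel
have inner products `[λ = μ] + [λ μ = 1]`.
-/

set_option autoImplicit false

open scoped ComplexConjugate

namespace CfsgLib.Perm.ZGroup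

open MulAction CfsgLib.Char

universe u v

variable {G : Type u} {Ω : Type v} [Group G] [Finite G] [MulAction G Ω] [Fintype Ω] {a b : Ω}

namespace Setup

variable (S : Setup G Ω a b)
include S

theorem proj_unique {u u' h h' : G} (hu : u ∈ S.F) (hu' : u' ∈ S.F) (hh : h ∈ S.H) (hh' : h' ∈ S.H)
    (e : u * h = u' * h') : u = u' ∧ h = h' := by
  have h1 : u = u' := S.F_eq_of_smul hu hu' (by
    have h2 := congrArg (· • b) e
    simp only [mul_smul] at h2
    rwa [hh.2, hh'.2] at h2)
  exact ⟨h1, mul_left_cancel (h1 ▸ e)⟩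

/-- The projection of the point stabiliser onto the two-point stabiliser along the kernel. -/
noncomputable def proj : stabilizer G a →* S.H :=
  MonoidHom.mk' (fun g => ⟨_, (S.exists_mul g.2).choose_spec.2.choose_spec.1⟩) fun g g' => by
    obtain ⟨hu, hh, he⟩ : _ ∧ (S.exists_mul g.2).choose_spec.2.choose ∈ S.H ∧ _ :=
      ⟨(S.exists_mul g.2).choose_spec.1, (S.exists_mul g.2).choose_spec.2.choose_spec⟩
    obtain ⟨hu', hh', he'⟩ : _ ∧ (S.exists_mul g'.2).choose_spec.2.choose ∈ S.H ∧ _ :=
      ⟨(S.exists_mul g'.2).choose_spec.1, (S.exists_mul g'.2).choose_spec.2.choose_spec⟩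
    obtain ⟨hu'', hh'', he''⟩ : _ ∧ (S.exists_mul (g * g').2).choose_spec.2.choose ∈ S.H ∧ _ :=
      ⟨(S.exists_mul (g * g').2).choose_spec.1, (S.exists_mul (g * g').2).choose_spec.2.choose_spec⟩
    apply Subtype.ext
    refine (S.proj_unique hu'' (mul_mem hu (S.F_conj hh.1 hu')) hh'' (mul_mem hh hh') ?_).2
    rw [← he'', Subgroup.coe_mul]
    conv_lhs => rw [he, he']
    group

theorem proj_mul {u h : G} (hu : u ∈ S.F) (hh : h ∈ S.H) (hm : u * h ∈ stabilizer G a) :
    S.proj ⟨u * h, hm⟩ = ⟨h, hh⟩ := by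
  apply Subtype.ext
  obtain ⟨hu', hh', he'⟩ :=
    (⟨(S.exists_mul hm).choose_spec.1, (S.exists_mul hm).choose_spec.2.choose_spec⟩ :
      _ ∧ (S.exists_mul hm).choose_spec.2.choose ∈ S.H ∧ _)
  exact (S.proj_unique hu' hu hh' hh he'.symm).2

theorem proj_F {u : G} (hu : u ∈ S.F) : S.proj ⟨u, S.hle hu⟩ = 1 := by
  have h := S.proj_mul hu (one_mem S.H) (by rw [mul_one]; exact S.hle hu)
  simp only [mul_one] at h
  exact h

theorem proj_H {h : G} (hh : h ∈ S.H) : S.proj ⟨h, hh.1⟩ = ⟨h, hh⟩ := by
  have e := S.proj_mul (one_mem S.F) hh (by rw [one_mul]; exact hh.1)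
  simp only [one_mul] at e
  exact e

/-- The linear character of the point stabiliser given by one of the two-point stabiliser. -/
noncomputable def lift (l : S.H →* ℂˣ) : stabilizer G a →* ℂˣ := l.comp S.proj

theorem lift_injective : Function.Injective S.lift := fun l l' h => MonoidHom.ext fun x => by
  have := DFunLike.congr_fun h ⟨(x : G), x.2.1⟩
  simp only [lift, MonoidHom.comp_apply, S.proj_H x.2] at this
  exact this

variable [Fintype G]

/-- The induced character. -/
noncomputable def ind (l : S.H →* ℂˣ) : G → ℂ :=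
  Cfsg.indFun (stabilizer G a) fun m => (S.lift l m : ℂ)

theorem ind_isCharacter (l : S.H →* ℂˣ) : Cfsg.IsCharacter G (S.ind l) :=
  IsCharacter.indFun (H := stabilizer G a) (isCharacter_hom (S.lift l))

theorem ind_one (l : S.H →* ℂˣ) : S.ind l 1 = (Nat.card S.F : ℂ) + 1 := by
  haveI := S.isPretransitive
  rw [ind, indFun_one, map_one, Units.val_one, mul_one, MulAction.index_stabilizer_of_transitive,
    Nat.card_eq_fintype_card, ← S.card_F]
  push_cast
  rfl

theorem exists_reps : ∃ r : Ω → G, (∀ c, r c • a = c) ∧ (∀ c, c ≠ a → r c • c = a) ∧ r a = 1 := by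
  classical
  have h : ∀ c : Ω, ∃ g : G, g • a = c ∧ (c ≠ a → g • c = a) ∧ (c = a → g = 1) := by
    intro c
    by_cases hc : c = a
    · exact ⟨1, by rw [one_smul, hc], fun h => absurd hc h, fun _ => rfl⟩
    · obtain ⟨g, h1, h2⟩ := S.pair (Ne.symm hc) hc
      exact ⟨g, h1, fun _ => h2, fun h => absurd h hc⟩
  choose r h1 h2 h3 using h
  exact ⟨r, h1, h2, h3 a rfl⟩

theorem ind_F (l : S.H →* ℂˣ) {u : G} (hu : u ∈ S.F) (hu1 : u ≠ 1) : S.ind l u = 1 := by
  classical
  haveI := S.isPretransitive
  obtain ⟨r, hr, -, hra⟩ := S.exists_reps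
  rw [ind, ZassenhausInd.indFun_eq a (S.lift l) r hr, Finset.sum_eq_single a, hra, inv_one, one_mul,
    mul_one, ← Subgroup.coe_mk (stabilizer G a) u (S.hle hu), extendByZero_coe, lift,
    MonoidHom.comp_apply, S.proj_F hu, map_one, Units.val_one]
  · intro c _ hc
    refine extendByZero_apply_notMem _ _ fun h => hc (S.eq_a_of_fixed hu hu1 ?_)
    rw [mem_stabilizer_iff, mul_smul, mul_smul, hr, inv_smul_eq_iff, hr] at h
    exact h
  · exact fun h => absurd (Finset.mem_univ a) h

variable {t : G} (hta : t • a = b) (htb : t • b = a) (hinv : ∀ h ∈ S.H, t * h * t⁻¹ = h⁻¹)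

include hta htb hinv in
/-- Inner products of the induced characters. -/
theorem ind_inner (l l' : S.H →* ℂˣ) [Decidable (l = l')] [Decidable (l * l' = 1)] :
    Cfsg.classInner (S.ind l) (S.ind l') =
      (if l = l' then 1 else 0) + (if l * l' = 1 then 1 else 0) := by
  classical
  haveI := S.isPretransitive
  cases nonempty_fintype (stabilizer G a)
  cases nonempty_fintype S.H
  obtain ⟨r, hr, hr', hra⟩ := S.exists_reps
  conv_lhs => arg 2; rw [ind]
  rw [classInner_indFun_right (stabilizer G a) _
    (IsCharacter.isClassFunction (S.ind_isCharacter l)), Cfsg.classInner]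
  simp only [ind, ZassenhausInd.indFun_eq a (S.lift l) r hr, Finset.sum_mul]
  rw [Finset.sum_comm, ← Finset.add_sum_erase _ _ (Finset.mem_univ a), mul_add]
  congr 1
  · have h1 : ∀ m : stabilizer G a,
        Cfsg.extendByZero (stabilizer G a) (fun m => (S.lift l m : ℂ)) ((r a)⁻¹ * (m : G) * r a) *
          conj (S.lift l' m : ℂ) = (S.lift l m : ℂ) * conj (S.lift l' m : ℂ) := by
      intro m
      rw [hra, inv_one, one_mul, mul_one, extendByZero_coe]
    rw [Finset.sum_congr rfl fun m _ => h1 m]
    show Cfsg.classInner (fun m => (S.lift l m : ℂ)) (fun m => (S.lift l' m : ℂ)) = _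
    rw [classInner_irr (isIrrCharacter_hom _) (isIrrCharacter_hom _)]
    exact if_congr ⟨fun e => S.lift_injective (coe_hom_injective e), fun e => e ▸ rfl⟩ rfl rfl
  · -- the points other than `a`
    have hpt : ∀ c ∈ (Finset.univ : Finset Ω).erase a, ∑ m : stabilizer G a,
        Cfsg.extendByZero (stabilizer G a) (fun m => (S.lift l m : ℂ)) ((r c)⁻¹ * (m : G) * r c) *
          conj (S.lift l' m : ℂ) = if l * l' = 1 then (Nat.card S.H : ℂ) else 0 := by
      intro c hc
      have hca : c ≠ a := (Finset.mem_erase.mp hc).1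
      obtain ⟨u, hu, huc⟩ := S.F_exists hca
      have hmemc : ∀ h : S.H, u * h * u⁻¹ ∈ stabilizer G a := fun h =>
        mul_mem (mul_mem (S.hle hu) h.2.1) (inv_mem (S.hle hu))
      let j : S.H → stabilizer G a := fun h => ⟨u * h * u⁻¹, hmemc h⟩
      have hj : Function.Injective j := fun x y e => Subtype.ext
        (mul_left_cancel (mul_right_cancel (congrArg Subtype.val e : u * (x : G) * u⁻¹ = u * y * u⁻¹)))
      rw [← Finset.sum_subset (Finset.subset_univ (Finset.univ.image j)) fun m _ hm => ?_]
      swap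
      · rw [extendByZero_apply_notMem _ _ fun h => hm ?_, zero_mul]
        rw [mem_stabilizer_iff, mul_smul, mul_smul, hr, inv_smul_eq_iff, hr] at h
        refine Finset.mem_image.mpr ⟨⟨u⁻¹ * m * u, ?_, ?_⟩, Finset.mem_univ _, Subtype.ext ?_⟩
        · show (u⁻¹ * (m : G) * u) • a = a
          rw [mul_smul, mul_smul, (show u • a = a from S.hle hu),
            (show (m : G) • a = a from m.2), inv_smul_eq_iff]
          exact (S.hle hu).symm
        · show (u⁻¹ * (m : G) * u) • b = b
          rw [mul_smul, mul_smul, huc, h, inv_smul_eq_iff, huc]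
        · show u * (u⁻¹ * (m : G) * u) * u⁻¹ = m
          group
      rw [Finset.sum_image fun x _ y _ e => hj e]
      have hterm : ∀ h : S.H, Cfsg.extendByZero (stabilizer G a) (fun m => (S.lift l m : ℂ))
          ((r c)⁻¹ * ((j h : stabilizer G a) : G) * r c) * conj (S.lift l' (j h) : ℂ) =
          conj ((l * l') h : ℂ) := by
        intro h
        set g := u⁻¹ * r c with hg
        set m := t⁻¹ * g⁻¹ with hm
        have hma : g⁻¹ • a = c → True := fun _ => trivial
        have hga : g • a = b := by rw [hg, mul_smul, hr, inv_smul_eq_iff, huc]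
        have hgc : g • c = a := by
          rw [hg, mul_smul, hr' c hca, inv_smul_eq_iff]; exact (S.hle hu).symm
        have hy : (r c)⁻¹ * ((j h : stabilizer G a) : G) * r c = g⁻¹ * h * g := by
          show (r c)⁻¹ * (u * h * u⁻¹) * r c = _
          rw [hg]; group
        have hgt : t⁻¹ * g ∈ stabilizer G a := by
          show (t⁻¹ * g) • a = a
          rw [mul_smul, hga, inv_smul_eq_iff, hta]
        have hty : t⁻¹ * h * t = (h : G)⁻¹ := by
          have e := hinv _ (inv_mem h.2)
          rw [inv_inv] at e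
          calc t⁻¹ * (h : G) * t = t⁻¹ * (t * (h : G)⁻¹ * t⁻¹) * t := by rw [e]
            _ = (h : G)⁻¹ := by group
        set w : stabilizer G a := ⟨t⁻¹ * g, hgt⟩
        have e1 : g⁻¹ * (h : G) * g =
            ((w⁻¹ * ⟨((h : G))⁻¹, inv_mem h.2.1⟩ * w : stabilizer G a) : G) := by
          show g⁻¹ * (h : G) * g = (t⁻¹ * g)⁻¹ * (h : G)⁻¹ * (t⁻¹ * g)
          rw [← hty]; group
        have e2 : S.lift l (w⁻¹ * ⟨((h : G))⁻¹, inv_mem h.2.1⟩ * w) = (l h)⁻¹ := by
          rw [map_mul, map_mul, map_inv, mul_comm _ (S.lift l w), mul_inv_cancel_left]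
          show l (S.proj _) = _
          rw [S.proj_H (inv_mem h.2), ← map_inv]
          rfl
        have e3 : S.lift l' (j h) = l' h := by
          rw [show j h = ⟨u, S.hle hu⟩ * ⟨h, h.2.1⟩ * (⟨u, S.hle hu⟩ : stabilizer G a)⁻¹ from
            Subtype.ext rfl, map_mul, map_mul, map_inv, mul_comm (S.lift l' _),
            mul_inv_cancel_right]
          show l' (S.proj _) = _
          rw [S.proj_H h.2]
        rw [hy, e1, extendByZero_coe, e2, e3, MonoidHom.mul_apply, Units.val_mul, map_mul]
        congr 1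
        rw [← map_inv]
        exact IsCharacter.apply_inv (isCharacter_hom l) h
      rw [Finset.sum_congr rfl fun h _ => hterm h, ← map_sum]
      split_ifs with h1
      · simp [h1]
      · obtain ⟨e₀, he₀⟩ : ∃ e₀, (l * l') e₀ ≠ 1 := by
          by_contra hc'
          push Not at hc'
          exact h1 (MonoidHom.ext hc')
        have h0 : ((((l * l') e₀ : ℂˣ) : ℂ) - 1) * ∑ e : S.H, (((l * l') e : ℂˣ) : ℂ) = 0 := by
          rw [sub_mul, one_mul, Finset.mul_sum, sub_eq_zero]
          exact Fintype.sum_equiv (Equiv.mulLeft e₀) _ _ fun e => by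
            rw [Equiv.coe_mulLeft, map_mul, Units.val_mul]
        rw [(mul_eq_zero.mp h0).resolve_left (sub_ne_zero.mpr fun h => he₀ (Units.ext h)), map_zero]
    rw [Finset.sum_congr rfl hpt, Finset.sum_const, Finset.card_erase_of_mem (Finset.mem_univ a),
      Finset.card_univ, ← S.card_F, Nat.add_sub_cancel, nsmul_eq_mul, S.card_stab]
    split_ifs
    · push_cast
      field_simp [Nat.cast_ne_zero.mpr (Nat.card_pos (α := S.F)).ne',
        Nat.cast_ne_zero.mpr (Nat.card_pos (α := S.H)).ne']
    · simp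

end Setup

end CfsgLib.Perm.ZGroup
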