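import Mathlib

/-!
# A coherence lemma for non-negative multiplicity vectors

Vectors with constant inner products `k + δ` differ by the differences of a family of unit vectors;
the divisibility of the degrees then leaves a single numerical possibility.
-/

set_option autoImplicit false

namespace CfsgLib.Perm.ZGroup

open Finset

variable {X J : Type*} [Fintype X] [Fintype J] [DecidableEq X] [DecidableEq J]

/-- An integer vector of norm two with positive weighted sum zero is a difference of unit vectors. -/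
theorem exists_diff {u : X → ℤ} {w : X → ℤ} (hu : ∑ x, u x * u x = 2) (hw : ∀ x, 0 < w x)
    (h0 : ∑ x, u x * w x = 0) :
    ∃ P N : X, P ≠ N ∧ ∀ x, u x = (if x = P then 1 else 0) - (if x = N then 1 else 0) := by
  classical
  set T := univ.filter fun x => u x ≠ 0 with hT
  have hsum : ∑ x ∈ T, u x * u x = 2 := by
    rw [← hu]
    exact sum_subset (subset_univ _) fun x _ hx => by
      have : u x = 0 := by simpa [T] using hx
      rw [this, zero_mul]
  have h1 : ∀ x ∈ T, 1 ≤ u x * u x := fun x hx => by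
    have hne : u x ≠ 0 := (mem_filter.mp hx).2
    have := mul_self_pos.mpr hne
    omega
  have hle : ∀ x ∈ T, u x = 1 ∨ u x = -1 := by
    intro x hx
    have h := single_le_sum (fun y hy => le_trans zero_le_one (h1 y hy)) hx
    rw [hsum] at h
    have hne : u x ≠ 0 := (mem_filter.mp hx).2
    rcases le_or_gt (u x) (-2) with h2 | h2
    · nlinarith
    rcases le_or_gt 2 (u x) with h3 | h3
    · nlinarith
    omega
  have hcard : #T = 2 := by
    have : ∑ x ∈ T, u x * u x = (#T : ℤ) := by
      rw [card_eq_sum_ones, Nat.cast_sum]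
      exact sum_congr rfl fun x hx => by rcases hle x hx with e | e <;> rw [e] <;> norm_num
    omega
  obtain ⟨p, q, hpq, hTpq⟩ := card_eq_two.mp hcard
  have hzero : ∀ x, x ≠ p → x ≠ q → u x = 0 := fun x hp hq => by
    by_contra h
    have : x ∈ T := mem_filter.mpr ⟨mem_univ _, h⟩
    rw [hTpq] at this
    simp [hp, hq] at this
  have hpT : p ∈ T := by rw [hTpq]; simp
  have hqT : q ∈ T := by rw [hTpq]; simp
  have hsum0 : u p * w p + u q * w q = 0 := by
    rw [← h0, ← sum_pair (f := fun x => u x * w x) hpq]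
    refine sum_subset (subset_univ _) fun x _ hx => ?_
    simp only [mem_insert, mem_singleton, not_or] at hx
    rw [hzero x hx.1 hx.2, zero_mul]
  have key : ∀ P N : X, P ≠ N → u P = 1 → u N = -1 → (∀ x, x ≠ P → x ≠ N → u x = 0) →
      ∀ x, u x = (if x = P then 1 else 0) - (if x = N then 1 else 0) := by
    intro P N hPN hP hN hz x
    by_cases h1 : x = P
    · subst h1; simp [hP, hPN]
    · by_cases h2 : x = N
      · subst h2; simp [hN, h1]
      · simp [h1, h2, hz x h1 h2]
  have hp := hw p
  have hq := hw q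
  rcases hle p hpT with e | e <;> rcases hle q hqT with e' | e'
  · rw [e, e'] at hsum0; omega
  · exact ⟨p, q, hpq, key p q hpq e e' hzero⟩
  · exact ⟨q, p, hpq.symm, key q p hpq.symm e' e fun x h h' => hzero x h' h⟩
  · rw [e, e'] at hsum0; omega

theorem coherent_numeric (m : X → J → ℕ) (deg : X → ℕ) {d n k : ℕ} (hd : d = 2 * k + 1)
    (hk : 1 ≤ k) (hs : 3 ≤ Fintype.card J) (hn : n = Fintype.card J * d + 1)
    (hgram : ∀ i j, ∑ x, m x i * m x j = if i = j then k + 1 else k)
    (hdeg : ∀ x, deg x = d * ∑ j, m x j) (hpos : ∀ x, 0 < deg x)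
    (hdvd : ∀ x, deg x ∣ (n + 1) * n * d) :
    d + 3 = 2 * Fintype.card J ∧ n = (Fintype.card J - 1) * (2 * Fintype.card J - 1) := by
  classical
  set s := Fintype.card J with hs'
  let M : X → J → ℤ := fun x j => (m x j : ℤ)
  have hg : ∀ i j, ∑ x, M x i * M x j = if i = j then (k : ℤ) + 1 else k := by
    intro i j
    have := congrArg (Nat.cast : ℕ → ℤ) (hgram i j)
    push_cast at this
    exact this
  let S : X → ℤ := fun x => ∑ j, M x j
  have hS : ∀ x, 0 < S x := by
    intro x
    have h1 := hpos x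
    rw [hdeg x] at h1
    have h2 : 0 < ∑ j, m x j := Nat.pos_of_mul_pos_left h1
    show 0 < ∑ j, ((m x j : ℕ) : ℤ)
    exact_mod_cast h2
  have hMS : ∀ i, ∑ x, M x i * S x = (s : ℤ) * k + 1 := by
    intro i
    simp only [S, Finset.mul_sum]
    rw [sum_comm]
    simp only [hg]
    rw [sum_congr rfl fun j _ => (show (if i = j then (k : ℤ) + 1 else k) =
      k + (if i = j then 1 else 0) by split_ifs <;> simp)]
    simp [sum_add_distrib, hs']
  obtain ⟨i₀⟩ : Nonempty J := Fintype.card_pos_iff.mp (by omega)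
  have hdiff : ∀ j, j ≠ i₀ → ∃ P N : X, P ≠ N ∧
      ∀ x, M x j - M x i₀ = (if x = P then 1 else 0) - (if x = N then 1 else 0) := by
    intro j hj
    refine exists_diff ?_ hS ?_
    · have : ∀ x, (M x j - M x i₀) * (M x j - M x i₀) =
          M x j * M x j - M x j * M x i₀ - M x i₀ * M x j + M x i₀ * M x i₀ := fun x => by ring
      simp only [this, sum_add_distrib, sum_sub_distrib, hg]
      simp [hj, Ne.symm hj]
      ring
    · simp only [sub_mul, sum_sub_distrib, hMS, sub_self]
  choose P N hPN hPN' using hdiff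
  have hpair : ∀ i (hi : i ≠ i₀) j (hj : j ≠ i₀), i ≠ j →
      (P i hi = P j hj ∧ N i hi ≠ N j hj) ∨ (N i hi = N j hj ∧ P i hi ≠ P j hj) := by
    intro i hi j hj hij
    have h : ∑ x, (M x i - M x i₀) * (M x j - M x i₀) = 1 := by
      have : ∀ x, (M x i - M x i₀) * (M x j - M x i₀) =
          M x i * M x j - M x i * M x i₀ - M x i₀ * M x j + M x i₀ * M x i₀ := fun x => by ring
      simp only [this, sum_add_distrib, sum_sub_distrib, hg]
      simp [hij, hi, Ne.symm hj]
    simp only [hPN' i hi, hPN' j hj] at h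
    simp only [mul_sub, sub_mul, ite_mul, one_mul, zero_mul, sum_sub_distrib,
      sum_ite_eq', mem_univ, if_true] at h
    by_cases h1 : P i hi = P j hj
    · left
      refine ⟨h1, fun h2 => ?_⟩
      have e3 : ¬ P i hi = N j hj := fun e => hPN j hj (h1.symm.trans e)
      have e4 : ¬ N i hi = P j hj := fun e => hPN i hi (h1.trans e.symm)
      rw [if_pos h1, if_pos h2, if_neg e3, if_neg e4] at h
      norm_num at h
    · right
      refine ⟨?_, h1⟩
      by_contra h2
      rw [if_neg h1, if_neg h2] at h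
      split_ifs at h <;> norm_num at h
  -- a common end
  obtain ⟨j₁, hj₁⟩ : ∃ j, j ≠ i₀ := Fintype.exists_ne_of_one_lt_card (by omega) i₀
  obtain ⟨j₂, hj₂, hj₂'⟩ : ∃ j, j ≠ i₀ ∧ j ≠ j₁ := by
    obtain ⟨j, hj⟩ : ∃ j, j ∉ ({i₀, j₁} : Finset J) := by
      by_contra h
      push Not at h
      have : Fintype.card J ≤ #({i₀, j₁} : Finset J) :=
        card_le_card (fun x _ => h x)
      have := card_le_two (a := i₀) (b := j₁)
      omega
    simp only [mem_insert, mem_singleton, not_or] at hj
    exact ⟨j, hj⟩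
  have hcommon : (∀ j (hj : j ≠ i₀), P j hj = P j₁ hj₁) ∨
      (∀ j (hj : j ≠ i₀), N j hj = N j₁ hj₁) := by
    rcases hpair j₂ hj₂ j₁ hj₁ hj₂' with ⟨hP2, hN2⟩ | ⟨hN2, hP2⟩
    · left
      intro j hj
      by_cases e1 : j = j₁
      · subst e1; rfl
      by_cases e2 : j = j₂
      · subst e2; exact hP2
      rcases hpair j hj j₁ hj₁ e1 with ⟨h, -⟩ | ⟨h, h'⟩
      · exact h
      · rcases hpair j hj j₂ hj₂ e2 with ⟨g, -⟩ | ⟨g, -⟩
        · exact g.trans hP2
        · exact absurd (g.symm.trans h) hN2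
    · right
      intro j hj
      by_cases e1 : j = j₁
      · subst e1; rfl
      by_cases e2 : j = j₂
      · subst e2; exact hN2
      rcases hpair j hj j₁ hj₁ e1 with ⟨h, h'⟩ | ⟨h, -⟩
      · rcases hpair j hj j₂ hj₂ e2 with ⟨g, -⟩ | ⟨g, -⟩
        · exact absurd (g.symm.trans h) hP2
        · exact g.trans hN2
      · exact h
  -- the standard form
  obtain ⟨ε, hε, w, E, hE, hM⟩ : ∃ ε : ℤ, (ε = 1 ∨ ε = -1) ∧ ∃ (w : X → ℤ) (E : J → X),
      Function.Injective E ∧ ∀ x j, M x j = w x + ε * (if x = E j then 1 else 0) := by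
    rcases hcommon with hc | hc
    · refine ⟨-1, Or.inr rfl, fun x => M x i₀ + (if x = P j₁ hj₁ then 1 else 0),
        fun j => if hj : j = i₀ then P j₁ hj₁ else N j hj, ?_, ?_⟩
      · intro i j e
        by_cases hi : i = i₀ <;> by_cases hj : j = i₀ <;> simp only [hi, hj, dif_pos, dif_neg, not_false_eq_true] at e ⊢
        · exact absurd ((hc j hj).trans e) (hPN j hj)
        · exact absurd ((hc i hi).trans e.symm) (hPN i hi)
        · by_contra hij
          rcases hpair i hi j hj hij with ⟨-, h⟩ | ⟨-, h⟩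
          · exact h e
          · exact h ((hc i hi).trans (hc j hj).symm)
      · intro x j
        by_cases hj : j = i₀
        · simp only [hj, dif_pos]; ring
        · have := hPN' j hj x
          rw [hc j hj] at this
          simp only [dif_neg hj]
          linarith
    · refine ⟨1, Or.inl rfl, fun x => M x i₀ - (if x = N j₁ hj₁ then 1 else 0),
        fun j => if hj : j = i₀ then N j₁ hj₁ else P j hj, ?_, ?_⟩
      · intro i j e
        by_cases hi : i = i₀ <;> by_cases hj : j = i₀ <;> simp only [hi, hj, dif_pos, dif_neg, not_false_eq_true] at e ⊢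
        · exact absurd (e.symm.trans (hc j hj).symm) (hPN j hj)
        · exact absurd (e.trans (hc i hi).symm) (hPN i hi)
        · by_contra hij
          rcases hpair i hi j hj hij with ⟨-, h⟩ | ⟨-, h⟩
          · exact h ((hc i hi).trans (hc j hj).symm)
          · exact h e
      · intro x j
        by_cases hj : j = i₀
        · simp only [hj, dif_pos]; ring
        · have := hPN' j hj x
          rw [hc j hj] at this
          simp only [dif_neg hj]
          linarith
  have hεε : ε * ε = 1 := by rcases hε with rfl | rfl <;> norm_num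
  have hpairw : ∀ i j, i ≠ j → (k : ℤ) = (∑ x, w x * w x) + ε * (w (E i) + w (E j)) := by
    intro i j hij
    have h := hg i j
    rw [if_neg hij] at h
    rw [← h]
    have : ∀ x, M x i * M x j = w x * w x + ε * ((if x = E i then w x else 0) +
        (if x = E j then w x else 0)) := by
      intro x
      have hne : ¬ (x = E i ∧ x = E j) := fun e => hij (hE (e.1.symm.trans e.2))
      rw [hM, hM]
      by_cases h1 : x = E i <;> by_cases h2 : x = E j
      · exact absurd ⟨h1, h2⟩ hne
      · rw [if_pos h1, if_neg h2, if_pos h1, if_neg h2]; ring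
      · rw [if_neg h1, if_pos h2, if_neg h1, if_pos h2]; ring
      · rw [if_neg h1, if_neg h2, if_neg h1, if_neg h2]; ring
    simp only [this, sum_add_distrib, ← mul_sum]
    simp
  have hε0 : ε ≠ 0 := by rcases hε with rfl | rfl <;> norm_num
  set aw := w (E i₀) with haw
  have hwE : ∀ j, w (E j) = aw := by
    intro j
    by_cases hj : j = i₀
    · rw [hj]
    obtain ⟨l, hl, hl'⟩ : ∃ l, l ≠ i₀ ∧ l ≠ j := by
      by_cases e : j = j₁
      · exact ⟨j₂, hj₂, e ▸ hj₂'⟩
      · exact ⟨j₁, hj₁, Ne.symm e⟩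
    have h1 := hpairw j l (Ne.symm hl')
    have h2 := hpairw i₀ l (Ne.symm hl)
    have h3 : ε * w (E j) = ε * aw := by linarith [h1.symm.trans h2]
    exact mul_left_cancel₀ hε0 h3
  have hout : ∀ x, ∃ j, x = E j := by
    intro x
    by_contra hx
    push Not at hx
    have hm : ∀ j, M x j = w x := fun j => by rw [hM, if_neg (hx j)]; ring
    obtain ⟨r, hr⟩ : ∃ r : ℕ, w x = r := ⟨m x i₀, by rw [← hm i₀]⟩
    have hmr : ∀ j, m x j = r := fun j => by
      have := hm j
      rw [hr] at this
      exact Int.ofNat_inj.mp this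
    have hdx : deg x = d * (s * r) := by rw [hdeg x]; simp [hmr, hs']
    have h1 := hdvd x
    rw [hdx, mul_comm d, Nat.mul_dvd_mul_iff_right (by omega : 0 < d)] at h1
    have h2 : s ∣ (n + 1) * n := (dvd_mul_right s r).trans h1
    have h3 : s ∣ 2 := by
      have e : (n + 1) * n = s * (d * (s * d + 3)) + 2 := by rw [hn]; ring
      rw [e] at h2
      exact (Nat.dvd_add_right (dvd_mul_right s _)).mp h2
    have := Nat.le_of_dvd two_pos h3
    omega
  -- the equation
  have hsumw : ∑ x, w x * w x = (s : ℤ) * (aw * aw) := by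
    have h1 : ∑ x, w x * w x = ∑ j, w (E j) * w (E j) := by
      rw [← sum_image (f := fun x => w x * w x) fun i _ j _ e => hE e]
      refine sum_congr ?_ fun _ _ => rfl
      ext x
      obtain ⟨j, rfl⟩ := hout x
      simp
    rw [h1]
    simp [hwE, hs']
  have heq : (k : ℤ) = s * (aw * aw) + 2 * ε * aw := by
    rw [hpairw j₂ j₁ hj₂', hsumw, hwE, hwE]; ring
  have haw0 : 0 ≤ aw := by
    have h := hM (E i₀) j₁
    rw [if_neg fun e => hj₁ (hE e.symm), mul_zero, add_zero] at h
    rw [haw, ← h]
    exact Int.natCast_nonneg _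
  set y : ℤ := s * aw + ε with hy
  have hdegy : (deg (E i₀) : ℤ) = (d : ℤ) * y := by
    rw [hdeg, Nat.cast_mul, Nat.cast_sum]
    congr 1
    show ∑ j, M (E i₀) j = y
    have : ∀ j, M (E i₀) j = aw + ε * (if j = i₀ then 1 else 0) := fun j => by
      rw [hM, ← haw]
      congr 2
      exact if_congr ⟨fun e => (hE e).symm, fun e => by rw [e]⟩ rfl rfl
    simp [this, sum_add_distrib, hy, hs']
  have hy0 : 0 < y := by
    have h1 : (0 : ℤ) < deg (E i₀) := by exact_mod_cast hpos (E i₀)
    rw [hdegy] at h1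
    exact pos_of_mul_pos_right h1 (by positivity)
  have hn' : (n : ℤ) = 2 * (y * y) + s - 1 := by
    have e1 : (n : ℤ) = s * (2 * k + 1) + 1 := by rw [hn, hd]; push_cast; ring
    rw [e1, hy, heq]
    linear_combination (-2 : ℤ) * hεε
  have hys : y ∣ (s : ℤ) - 1 := by
    have h1 : (d : ℤ) * y ∣ (d : ℤ) * ((n + 1) * n) := by
      rw [← hdegy, show (d : ℤ) * ((n + 1) * n) = (((n + 1) * n * d : ℕ) : ℤ) by push_cast; ring]
      exact_mod_cast hdvd (E i₀)
    have h2 : y ∣ ((n : ℤ) + 1) * n :=
      Int.dvd_of_mul_dvd_mul_left (by omega : (d : ℤ) ≠ 0) h1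
    have h3 : y ∣ ((s : ℤ) - 1) * s := by
      rw [show ((n : ℤ) + 1) * n = y * (2 * y * (2 * y * y + 2 * s - 1)) + ((s : ℤ) - 1) * s by
        rw [hn']; ring] at h2
      exact (dvd_add_right (dvd_mul_right y _)).mp h2
    have hcop : IsCoprime y (s : ℤ) := ⟨ε, -ε * aw, by rw [hy]; linear_combination hεε⟩
    exact hcop.dvd_of_dvd_mul_right h3
  have hs3 : (3 : ℤ) ≤ s := by exact_mod_cast hs
  have hle := Int.le_of_dvd (by omega : (0 : ℤ) < (s : ℤ) - 1) hys
  have haw1 : aw ≠ 0 := fun e => by rw [e] at heq; simp at heq; omega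
  have hge : 1 ≤ aw := by omega
  rcases hε with rfl | rfl
  · exfalso
    rw [hy] at hle
    nlinarith [mul_le_mul_of_nonneg_left hge (by omega : (0 : ℤ) ≤ (s : ℤ))]
  · have : aw = 1 := by
      rcases le_or_gt aw 1 with h | h
      · omega
      · exfalso
        rw [hy] at hle
        nlinarith [mul_le_mul_of_nonneg_left (show (2 : ℤ) ≤ aw by omega) (by omega : (0 : ℤ) ≤ (s : ℤ))]
    rw [this] at heq hy
    rw [hy] at hn'
    have h1 : (k : ℤ) = s - 2 := by linarith
    refine ⟨by omega, ?_⟩
    have e : (n : ℤ) = (((s - 1) * (2 * s - 1) : ℕ) : ℤ) := by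
      rw [hn', Nat.cast_mul, Nat.cast_sub (by omega : 1 ≤ s), Nat.cast_sub (by omega : 1 ≤ 2 * s)]
      push_cast
      ring
    exact_mod_cast e

end CfsgLib.Perm.ZGroup
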