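import Mathlib

/-!
# The numbers of the tori of a Suzuki group

A pairwise coprime family of divisors `a` of `q ^ 2 + 1` with weights in `{1, 2}`, satisfying the
two counting relations, consists of two numbers with sum `2 q + 2` and product `q ^ 2 + 1`; so `q`
is an odd power of two.
-/

set_option autoImplicit false

namespace CfsgLib.Perm.ZGroup

theorem eq_pow_two_of_dvd_add_one {q : ℕ} (hq : 2 ∣ q) (h : q + 1 ∣ q ^ 2 + 1) : q = 0 := by
  obtain ⟨c, rfl⟩ := hq
  have h2 : (2 * c + 1) * (2 * c + 1) = (2 * c) ^ 2 + 1 + 2 * (2 * c) := by ring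
  have h3 : 2 * c + 1 ∣ 2 * (2 * c) :=
    (Nat.dvd_add_right h).mp (h2 ▸ dvd_mul_right _ _)
  have h4 : 2 * c + 1 ∣ 2 * (2 * c + 1) := dvd_mul_left _ _
  have h5 : 2 * c + 1 ∣ 2 := by
    rw [show 2 * (2 * c + 1) = 2 * (2 * c) + 2 by ring] at h4
    exact (Nat.dvd_add_right h3).mp h4
  have := Nat.le_of_dvd (by norm_num) h5
  omega

theorem tori_arith {m q d : ℕ} (hm : 2 ≤ m) (hq : q = 2 ^ m) (hd : d + 1 = q) (A : Finset ℕ)
    (L r : ℕ → ℕ) (h3 : ∀ a ∈ A, 3 ≤ a) (hL : ∀ a ∈ A, L a = 2 ∨ L a = 1 ∧ 4 ∣ a - 1)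
    (hr : ∀ a ∈ A, a * r a = q ^ 2 + 1) (hcop : ∀ a ∈ A, ∀ b ∈ A, a ≠ b → a.Coprime b)
    (h1 : ∑ a ∈ A, L a * (a - 1) = 2 * q) (M : ℕ)
    (h2 : ∑ a ∈ A, L a * ((a - 1) * r a) + 4 * ((∏ a ∈ A, a) * M) = 2 * q * d) : Odd m := by
  classical
  set N := q ^ 2 + 1 with hN
  have hN0 : 0 < N := Nat.succ_pos _
  have hq4 : 4 ≤ q := by
    rw [hq, show 4 = 2 ^ 2 by norm_num]; exact Nat.pow_le_pow_right (by norm_num) hm
  have hq2 : 2 ∣ q := hq ▸ dvd_pow_self 2 (by omega)
  have hqd : q * d + q = q ^ 2 := by rw [← hd]; ring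
  have hlt : 2 * q * d < 2 * N := by
    rw [mul_assoc]; omega
  have hw : ∀ a ∈ A, 4 * N ≤ 5 * (L a * ((a - 1) * r a)) ∧
      (L a = 2 → 4 * N ≤ 3 * (L a * ((a - 1) * r a))) := by
    intro a ha
    have ha3 := h3 a ha
    rcases hL a ha with h | ⟨h, h4⟩
    · have e : 4 * N ≤ 3 * (L a * ((a - 1) * r a)) := by
        rw [h, ← hr a ha, show 4 * (a * r a) = 4 * a * r a by ring,
          show 3 * (2 * ((a - 1) * r a)) = 6 * (a - 1) * r a by ring]
        exact Nat.mul_le_mul_right _ (by omega)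
      exact ⟨by omega, fun _ => e⟩
    · refine ⟨?_, fun h' => by omega⟩
      rw [h, one_mul, ← hr a ha, show 4 * (a * r a) = 4 * a * r a by ring, ← mul_assoc]
      exact Nat.mul_le_mul_right _ (by
        have := Nat.le_of_dvd (by omega) h4
        omega)
  have hsum5 : A.card * (4 * N) ≤ 5 * ∑ a ∈ A, L a * ((a - 1) * r a) := by
    rw [Finset.mul_sum, ← smul_eq_mul]
    exact Finset.card_nsmul_le_sum A _ _ fun a ha => (hw a ha).1
  have hcard : A.card ≤ 2 := by
    by_contra h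
    have : 3 * (4 * N) ≤ A.card * (4 * N) := Nat.mul_le_mul_right _ (by omega)
    omega
  have hone : ∀ a ∈ A, A.card = 1 → False := by
    intro a ha hc
    obtain ⟨x, hx⟩ := Finset.card_eq_one.mp hc
    rw [hx, Finset.mem_singleton] at ha
    subst ha
    rw [hx, Finset.sum_singleton] at h1
    have hamem : a ∈ A := by rw [hx]; exact Finset.mem_singleton_self a
    have ha3 := h3 a hamem
    have hdvd : a ∣ N := Dvd.intro _ (hr a hamem)
    rcases hL a hamem with h | ⟨h, -⟩ <;> rw [h] at h1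
    · have := eq_pow_two_of_dvd_add_one hq2 ((show a = q + 1 by omega) ▸ hdvd)
      omega
    · have ha' : a = 2 * q + 1 := by omega
      subst ha'
      have e : (2 * q + 1) * (2 * q + 1) + 3 = 4 * N + 4 * q := by rw [hN]; ring
      have e2 : (2 * q + 1) * 2 = 4 * q + 2 := by ring
      have h5 : 2 * q + 1 ∣ 5 := by
        have hA : 2 * q + 1 ∣ 4 * N + 4 * q + 2 := by
          rw [add_assoc, ← e2]; exact dvd_add (hdvd.mul_left 4) (dvd_mul_right _ _)
        rw [← e, add_assoc] at hA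
        exact (Nat.dvd_add_right (dvd_mul_right _ _)).mp hA
      have := Nat.le_of_dvd (by norm_num) h5
      omega
  have hc2 : A.card = 2 := by
    rcases A.card.eq_zero_or_pos with h | h
    · rw [Finset.card_eq_zero.mp h, Finset.sum_empty] at h1
      omega
    · obtain ⟨a, ha⟩ := Finset.card_pos.mp h
      by_contra hne
      exact hone a ha (by omega)
  obtain ⟨a, b, hab, hAab⟩ := Finset.card_eq_two.mp hc2
  have ha : a ∈ A := by rw [hAab]; simp
  have hb : b ∈ A := by rw [hAab]; simp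
  rw [hAab, Finset.sum_pair hab] at h1 h2
  rw [Finset.prod_pair hab] at h2
  have hLa : L a = 1 ∧ 4 ∣ a - 1 := (hL a ha).resolve_left fun h => by
    have := (hw a ha).2 h; have := (hw b hb).1; omega
  have hLb : L b = 1 ∧ 4 ∣ b - 1 := (hL b hb).resolve_left fun h => by
    have := (hw b hb).2 h; have := (hw a ha).1; omega
  rw [hLa.1, hLb.1] at h1 h2
  have ha5 : 5 ≤ a := by have := h3 a ha; have := Nat.le_of_dvd (by omega) hLa.2; omega
  have hb5 : 5 ≤ b := by have := h3 b hb; have := Nat.le_of_dvd (by omega) hLb.2; omega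
  have hsum : a + b = 2 * q + 2 := by omega
  obtain ⟨j, hj⟩ : a * b ∣ N :=
    (hcop a ha b hb hab).mul_dvd_of_dvd_of_dvd (Dvd.intro _ (hr a ha)) (Dvd.intro _ (hr b hb))
  have hra : r a = b * j := Nat.eq_of_mul_eq_mul_left (by omega : 0 < a)
    (by rw [hr a ha, hj, mul_assoc])
  have hrb : r b = a * j := Nat.eq_of_mul_eq_mul_left (by omega : 0 < b)
    (by rw [hr b hb, hj]; ring)
  have hea : 1 * ((a - 1) * r a) + r a = N := by
    rw [one_mul, ← hr a ha]
    nth_rw 2 [← one_mul (r a)]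
    rw [← add_mul, Nat.sub_add_cancel (by omega)]
  have heb : 1 * ((b - 1) * r b) + r b = N := by
    rw [one_mul, ← hr b hb]
    nth_rw 2 [← one_mul (r b)]
    rw [← add_mul, Nat.sub_add_cancel (by omega)]
  have hrsum : r a + r b = 2 * ((q + 1) * j) := by
    rw [hra, hrb, ← add_mul, add_comm b a, hsum]; ring
  have hkey : (q + 1) * j = q + 1 + 2 * (a * b * M) := by
    have e : 2 * q * d + 2 * q = 2 * q ^ 2 := by rw [← hqd]; ring
    omega
  have hj1 : 1 ≤ j := Nat.pos_of_ne_zero fun h => by subst h; omega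
  have hP : a * b ∣ j - 1 := by
    have hNodd : Odd N := by
      rw [hN]; exact (Nat.even_pow.mpr ⟨even_iff_two_dvd.mpr hq2, two_ne_zero⟩).add_one
    have hcopq : Nat.Coprime (a * b) (q + 1) := by
      refine Nat.Coprime.coprime_dvd_left (Dvd.intro j hj.symm) ?_
      refine Nat.coprime_of_dvd fun p hp hpN hpq => ?_
      have e : (q + 1) * (q + 1) = N + 2 * q := by rw [hN]; ring
      have h1 : p ∣ 2 * q := (Nat.dvd_add_right hpN).mp (e ▸ hpq.mul_right _)
      rcases hp.dvd_mul.mp h1 with h | h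
      · exact Nat.not_even_iff_odd.mpr hNodd (even_iff_two_dvd.mpr
          (((Nat.prime_dvd_prime_iff_eq hp Nat.prime_two).mp h) ▸ hpN))
      · exact hp.not_dvd_one ((Nat.dvd_add_right h).mp hpq)
    refine hcopq.dvd_of_dvd_mul_left ?_
    refine ⟨2 * M, ?_⟩
    obtain ⟨i, rfl⟩ : ∃ i, j = i + 1 := ⟨j - 1, by omega⟩
    rw [Nat.add_sub_cancel]
    rw [mul_add, mul_one] at hkey
    rw [show a * b * (2 * M) = 2 * (a * b * M) by ring]
    omega
  have hj' : j = 1 := by
    by_contra hne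
    have hle := Nat.le_of_dvd (by omega) hP
    have hlow : 5 * (2 * q - 3) ≤ a * b := by
      obtain ⟨i, rfl⟩ : ∃ i, a = i + 5 := ⟨a - 5, by omega⟩
      obtain ⟨k, rfl⟩ : ∃ k, b = k + 5 := ⟨b - 5, by omega⟩
      rw [show 2 * q - 3 = i + k + 5 by omega,
        show (i + 5) * (k + 5) = i * k + 5 * (i + k + 5) by ring]
      exact Nat.le_add_left _ _
    have hq5 : q ≤ a * b := by omega
    have h6 : q * (q + 1) ≤ a * b * j := Nat.mul_le_mul hq5 (by omega)
    rw [← hj, hN, mul_add, mul_one, ← pow_two] at h6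
    omega
  rw [hj', mul_one] at hj
  -- the discriminant
  have hsq : ∃ e : ℕ, e ^ 2 = 8 * q := by
    refine ⟨((a : ℤ) - b).natAbs, ?_⟩
    zify
    rw [sq_abs]
    have e1 : (a : ℤ) + b = 2 * q + 2 := by exact_mod_cast hsum
    have e2 : (q : ℤ) ^ 2 + 1 = a * b := by exact_mod_cast hj
    linear_combination ((a : ℤ) + b + 2 * q + 2) * e1 + 4 * e2
  obtain ⟨e, he⟩ := hsq
  rw [hq, show 8 * 2 ^ m = 2 ^ (m + 3) by rw [pow_add]; ring] at he
  obtain ⟨i, -, hi⟩ := (Nat.dvd_prime_pow Nat.prime_two).mp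
    (he ▸ dvd_pow_self e two_ne_zero : e ∣ 2 ^ (m + 3))
  rw [hi, ← pow_mul] at he
  have := Nat.pow_right_injective (le_refl 2) he
  exact Nat.odd_iff.mpr (by omega)

end CfsgLib.Perm.ZGroup
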