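import Cfsg.Agent.Lib.Perm.ZGroup.Tori
import Cfsg.Agent.Lib.Perm.ZGroup.ToriArith

/-!
# Counting the elements without fixed points: `q` is an odd power of two

Pairs of involutions and fixed points give the number of classes of strongly real elements without
fixed points and the number of all elements without fixed points; hence there are exactly two
kinds of tori, of orders `q ± r + 1` with `r ^ 2 = 2 q`.
-/

set_option autoImplicit false

namespace CfsgLib.Perm.ZGroup

open MulAction CfsgLib.Solvable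

universe u v

open Classical in
/-- The number of values of a map constant exactly on the left cosets of a subgroup. -/
theorem card_image_mul {G β : Type*} [Group G] [Fintype G] (f : G → β)
    (K : Subgroup G) (h : ∀ g g₀, f g = f g₀ ↔ g₀⁻¹ * g ∈ K) :
    (Finset.univ.image f).card * Nat.card K = Nat.card G := by
  rw [Nat.card_eq_fintype_card (α := G), ← Finset.card_univ (α := G),
    Finset.card_eq_sum_card_image f Finset.univ, ← smul_eq_mul, ← Finset.sum_const]
  refine Finset.sum_congr rfl fun y hy => ?_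
  obtain ⟨g₀, -, rfl⟩ := Finset.mem_image.mp hy
  rw [Nat.card_eq_fintype_card, ← Finset.card_univ]
  refine Finset.card_bij' (fun k _ => g₀ * (k : G)) (fun g hg => ⟨g₀⁻¹ * g, (h g g₀).mp
    (Finset.mem_filter.mp hg).2⟩) (fun k _ => Finset.mem_filter.mpr ⟨Finset.mem_univ _,
      (h _ g₀).mpr (by rw [inv_mul_cancel_left]; exact k.2)⟩) (fun _ _ => Finset.mem_univ _)
    (fun k _ => Subtype.ext (inv_mul_cancel_left g₀ k)) (fun g _ => mul_inv_cancel_left g₀ g)

theorem map_conj_centralizer {G : Type*} [Group G] (x g : G) :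
    (Subgroup.centralizer ({x} : Set G)).map (MulAut.conj g).toMonoidHom =
      Subgroup.centralizer ({g * x * g⁻¹} : Set G) := by
  ext z
  rw [Subgroup.mem_map_equiv, MulAut.conj_symm_apply, Subgroup.mem_centralizer_singleton_iff,
    Subgroup.mem_centralizer_singleton_iff]
  constructor <;> intro e
  · calc z * (g * x * g⁻¹) = g * (g⁻¹ * z * g * x) * g⁻¹ := by group
      _ = g * (x * (g⁻¹ * z * g)) * g⁻¹ := by rw [e]
      _ = _ := by group
  · calc g⁻¹ * z * g * x = g⁻¹ * (z * (g * x * g⁻¹)) * g := by group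
      _ = g⁻¹ * (g * x * g⁻¹ * z) * g := by rw [e]
      _ = _ := by group

theorem orderOf_mul_eq_two_iff {G : Type*} [Group G] {x t : G} (ht : orderOf t = 2) :
    orderOf (x * t) = 2 ↔ t * x * t⁻¹ = x⁻¹ ∧ x * t ≠ 1 := by
  have htt : t * t = 1 := by rw [← pow_two, ← ht, pow_orderOf_eq_one]
  have hti : t⁻¹ = t := inv_eq_of_mul_eq_one_right htt
  rw [hti]
  constructor
  · intro h
    have h1 : (x * t) * (x * t) = 1 := by rw [← pow_two, ← h, pow_orderOf_eq_one]
    refine ⟨eq_inv_of_mul_eq_one_right ?_, fun e => by rw [e, orderOf_one] at h; norm_num at h⟩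
    rw [← h1]; group
  · rintro ⟨h1, h2⟩
    refine orderOf_eq_prime ?_ h2
    rw [pow_two]
    calc x * t * (x * t) = x * (t * x * t) := by group
      _ = 1 := by rw [h1, mul_inv_cancel]

variable {G : Type u} {Ω : Type v} [Group G] [Finite G] [MulAction G Ω] [Fintype Ω] {a b : Ω}

namespace Setup

variable {S : Setup G Ω a b}

namespace IsTwoKernel

variable (hT : S.IsTwoKernel) [IsSimpleGroup G]
include hT

omit hT in
theorem card_pairs_conj (x g : G) :
    Nat.card {t : G // orderOf t = 2 ∧ orderOf (g * x * g⁻¹ * t) = 2} =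
      Nat.card {t : G // orderOf t = 2 ∧ orderOf (x * t) = 2} := by
  refine (Nat.card_congr ((MulAut.conj g).toEquiv.subtypeEquiv fun t => ?_)).symm
  show orderOf t = 2 ∧ orderOf (x * t) = 2 ↔
    orderOf (MulAut.conj g t) = 2 ∧ orderOf (g * x * g⁻¹ * MulAut.conj g t) = 2
  rw [show g * x * g⁻¹ * MulAut.conj g t = MulAut.conj g (x * t) by
    rw [map_mul]; rfl, MulEquiv.orderOf_eq, MulEquiv.orderOf_eq]

open Classical in
/-- An element fixing one point is a product of two involutions only if it is an involution. -/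
theorem card_pairs_one {x : G} (hx1 : x ≠ 1) {c : Ω} (hc : x • c = c)
    (huniq : ∀ y : Ω, x • y = y → y = c) :
    Nat.card {t : G // orderOf t = 2 ∧ orderOf (x * t) = 2} =
      if x * x = 1 then Nat.card S.H - 1 else 0 := by
  obtain ⟨g, hg⟩ := hT.exists_to_a c
  rw [← card_pairs_conj x g]
  have hx' : g * x * g⁻¹ ≠ 1 := fun e => hx1 (conj_eq_one_iff.mp e)
  have hiff : x * x = 1 ↔ g * x * g⁻¹ * (g * x * g⁻¹) = 1 := by
    rw [show g * x * g⁻¹ * (g * x * g⁻¹) = g * (x * x) * g⁻¹ by group, conj_eq_one_iff]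
  rw [if_congr hiff rfl rfl]
  have hxa : (g * x * g⁻¹) • a = a := by rw [← hg, mul_smul, mul_smul, inv_smul_smul, hc]
  have hxF : g * x * g⁻¹ ∈ S.F := by
    by_contra hF
    obtain ⟨y, hy, hgy⟩ := S.exists_fixed hxa hF
    rw [mul_smul, mul_smul, ← eq_inv_smul_iff] at hgy
    exact hy (by rw [← hg, ← huniq _ hgy, smul_inv_smul])
  clear hiff hxa huniq hc hx1
  generalize g * x * g⁻¹ = z at hx' hxF
  clear x g hg c
  have hta : ∀ t : G, orderOf t = 2 → orderOf (z * t) = 2 → t ∈ S.F := fun t ht h => by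
    rw [orderOf_mul_eq_two_iff ht] at h
    exact hT.invol_mem_F ht (S.smul_a_of_conj hxF hx' (by rw [h.1]; exact inv_mem hxF))
  split_ifs with hzz
  · rw [← hT.card_invol]
    letI := Fintype.ofFinite S.F
    rw [Nat.card_congr (β := {w : S.F // (w ≠ 1 ∧ w * w = 1) ∧ w ≠ ⟨z, hxF⟩})
      { toFun := fun t => ⟨⟨t.1, hta _ t.2.1 t.2.2⟩,
          ⟨fun e => by
              have := congrArg Subtype.val e
              have ho := t.2.1
              rw [show (t.1 : G) = 1 from this, orderOf_one] at ho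
              norm_num at ho,
            Subtype.ext (by
              show (t.1 : G) * t.1 = 1
              have h := pow_orderOf_eq_one t.1
              rwa [t.2.1, pow_two] at h)⟩,
          fun e => by
            have h := t.2.2
            rw [show (t.1 : G) = z from congrArg Subtype.val e, hzz, orderOf_one] at h
            norm_num at h⟩
        invFun := fun w => ⟨w.1.1, hT.orderOf_two w.2.1.1 w.2.1.2, by
          rw [orderOf_mul_eq_two_iff (hT.orderOf_two w.2.1.1 w.2.1.2)]
          refine ⟨?_, fun e => w.2.2 (Subtype.ext ?_)⟩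
          · rw [hT.invol_central (hT.orderOf_two w.2.1.1 w.2.1.2) w.1.2 hxF, mul_inv_cancel_right]
            exact eq_inv_of_mul_eq_one_left hzz
          · have h2 : (w.1 : G) = z⁻¹ := eq_inv_of_mul_eq_one_right e
            rwa [inv_eq_of_mul_eq_one_right hzz] at h2⟩
        left_inv := fun t => rfl
        right_inv := fun w => rfl },
      Nat.card_eq_fintype_card, Nat.card_eq_fintype_card, Fintype.card_subtype, Fintype.card_subtype,
      show (Finset.univ.filter fun w : S.F => (w ≠ 1 ∧ w * w = 1) ∧ w ≠ ⟨z, hxF⟩) =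
        (Finset.univ.filter fun w : S.F => w ≠ 1 ∧ w * w = 1).erase ⟨z, hxF⟩ by
        ext w; simp [and_comm, and_assoc],
      Finset.card_erase_of_mem (Finset.mem_filter.mpr ⟨Finset.mem_univ _,
        fun e => hx' (congrArg Subtype.val e), Subtype.ext hzz⟩)]
  · haveI : IsEmpty {t : G // orderOf t = 2 ∧ orderOf (z * t) = 2} := ⟨fun ⟨t, ht, h⟩ => by
      have htF := hta t ht h
      rw [orderOf_mul_eq_two_iff ht, hT.invol_central ht htF hxF, mul_inv_cancel_right] at h
      exact hzz (mul_eq_one_iff_eq_inv.mpr h.1)⟩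
    exact Nat.card_of_isEmpty

/-- An element fixing two points is a product of two involutions in `d` ways. -/
theorem card_pairs_two {x : G} (hx1 : x ≠ 1) {c c' : Ω} (hcc : c ≠ c') (hc : x • c = c)
    (hc' : x • c' = c') :
    Nat.card {t : G // orderOf t = 2 ∧ orderOf (x * t) = 2} = Nat.card S.H := by
  obtain ⟨g, hga, hgb⟩ := S.pair hcc S.hab
  rw [← card_pairs_conj x g]
  have hx' : g * x * g⁻¹ ≠ 1 := fun e => hx1 (conj_eq_one_iff.mp e)
  have hxH : g * x * g⁻¹ ∈ S.H :=
    ⟨show (g * x * g⁻¹) • a = a by rw [← hga, mul_smul, mul_smul, inv_smul_smul, hc],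
      show (g * x * g⁻¹) • b = b by rw [← hgb, mul_smul, mul_smul, inv_smul_smul, hc']⟩
  clear hc hc' hx1
  generalize g * x * g⁻¹ = z at hx' hxH
  have hodd : Odd (orderOf z) := hT.odd_H.of_dvd_nat (Subgroup.orderOf_dvd_natCard _ hxH)
  have hnot : ∀ t : G, orderOf t = 2 → t ∉ S.H := fun t ht hm => by
    have := Subgroup.orderOf_dvd_natCard _ hm
    rw [ht] at this
    exact Nat.not_even_iff_odd.mpr hT.odd_H (even_iff_two_dvd.mpr this)
  rw [show Nat.card S.H = Nat.card ↥(stabilizer G a ⊓ stabilizer G b) from rfl,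
    ← (ZassenhausOdd.swappers S.hZ S.hab hT.odd_H).1]
  refine Nat.card_congr (Equiv.subtypeEquivRight fun t => ⟨fun ⟨ht, h⟩ => ⟨ht, ?_⟩,
    fun ⟨ht, hta, htb⟩ => ⟨ht, ?_⟩⟩)
  · rw [orderOf_mul_eq_two_iff ht] at h
    exact (S.fusion_H hxH hx' (by rw [h.1]; exact inv_mem hxH)).resolve_left
      fun hm => hnot t ht hm
  · rw [orderOf_mul_eq_two_iff ht]
    refine ⟨hT.swap t hta htb z hxH, fun e => ?_⟩
    rw [eq_inv_of_mul_eq_one_left e, orderOf_inv, ht] at hodd
    exact Nat.not_even_iff_odd.mpr hodd even_two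

/-- An element without fixed points. -/
theorem card_pairs_zero {x : G} (hx : ∀ c : Ω, x • c ≠ c) :
    (IsSR Ω x → Nat.card {t : G // orderOf t = 2 ∧ orderOf (x * t) = 2} =
      Nat.card (Subgroup.centralizer ({x} : Set G))) ∧
    (¬ IsSR Ω x → Nat.card {t : G // orderOf t = 2 ∧ orderOf (x * t) = 2} = 0) := by
  refine ⟨fun h => ?_, fun h => ?_⟩
  · rw [← hT.card_inverters h]
    refine Nat.card_congr (Equiv.subtypeEquivRight fun t => and_congr_right fun ht => ?_)
    rw [orderOf_mul_eq_two_iff ht, and_iff_left]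
    intro e
    have h2 := hT.odd_order_of_fpf hx
    rw [eq_inv_of_mul_eq_one_left e, orderOf_inv, ht] at h2
    exact Nat.not_even_iff_odd.mpr h2 even_two
  · haveI : IsEmpty {t : G // orderOf t = 2 ∧ orderOf (x * t) = 2} :=
      ⟨fun ⟨t, ht, he⟩ => h ⟨hx, t, ht, ((orderOf_mul_eq_two_iff ht).mp he).1⟩⟩
    exact Nat.card_of_isEmpty

/-- An element of prime order dividing `d` fixes two points. -/
theorem fixes_two_of_dvd_H {m : ℕ} (hq : Nat.card S.H + 1 = 2 ^ m) (hm : 1 ≤ m)
    (hn : Nat.card S.F = (2 ^ m) ^ 2) {p : ℕ} [Fact p.Prime] (hp : p ∣ Nat.card S.H) {y : G}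
    (hy : orderOf y = p) : ∃ c : Ω, y • c = c := by
  have hp2 : p ≠ 2 := fun e => Nat.not_even_iff_odd.mpr hT.odd_H (even_iff_two_dvd.mpr (e ▸ hp))
  let P : Sylow p S.H := default
  have hP : IsPGroup p ((P : Subgroup S.H).map S.H.subtype) := P.2.map _
  obtain ⟨Q, hQ⟩ := hP.exists_le_sylow
  have hcard : Nat.card Q = Nat.card ((P : Subgroup S.H).map S.H.subtype) := by
    rw [Subgroup.card_map_of_injective S.H.subtype_injective, Sylow.card_eq_multiplicity,
      Sylow.card_eq_multiplicity, S.card_G]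
    congr 1
    have hnd : ∀ k : ℕ, ¬ p ∣ (2 ^ m) ^ k := fun k h => hp2 ((Nat.prime_dvd_prime_iff_eq Fact.out
      Nat.prime_two).mp (Fact.out (p := p.Prime) |>.dvd_of_dvd_pow
        ((Fact.out : p.Prime).dvd_of_dvd_pow h)))
    have hn1 : ¬ p ∣ Nat.card S.F + 1 := fun h => by
      rw [hn] at h
      have h1 : p ∣ 2 ^ m - 1 := by rw [← hq, Nat.add_sub_cancel]; exact hp
      have h2 : p ∣ (2 ^ m) ^ 2 - 1 := by
        rw [show (1 : ℕ) = 1 ^ 2 from rfl, Nat.sq_sub_sq]; exact h1.mul_left _
      have h3 := Nat.dvd_sub h h2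
      have : (2 ^ m) ^ 2 + 1 - ((2 ^ m) ^ 2 - 1) = 2 := by
        have : 1 ≤ (2 ^ m) ^ 2 := Nat.one_le_pow _ _ (by positivity)
        omega
      rw [this] at h3
      exact hp2 ((Nat.prime_dvd_prime_iff_eq Fact.out Nat.prime_two).mp h3)
    rw [Nat.factorization_mul (by omega) (mul_ne_zero Nat.card_pos.ne' Nat.card_pos.ne'),
      Nat.factorization_mul Nat.card_pos.ne' Nat.card_pos.ne', Finsupp.add_apply, Finsupp.add_apply,
      Nat.factorization_eq_zero_of_not_dvd hn1,
      Nat.factorization_eq_zero_of_not_dvd (by rw [hn]; exact hnd 2), zero_add, zero_add]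
  have hQH : (Q : Subgroup G) ≤ S.H :=
    (Subgroup.eq_of_le_of_card_ge hQ hcard.le).ge.trans (Subgroup.map_subtype_le _)
  obtain ⟨R, hR⟩ := (IsPGroup.of_card (G := Subgroup.zpowers y) (n := 1)
    (by rw [Nat.card_zpowers, hy, pow_one])).exists_le_sylow
  obtain ⟨g, rfl⟩ := MulAction.exists_smul_eq G R Q
  have h := hQH (Subgroup.smul_mem_pointwise_smul _ (MulAut.conj g) _ (hR (Subgroup.mem_zpowers y)))
  refine ⟨g⁻¹ • a, ?_⟩
  have h1 : (g * y * g⁻¹) • a = a := h.1
  rw [mul_smul, mul_smul, ← eq_inv_smul_iff] at h1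
  exact h1

open Classical in
/-- The two counting equations for the tori and the oddness of `m`. -/
theorem odd_log {m : ℕ} (hq : Nat.card S.H + 1 = 2 ^ m) (hm : 2 ≤ m)
    (hn : Nat.card S.F = (2 ^ m) ^ 2) : Odd m := by
  haveI := S.hZ.1
  letI := Fintype.ofFinite G
  set q := 2 ^ m with hqdef
  set d := Nat.card S.H with hd
  set n := Nat.card S.F with hndef
  have hsq : n = (d + 1) ^ 2 := by rw [hn, hq]
  have hdpos : 0 < d := by have := S.one_lt_H; omega
  have hnpos : 0 < n := Nat.card_pos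
  have hG : Nat.card G = (n + 1) * (n * d) := S.card_G
  have hΩ : Fintype.card Ω = n + 1 := S.card_F.symm
  let fix' : G → Finset Ω := fun x => Finset.univ.filter fun c => x • c = c
  have hfix_le : ∀ x : G, x ≠ 1 → (fix' x).card ≤ 2 := by
    intro x hx
    by_contra h
    push Not at h
    obtain ⟨c₁, c₂, c₃, h₁, h₂, h₃, h12, h13, h23⟩ := Finset.two_lt_card_iff.mp h
    exact hx (S.free h12 h13 h23 (Finset.mem_filter.mp h₁).2 (Finset.mem_filter.mp h₂).2
      (Finset.mem_filter.mp h₃).2)
  have hfix_one : (fix' 1).card = n + 1 := by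
    rw [← hΩ, ← Finset.card_univ]; congr 1; ext c; simp [fix']
  haveI := S.isPretransitive
  have hsum1 : ∑ x : G, (fix' x).card = (n + 1) * (n * d) := by
    simp only [fix', Finset.card_filter]
    rw [Finset.sum_comm, Finset.sum_congr rfl fun c _ => show _ = n * d by
      rw [← Finset.card_filter, ← S.card_stab]
      obtain ⟨g, hg⟩ := hT.exists_to_a c
      rw [Nat.card_eq_fintype_card, Fintype.card_subtype]
      refine Finset.card_bij' (fun x _ => g * x * g⁻¹) (fun x _ => g⁻¹ * x * g) ?_ ?_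
        (fun x _ => by group) (fun x _ => by group)
      · intro x hx
        simp only [Finset.mem_filter, Finset.mem_univ, true_and, mem_stabilizer_iff] at hx ⊢
        rw [← hg, mul_smul, mul_smul, inv_smul_smul, hx]
      · intro x hx
        simp only [Finset.mem_filter, Finset.mem_univ, true_and, mem_stabilizer_iff] at hx ⊢
        rw [mul_smul, mul_smul, hg, hx, ← hg, inv_smul_smul],
      Finset.sum_const, Finset.card_univ, hΩ, smul_eq_mul]
  have hsum2 : ∑ x : G, ((fix' x).offDiag).card = (n + 1) * n * d := by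
    have e : ∀ x : G, ((fix' x).offDiag).card = ((Finset.univ : Finset Ω).offDiag.filter
        fun p => x • p.1 = p.1 ∧ x • p.2 = p.2).card := fun x => by
      congr 1; ext p; simp [fix', Finset.mem_offDiag]; tauto
    simp only [e, Finset.card_filter]
    rw [Finset.sum_comm, Finset.sum_congr rfl fun p hp => show _ = d by
      rw [← Finset.card_filter, hd, Setup.H, Nat.card_eq_fintype_card, Fintype.card_subtype]
      obtain ⟨g, hga, hgb⟩ := S.pair (Finset.mem_offDiag.mp hp).2.2 S.hab
      refine Finset.card_bij' (fun x _ => g * x * g⁻¹) (fun x _ => g⁻¹ * x * g) ?_ ?_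
        (fun x _ => by group) (fun x _ => by group)
      · intro x hx
        simp only [Finset.mem_filter, Finset.mem_univ, true_and, Subgroup.mem_inf,
          mem_stabilizer_iff] at hx ⊢
        exact ⟨by rw [← hga, mul_smul, mul_smul, inv_smul_smul, hx.1],
          by rw [← hgb, mul_smul, mul_smul, inv_smul_smul, hx.2]⟩
      · intro x hx
        simp only [Finset.mem_filter, Finset.mem_univ, true_and, Subgroup.mem_inf,
          mem_stabilizer_iff] at hx ⊢
        exact ⟨by rw [mul_smul, mul_smul, hga, hx.1, ← hga, inv_smul_smul],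
          by rw [mul_smul, mul_smul, hgb, hx.2, ← hgb, inv_smul_smul]⟩,
      Finset.sum_const, smul_eq_mul, Finset.offDiag_card, Finset.card_univ, hΩ]
    congr 1
    rw [← Nat.mul_sub_one]; rfl
  -- the three kinds of nontrivial elements
  set X := (Finset.univ : Finset G).erase 1 with hX
  set X0 := X.filter fun x => (fix' x).card = 0 with hX0
  set X1 := X.filter fun x => (fix' x).card = 1 with hX1
  set X2 := X.filter fun x => (fix' x).card = 2 with hX2
  have hsplit : ∀ f : G → ℕ, ∑ x : G, f x =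
      f 1 + (∑ x ∈ X0, f x + (∑ x ∈ X1, f x + ∑ x ∈ X2, f x)) := by
    intro f
    have e1 : (X.filter fun x => ¬ (fix' x).card = 0).filter (fun x => (fix' x).card = 1) = X1 := by
      rw [hX1, Finset.filter_filter]
      exact Finset.filter_congr fun x _ => by omega
    have e2 : (X.filter fun x => ¬ (fix' x).card = 0).filter (fun x => ¬ (fix' x).card = 1) = X2 := by
      rw [hX2, Finset.filter_filter]
      exact Finset.filter_congr fun x hx => by have := hfix_le x (Finset.mem_erase.mp hx).1; omega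
    rw [← Finset.add_sum_erase _ f (Finset.mem_univ 1), ← hX,
      ← Finset.sum_filter_add_sum_filter_not X (fun x => (fix' x).card = 0), ← hX0,
      ← Finset.sum_filter_add_sum_filter_not (X.filter fun x => ¬ (fix' x).card = 0)
        (fun x => (fix' x).card = 1), e1, e2]
  have hN : X0.card + (X1.card + X2.card) + 1 = (n + 1) * (n * d) := by
    have := hsplit fun _ => 1
    simp only [Finset.sum_const, smul_eq_mul, mul_one, Finset.card_univ,
      ← Nat.card_eq_fintype_card, hG] at this
    omega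
  have hN1 : n + 1 + (X1.card + 2 * X2.card) = (n + 1) * (n * d) := by
    rw [← hsum1, hsplit, hfix_one, Finset.sum_congr rfl fun x hx => (Finset.mem_filter.mp hx).2,
      Finset.sum_congr (s₁ := X1) rfl fun x hx => (Finset.mem_filter.mp hx).2,
      Finset.sum_congr (s₁ := X2) rfl fun x hx => (Finset.mem_filter.mp hx).2]
    simp only [Finset.sum_const, smul_eq_mul]
    omega
  have hN2 : (n + 1) * n + 2 * X2.card = (n + 1) * n * d := by
    rw [← hsum2, hsplit fun x => ((fix' x).offDiag).card]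
    simp only [Finset.offDiag_card, hfix_one]
    rw [Finset.sum_congr rfl fun x hx => by rw [(Finset.mem_filter.mp hx).2],
      Finset.sum_congr (s₁ := X1) rfl fun x hx => by rw [(Finset.mem_filter.mp hx).2],
      Finset.sum_congr (s₁ := X2) rfl fun x hx => by rw [(Finset.mem_filter.mp hx).2],
      ← Nat.mul_sub_one, Nat.add_sub_cancel]
    simp only [Finset.sum_const, smul_eq_mul]
    omega
  -- pairs of involutions
  set I := (Finset.univ : Finset G).filter fun t => orderOf t = 2 with hI
  have hIc : I.card = (n + 1) * d := by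
    have h := ZassenhausOdd.card_involutions S.hZ S.hab hT.odd_H
    rw [if_pos hT.odd_Ω, hΩ, Nat.add_sub_cancel, Nat.card_eq_fintype_card, Fintype.card_subtype,
      ← hI] at h
    refine Nat.eq_of_mul_eq_mul_right hnpos ?_
    rw [h]
    show (n + 1) * n * d = _
    ring
  let cp : G → ℕ := fun x => Nat.card {t : G // orderOf t = 2 ∧ orderOf (x * t) = 2}
  have hpairs : ∑ x : G, cp x = I.card * I.card := by
    rw [← Finset.card_product, Finset.card_eq_sum_card_fiberwise (s := I ×ˢ I)
      (f := fun p : G × G => p.1 * p.2) (t := Finset.univ) (fun _ _ => Finset.mem_univ _)]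
    refine Finset.sum_congr rfl fun x _ => ?_
    simp only [cp]
    rw [Nat.card_eq_fintype_card, Fintype.card_subtype]
    refine Finset.card_bij' (fun t _ => (x * t, t)) (fun p _ => p.2) ?_ ?_ (fun t _ => rfl) ?_
    · intro t ht
      simp only [Finset.mem_filter, Finset.mem_univ, true_and, hI, Finset.mem_product] at ht ⊢
      have htt : t * t = 1 := by rw [← pow_two, ← ht.1, pow_orderOf_eq_one]
      exact ⟨⟨ht.2, ht.1⟩, by rw [mul_assoc, htt, mul_one]⟩
    · intro p hp
      simp only [Finset.mem_filter, Finset.mem_univ, true_and, hI, Finset.mem_product] at hp ⊢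
      have htt : p.2 * p.2 = 1 := by rw [← pow_two, ← hp.1.2, pow_orderOf_eq_one]
      exact ⟨hp.1.2, by rw [← hp.2, mul_assoc, htt, mul_one]; exact hp.1.1⟩
    · intro p hp
      simp only [Finset.mem_filter, hI, Finset.mem_product, Finset.mem_univ, true_and] at hp
      have htt : p.2 * p.2 = 1 := by rw [← pow_two, ← hp.1.2, pow_orderOf_eq_one]
      exact Prod.ext (by show x * p.2 = p.1; rw [← hp.2, mul_assoc, htt, mul_one]) rfl
  set U := X0.filter fun x => IsSR Ω x with hU
  have hcp1 : cp 1 = I.card := by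
    simp only [cp, one_mul, and_self, hI]
    rw [Nat.card_eq_fintype_card, Fintype.card_subtype]
  have hmem0 : ∀ {x : G}, x ∈ X0 ↔ x ≠ 1 ∧ ∀ c : Ω, x • c ≠ c := fun {x} => by
    simp [hX0, hX, fix', Finset.filter_eq_empty_iff]
  have hcp0 : ∑ x ∈ X0, cp x = ∑ x ∈ U, Nat.card (Subgroup.centralizer ({x} : Set G)) := by
    conv_rhs => rw [hU, Finset.sum_filter]
    refine Finset.sum_congr rfl fun x hx => ?_
    split_ifs with h
    · exact (hT.card_pairs_zero (hmem0.mp hx).2).1 h
    · exact (hT.card_pairs_zero (hmem0.mp hx).2).2 h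
  have hcp2 : ∑ x ∈ X2, cp x = X2.card * d := by
    rw [Finset.sum_congr rfl fun x hx => ?_, Finset.sum_const, smul_eq_mul]
    rw [hX2, Finset.mem_filter] at hx
    obtain ⟨c, c', hcc, hcs⟩ := Finset.card_eq_two.mp hx.2
    exact hT.card_pairs_two (Finset.mem_erase.mp hx.1).1 hcc
      (Finset.mem_filter.mp (hcs ▸ Finset.mem_insert_self c _ : c ∈ fix' x)).2
      (Finset.mem_filter.mp
        (hcs ▸ Finset.mem_insert_of_mem (Finset.mem_singleton_self c') : c' ∈ fix' x)).2
  have hcp1' : ∑ x ∈ X1, cp x = I.card * (d - 1) := by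
    have hIX1 : I = X1.filter fun x => x * x = 1 := by
      ext x
      simp only [hI, hX1, hX, Finset.mem_filter, Finset.mem_univ, true_and, Finset.mem_erase]
      constructor
      · intro hx
        obtain ⟨c, hc, huniq⟩ := hT.invol_unique hx
        refine ⟨⟨⟨fun e => by rw [e, orderOf_one] at hx; norm_num at hx, trivial⟩,
          Finset.card_eq_one.mpr ⟨c, ?_⟩⟩, by rw [← pow_two, ← hx, pow_orderOf_eq_one]⟩
        ext y
        simp only [fix', Finset.mem_filter, Finset.mem_univ, true_and, Finset.mem_singleton]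
        exact ⟨huniq y, fun e => e ▸ hc⟩
      · exact fun hx => orderOf_eq_prime (by rw [pow_two, hx.2]) hx.1.1.1
    conv_rhs => rw [hIX1, ← smul_eq_mul, ← Finset.sum_const, Finset.sum_filter]
    refine Finset.sum_congr rfl fun x hx => ?_
    rw [hX1, Finset.mem_filter] at hx
    obtain ⟨c, hc⟩ := Finset.card_eq_one.mp hx.2
    exact hT.card_pairs_one (Finset.mem_erase.mp hx.1).1 (c := c)
      (Finset.mem_filter.mp (hc ▸ Finset.mem_singleton_self c : c ∈ fix' x)).2
      fun y hy => Finset.mem_singleton.mp (hc ▸ Finset.mem_filter.mpr ⟨Finset.mem_univ _, hy⟩)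
  have hS0 : I.card * I.card = I.card + (∑ x ∈ U, Nat.card (Subgroup.centralizer ({x} : Set G)) +
      (I.card * (d - 1) + X2.card * d)) := by
    rw [← hpairs, hsplit cp, hcp1, hcp0, hcp1', hcp2]
  -- the tori
  set T := U.image fun x => Subgroup.centralizer ({x} : Set G) with hTo
  have hmemU : ∀ {x : G}, x ∈ U ↔ IsSR Ω x := fun {x} => by
    rw [hU, Finset.mem_filter, hmem0]
    exact ⟨fun h => h.2, fun h => ⟨⟨h.ne_one a, h.fpf⟩, h⟩⟩
  have hfib : ∀ A ∈ T, (U.filter fun x => Subgroup.centralizer ({x} : Set G) = A).card =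
      Nat.card A - 1 := by
    intro A hA
    obtain ⟨x, hx, rfl⟩ := Finset.mem_image.mp hA
    rw [Nat.card_eq_fintype_card, Fintype.card_subtype,
      ← Finset.card_erase_of_mem (s := Finset.univ.filter fun z => z ∈ Subgroup.centralizer ({x} : Set G))
        (Finset.mem_filter.mpr ⟨Finset.mem_univ _, one_mem _⟩)]
    congr 1
    ext y
    rw [Finset.mem_filter, hmemU, Finset.mem_erase, Finset.mem_filter, and_iff_right (Finset.mem_univ _)]
    constructor
    · rintro ⟨hy, he⟩
      exact ⟨hy.ne_one a, he ▸ Subgroup.mem_centralizer_singleton_iff.mpr rfl⟩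
    · rintro ⟨hy1, hy⟩
      exact hT.centralizer_eq (hmemU.mp hx) hy hy1
  have hsumU : ∀ f : ℕ → ℕ, ∑ x ∈ U, f (Nat.card (Subgroup.centralizer ({x} : Set G))) =
      ∑ A ∈ T, (Nat.card A - 1) * f (Nat.card A) := by
    intro f
    rw [hTo, ← Finset.sum_fiberwise_of_maps_to
      (fun x hx => Finset.mem_image_of_mem (fun x => Subgroup.centralizer ({x} : Set G)) hx)]
    refine Finset.sum_congr rfl fun A hA => ?_
    rw [Finset.sum_congr rfl fun x hx => by rw [(Finset.mem_filter.mp hx).2], Finset.sum_const,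
      hfib A hA, smul_eq_mul]
  set K := T.image fun A : Subgroup G => Nat.card A with hK
  have hKmem : ∀ k ∈ K, ∃ x, IsSR Ω x ∧ Nat.card (Subgroup.centralizer ({x} : Set G)) = k := by
    intro k hk
    obtain ⟨A, hA, rfl⟩ := Finset.mem_image.mp hk
    obtain ⟨x, hx, rfl⟩ := Finset.mem_image.mp hA
    exact ⟨x, hmemU.mp hx, rfl⟩
  -- a common prime makes two centralisers conjugate
  have hconj : ∀ x y : G, IsSR Ω x → IsSR Ω y → ∀ p : ℕ, p.Prime →
      p ∣ Nat.card (Subgroup.centralizer ({x} : Set G)) →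
      p ∣ Nat.card (Subgroup.centralizer ({y} : Set G)) →
      ∃ g : G, (Subgroup.centralizer ({x} : Set G)).map (MulAut.conj g).toMonoidHom =
        Subgroup.centralizer ({y} : Set G) := by
    intro x y hx hy p hp hpx hpy
    haveI := Fact.mk hp
    obtain ⟨⟨z, hz⟩, ho⟩ := exists_prime_orderOf_dvd_card'
      (G := Subgroup.centralizer ({x} : Set G)) p hpx
    rw [Subgroup.orderOf_mk] at ho
    have hz1 : z ≠ 1 := fun e => hp.one_lt.ne (by rw [← ho, e, orderOf_one])
    obtain ⟨g, hg⟩ := hT.conj_mem_centralizer hy hpy ho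
    refine ⟨g, ?_⟩
    rw [← (hT.centralizer_eq hx hz hz1).2, map_conj_centralizer]
    exact (hT.centralizer_eq hy hg fun e => hz1 (conj_eq_one_iff.mp e)).2
  have hK3 : ∀ k ∈ K, 3 ≤ k := by
    intro k hk
    obtain ⟨x, hx, rfl⟩ := hKmem k hk
    have h1 := hT.odd_centralizer hx.fpf
    have h2 : 1 < Nat.card (Subgroup.centralizer ({x} : Set G)) := by
      rw [Subgroup.one_lt_card_iff_ne_bot]
      intro e
      exact hx.ne_one a (Subgroup.mem_bot.mp (e ▸ Subgroup.mem_centralizer_singleton_iff.mpr rfl))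
    obtain ⟨j, hj⟩ := h1
    omega
  have hfix_d : ∀ x : G, (∀ c : Ω, x • c ≠ c) →
      (Nat.card (Subgroup.centralizer ({x} : Set G))).Coprime (n * d) := by
    intro x hx
    refine Nat.Coprime.mul_right ?_ ?_
    · rw [hn, hqdef]
      exact (((Nat.coprime_two_right.mpr (hT.odd_centralizer hx)).pow_right m).pow_right 2)
    · refine Nat.coprime_of_dvd fun p hp hpx hpd => ?_
      haveI := Fact.mk hp
      obtain ⟨⟨y, hy⟩, ho⟩ := exists_prime_orderOf_dvd_card'
        (G := Subgroup.centralizer ({x} : Set G)) p hpx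
      rw [Subgroup.orderOf_mk] at ho
      obtain ⟨c, hc⟩ := hT.fixes_two_of_dvd_H hq (by omega) hn hpd ho
      have hy1 : y ≠ 1 := fun e => hp.one_lt.ne (by rw [← ho, e, orderOf_one])
      have hcomm := Subgroup.mem_centralizer_singleton_iff.mp hy
      have h1 : y • (x • c) = x • c := by rw [← mul_smul, hcomm, mul_smul, hc]
      have h2 : y • (x • x • c) = x • x • c := by rw [← mul_smul, hcomm, mul_smul, h1]
      exact hy1 (S.free (hx c).symm
        (fun e => hx c (smul_eq_of_sq_of_odd (hT.odd_order_of_fpf hx) e.symm))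
        (fun e => hx c (smul_left_cancel x e.symm)) hc h1 h2)
  have hKr : ∀ k ∈ K, k * ((n + 1) / k) = n + 1 := by
    intro k hk
    obtain ⟨x, hx, rfl⟩ := hKmem k hk
    refine Nat.mul_div_cancel' ((hfix_d x hx.fpf).dvd_of_dvd_mul_right ?_)
    rw [← hG]; exact Subgroup.card_subgroup_dvd_card _
  have hKdata : ∀ k ∈ K, ∃ L : ℕ, (L = 2 ∨ L = 1 ∧ 4 ∣ k - 1) ∧
      4 * (T.filter fun A : Subgroup G => Nat.card A = k).card = L * ((n + 1) / k) * (n * d) := by
    intro k hk
    obtain ⟨x, hx, hxk⟩ := hKmem k hk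
    obtain ⟨l, hl, hldvd, hlN⟩ := hT.card_normalizer (hsq.trans rfl) hx
    set A := Subgroup.centralizer ({x} : Set G) with hA
    have horb : (T.filter fun B : Subgroup G => Nat.card B = k) =
        Finset.univ.image fun g : G => A.map (MulAut.conj g).toMonoidHom := by
      ext B
      simp only [Finset.mem_filter, Finset.mem_image, Finset.mem_univ, true_and, hTo]
      constructor
      · rintro ⟨⟨y, hy, rfl⟩, hBk⟩
        refine hconj x y hx (hmemU.mp hy) k.minFac (Nat.minFac_prime (by have := hK3 k hk; omega)) ?_ ?_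
        · rw [hxk]; exact Nat.minFac_dvd k
        · rw [hBk]; exact Nat.minFac_dvd k
      · rintro ⟨g, rfl⟩
        exact ⟨⟨g * x * g⁻¹, hmemU.mpr (hx.conj g), (map_conj_centralizer x g).symm⟩,
          by rw [Subgroup.card_map_of_injective (MulAut.conj g).injective, hxk]⟩
    have hc := card_image_mul (fun g : G => A.map (MulAut.conj g).toMonoidHom)
      (Subgroup.normalizer (A : Set G)) fun g g₀ => by
        rw [Subgroup.mem_normalizer_iff, SetLike.ext_iff]
        simp only [Subgroup.mem_map_equiv, MulAut.conj_symm_apply]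
        constructor
        · intro h z
          have := h (g * z * g⁻¹)
          rw [show g⁻¹ * (g * z * g⁻¹) * g = z by group,
            show g₀⁻¹ * (g * z * g⁻¹) * g₀ = g₀⁻¹ * g * z * (g₀⁻¹ * g)⁻¹ by group] at this
          exact this
        · intro h z
          have := h (g⁻¹ * z * g)
          rw [show g₀⁻¹ * g * (g⁻¹ * z * g) * (g₀⁻¹ * g)⁻¹ = g₀⁻¹ * z * g₀ by group] at this
          exact this
    rw [← horb, hlN, hxk, hG, ← hKr k hk] at hc
    rw [hxk] at hldvd
    have hc2 : (T.filter fun B : Subgroup G => Nat.card B = k).card * l = (n + 1) / k * (n * d) := by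
      refine Nat.eq_of_mul_eq_mul_left (by have := hK3 k hk; omega : 0 < k) ?_
      rw [← mul_assoc k ((n + 1) / k), ← hc]; ring
    rcases hl with rfl | rfl
    · exact ⟨2, Or.inl rfl, by rw [mul_assoc, ← hc2]; ring⟩
    · exact ⟨1, Or.inr ⟨rfl, hldvd⟩, by rw [one_mul, ← hc2]; ring⟩
  choose! L hL hLcard using hKdata
  have hsumT : ∀ f : ℕ → ℕ, 4 * (∑ A ∈ T, (Nat.card A - 1) * f (Nat.card A)) =
      n * d * ∑ k ∈ K, L k * ((n + 1) / k) * ((k - 1) * f k) := by
    intro f
    rw [hK, ← Finset.sum_fiberwise_of_maps_to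
      (fun A hA => Finset.mem_image_of_mem (fun A : Subgroup G => Nat.card A) hA), Finset.mul_sum, Finset.mul_sum]
    refine Finset.sum_congr rfl fun k hk => ?_
    rw [Finset.sum_congr rfl fun A hA => by rw [(Finset.mem_filter.mp hA).2], Finset.sum_const,
      smul_eq_mul, ← mul_assoc 4, hLcard k hk]
    ring
  -- the first equation
  have hE1 : ∑ k ∈ K, L k * (k - 1) = 2 * q := by
    have h1 := hsumT fun k => k
    rw [← hsumU fun k => k, Finset.sum_congr rfl fun k hk => show
      L k * ((n + 1) / k) * ((k - 1) * k) = (n + 1) * (L k * (k - 1)) by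
        nth_rw 2 [← hKr k hk]; ring, ← Finset.mul_sum] at h1
    refine Nat.eq_of_mul_eq_mul_left (show 0 < n * d * (n + 1) by positivity) ?_
    rw [mul_assoc, ← h1]
    obtain ⟨d', hd'⟩ : ∃ d', d = d' + 1 := ⟨d - 1, by omega⟩
    rw [hd', Nat.add_sub_cancel, hIc, hd'] at hS0
    rw [hd'] at hN2
    rw [← hq, hd']
    zify at hS0 hN2 ⊢
    linear_combination (-4 : ℤ) * hS0 - 2 * ((d' : ℤ) + 1) * hN2
  -- the elements that are not real
  set U' := X0.filter fun x => ¬ IsSR Ω x with hU'
  have hUU : X0.card = U.card + U'.card := by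
    rw [hU, hU', Finset.card_filter_add_card_filter_not]
  have hP : n * d * (∏ k ∈ K, k) ∣ U'.card := by
    rw [Finset.card_eq_sum_card_image (fun x => ConjClasses.mk x) U']
    refine Finset.dvd_sum fun C hC => ?_
    obtain ⟨x, hx, rfl⟩ := Finset.mem_image.mp hC
    obtain ⟨hx0, hxn⟩ := Finset.mem_filter.mp hx
    obtain ⟨hx1, hxf⟩ := hmem0.mp hx0
    have hcls : (U'.filter fun y => ConjClasses.mk y = ConjClasses.mk x) =
        Finset.univ.image fun g : G => g * x * g⁻¹ := by
      ext y
      simp only [Finset.mem_filter, Finset.mem_image, Finset.mem_univ, true_and,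
        ConjClasses.mk_eq_mk_iff_isConj]
      constructor
      · rintro ⟨-, h⟩
        exact isConj_iff.mp h.symm
      · rintro ⟨g, rfl⟩
        refine ⟨Finset.mem_filter.mpr ⟨hmem0.mpr ⟨fun e => hx1 (conj_eq_one_iff.mp e),
          fpf_conj hxf g⟩, fun h => hxn ?_⟩, (isConj_iff.mpr ⟨g, rfl⟩).symm⟩
        have := h.conj g⁻¹
        rwa [show g⁻¹ * (g * x * g⁻¹) * g⁻¹⁻¹ = x by group] at this
    rw [hcls]
    have hc := card_image_mul (fun g : G => g * x * g⁻¹) (Subgroup.centralizer ({x} : Set G))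
      fun g g₀ => by
        rw [Subgroup.mem_centralizer_singleton_iff]
        constructor <;> intro e
        · calc g₀⁻¹ * g * x = g₀⁻¹ * (g * x * g⁻¹) * g := by group
            _ = g₀⁻¹ * (g₀ * x * g₀⁻¹) * g := by rw [e]
            _ = x * (g₀⁻¹ * g) := by group
        · calc g * x * g⁻¹ = g₀ * (g₀⁻¹ * g * x) * g⁻¹ := by group
            _ = g₀ * (x * (g₀⁻¹ * g)) * g⁻¹ := by rw [e]
            _ = g₀ * x * g₀⁻¹ := by group
    have hcopP : (Nat.card (Subgroup.centralizer ({x} : Set G))).Coprime (∏ k ∈ K, k) := by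
      refine Nat.Coprime.prod_right fun k hk => ?_
      obtain ⟨y, hy, rfl⟩ := hKmem k hk
      refine Nat.coprime_of_dvd fun p hp hpx hpy => hxn ?_
      haveI := Fact.mk hp
      obtain ⟨⟨z, hz⟩, ho⟩ := exists_prime_orderOf_dvd_card'
        (G := Subgroup.centralizer ({x} : Set G)) p hpx
      rw [Subgroup.orderOf_mk] at ho
      obtain ⟨g, hg⟩ := hT.conj_mem_centralizer hy hpy ho
      have hz1 : g * z * g⁻¹ ≠ 1 := fun e =>
        hp.one_lt.ne (by rw [← ho, conj_eq_one_iff.mp e, orderOf_one])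
      obtain ⟨hzSR, hzc⟩ := hT.centralizer_eq hy hg hz1
      have hgx : g * x * g⁻¹ ∈ Subgroup.centralizer ({g * z * g⁻¹} : Set G) := by
        rw [Subgroup.mem_centralizer_singleton_iff]
        calc g * x * g⁻¹ * (g * z * g⁻¹) = g * (x * z) * g⁻¹ := by group
          _ = g * (z * x) * g⁻¹ := by rw [Subgroup.mem_centralizer_singleton_iff.mp hz]
          _ = g * z * g⁻¹ * (g * x * g⁻¹) := by group
      have h := ((hT.centralizer_eq hzSR hgx fun e => hx1 (conj_eq_one_iff.mp e)).1).conj g⁻¹
      rwa [show g⁻¹ * (g * x * g⁻¹) * g⁻¹⁻¹ = x by group] at h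
    refine (Nat.Coprime.mul_right (hfix_d x hxf) hcopP).symm.dvd_of_dvd_mul_right ?_
    rw [hc, hG, mul_comm (n + 1)]
    refine Nat.mul_dvd_mul_left _ ?_
    refine Finset.prod_dvd_of_isRelPrime ?_ fun k hk => Dvd.intro _ (hKr k hk)
    intro k hk k' hk' hne
    obtain ⟨y, hy, rfl⟩ := hKmem k hk
    obtain ⟨y', hy', rfl⟩ := hKmem k' hk'
    refine Nat.coprime_iff_isRelPrime.mp (Nat.coprime_of_dvd fun p hp h1 h2 => hne ?_)
    obtain ⟨g, hg⟩ := hconj y y' hy hy' p hp h1 h2
    rw [← hg, Subgroup.card_map_of_injective (MulAut.conj g).injective]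
  obtain ⟨M, hM⟩ := hP
  refine tori_arith hm hqdef hq K L (fun k => (n + 1) / k) hK3 hL
    (fun k hk => by rw [hKr k hk, hn]) ?_ hE1 M ?_
  · intro k hk k' hk' hne
    obtain ⟨y, hy, rfl⟩ := hKmem k hk
    obtain ⟨y', hy', rfl⟩ := hKmem k' hk'
    refine Nat.coprime_of_dvd fun p hp h1 h2 => hne ?_
    obtain ⟨g, hg⟩ := hconj y y' hy hy' p hp h1 h2
    rw [← hg, Subgroup.card_map_of_injective (MulAut.conj g).injective]
  · have h1 : 4 * U.card = n * d * ∑ k ∈ K, L k * ((n + 1) / k) * ((k - 1) * 1) := by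
      rw [← hsumT fun _ => 1, ← hsumU fun _ => 1, Finset.card_eq_sum_ones]
    rw [Finset.sum_congr rfl fun k _ => show
      L k * ((n + 1) / k) * ((k - 1) * 1) = L k * ((k - 1) * ((n + 1) / k)) by ring] at h1
    refine Nat.eq_of_mul_eq_mul_left (show 0 < n * d by positivity) ?_
    rw [mul_add, ← h1]
    obtain ⟨d', hd'⟩ : ∃ d', d = d' + 1 := ⟨d - 1, by omega⟩
    have hnq : (n : ℤ) = ((d' : ℤ) + 2) ^ 2 := by rw [hsq, hd']; push_cast; ring
    rw [← hq]
    rw [hUU, hM] at hN
    rw [hd'] at hN hN1 hN2 ⊢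
    zify at hN hN1 hN2 ⊢
    linear_combination (4 : ℤ) * hN - 4 * hN1 + 2 * hN2 + 2 * (d' : ℤ) * (n : ℤ) * hnq

end IsTwoKernel

end Setup

end CfsgLib.Perm.ZGroup
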