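import Mathlib
import Cfsg.Agent.Lib.Char.CoherenceKernel
import Cfsg.Agent.Lib.Char.CoherenceGrow
import Cfsg.Agent.Lib.Char.Linear
import Cfsg.Agent.Lib.Char.Integral

/-!
# Characters of a 2-group of order `q ^ 3` whose centre of order `q` holds all squares

The degrees are at most `q`, and a character of degree `q` is real of indicator `-1` as soon as a
set of automorphisms is regular on the nontrivial central elements.
-/

set_option autoImplicit false

open scoped ComplexConjugate

namespace CfsgLib.Perm.ZGroup.CubicKernel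

open CfsgLib.Char

variable {K : Type*} [Group K] [Fintype K] {m : ℕ}

theorem index_center (hcard : Nat.card K = (2 ^ m) ^ 3) (hcz : Nat.card (Subgroup.center K) = 2 ^ m) :
    (Subgroup.center K).index = (2 ^ m) ^ 2 := by
  have h := (Subgroup.center K).card_mul_index
  rw [hcard, hcz] at h
  refine Nat.eq_of_mul_eq_mul_left (pow_pos two_pos m) ?_
  rw [h]; ring

/-- The degrees are powers of two not above `q`. -/
theorem degree_cases (hcard : Nat.card K = (2 ^ m) ^ 3)
    (hcz : Nat.card (Subgroup.center K) = 2 ^ m) {θ : K → ℂ} (hθ : Cfsg.IsIrrCharacter K θ) :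
    ∃ D : ℕ, θ 1 = (D : ℂ) ∧ 0 < D ∧ (D = 2 ^ m ∨ 2 * D ≤ 2 ^ m) := by
  obtain ⟨D, hD, hsq⟩ := CoherenceKernel.degree_sq_le (Subgroup.center K) ⊥
    (fun x hx y => Subgroup.mem_bot.mpr (by
      rw [← Subgroup.mem_center_iff.mp hx y, mul_inv_cancel_right, mul_inv_cancel])) hθ
    (fun b hb => by rw [Subgroup.mem_bot.mp hb])
  obtain ⟨D', hD'0, hD'⟩ := IsIrrCharacter.apply_one_eq hθ
  obtain rfl : D = D' := by exact_mod_cast hD.symm.trans hD'
  obtain ⟨e, he, hdvd⟩ := IsIrrCharacter.apply_one_dvd_card hθ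
  obtain rfl : D = e := by exact_mod_cast hD.symm.trans he
  rw [hcard, ← pow_mul] at hdvd
  obtain ⟨i, -, rfl⟩ := (Nat.dvd_prime_pow Nat.prime_two).mp hdvd
  rw [index_center hcard hcz] at hsq
  refine ⟨2 ^ i, hD, hD'0, ?_⟩
  rcases lt_trichotomy i m with h | h | h
  · refine Or.inr ?_
    rw [mul_comm, ← pow_succ]
    exact Nat.pow_le_pow_right two_pos h
  · exact Or.inl (by rw [h])
  · exfalso
    have h1 : 2 ^ m < 2 ^ i := Nat.pow_lt_pow_right one_lt_two h
    have := Nat.pow_lt_pow_left h1 two_ne_zero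
    omega

/-- A character of degree `q` is real and vanishes outside the centre. -/
theorem vanish_and_real (hcard : Nat.card K = (2 ^ m) ^ 3)
    (hcz : Nat.card (Subgroup.center K) = 2 ^ m)
    (hZ : ∀ x : K, x ∈ Subgroup.center K ↔ x * x = 1)
    {θ : K → ℂ} (hθ : Cfsg.IsIrrCharacter K θ) (hd : θ 1 = ((2 ^ m : ℕ) : ℂ)) :
    (∀ x, x ∉ Subgroup.center K → θ x = 0) ∧ ∀ x, (θ x).im = 0 := by
  classical
  set q : ℕ := 2 ^ m with hq
  have hq0 : (q : ℂ) ≠ 0 := Nat.cast_ne_zero.mpr (pow_ne_zero m two_ne_zero)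
  have hC : (Nat.card K : ℂ) ≠ 0 := Nat.cast_ne_zero.mpr Nat.card_pos.ne'
  have hnorm : ∀ x ∈ Subgroup.center K, θ x * conj (θ x) = (q : ℂ) * q := by
    intro x hx
    have h := IsIrrCharacter.sum_mul_conjugate hθ x⁻¹ x
    rw [Finset.sum_congr rfl fun y _ => show θ (x⁻¹ * (y * x * y⁻¹)) = (q : ℂ) by
        rw [Subgroup.mem_center_iff.mp hx y, mul_inv_cancel_right, inv_mul_cancel, hd],
      Finset.sum_const, Finset.card_univ, nsmul_eq_mul, ← Nat.card_eq_fintype_card,
      IsIrrCharacter.apply_inv hθ, hd, eq_div_iff hq0] at h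
    refine mul_left_cancel₀ hC ?_
    linear_combination -h
  have hsum : ∑ x, θ x * conj (θ x) = (Nat.card K : ℂ) := by
    have h1 := classInner_irr_self hθ
    rw [Cfsg.classInner] at h1
    field_simp at h1
    exact h1
  have hre : ∑ x, Complex.normSq (θ x) = (Nat.card K : ℝ) := by
    have := congrArg Complex.re hsum
    simpa [Complex.mul_conj] using this
  have hin : ∑ x ∈ Finset.univ.filter (fun x => x ∈ Subgroup.center K), Complex.normSq (θ x) =
      (Nat.card K : ℝ) := by
    rw [Finset.sum_congr rfl fun x hx => show Complex.normSq (θ x) = (q : ℝ) * q by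
        have := congrArg Complex.re (hnorm x (Finset.mem_filter.mp hx).2)
        simpa [Complex.mul_conj] using this,
      Finset.sum_const, nsmul_eq_mul, ← Fintype.card_subtype, ← Nat.card_eq_fintype_card, hcard,
      show Nat.card {x : K // x ∈ Subgroup.center K} = q from hcz]
    push_cast; ring
  have hvan : ∀ x, x ∉ Subgroup.center K → θ x = 0 := by
    intro x hx
    rw [← Finset.sum_filter_add_sum_filter_not Finset.univ (fun x => x ∈ Subgroup.center K),
      hin, add_eq_left, Finset.sum_eq_zero_iff_of_nonneg fun y _ => Complex.normSq_nonneg _] at hre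
    exact Complex.normSq_eq_zero.mp (hre x (Finset.mem_filter.mpr ⟨Finset.mem_univ _, hx⟩))
  refine ⟨hvan, fun x => ?_⟩
  by_cases hx : x ∈ Subgroup.center K
  · have h := IsIrrCharacter.apply_inv hθ x
    rw [inv_eq_of_mul_eq_one_right ((hZ x).mp hx)] at h
    have := congrArg Complex.im h
    rw [Complex.conj_im] at this
    linarith
  · rw [hvan x hx, Complex.zero_im]

/-- A character of degree `q` has indicator `-1`. -/
theorem indicator_neg_one (hm : 1 ≤ m) (hcard : Nat.card K = (2 ^ m) ^ 3)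
    (hcz : Nat.card (Subgroup.center K) = 2 ^ m)
    (hZ : ∀ x : K, x ∈ Subgroup.center K ↔ x * x = 1)
    (hsq : ∀ x : K, x * x ∈ Subgroup.center K) {H : Type*} [Fintype H]
    (hH : Fintype.card H + 1 = 2 ^ m) (σ : H → MulAut K)
    (hσ : ∀ z ∈ Subgroup.center K, z ≠ 1 → ∀ w ∈ Subgroup.center K, w ≠ 1 → ∃! h, σ h z = w)
    {θ : K → ℂ} (hθ : Cfsg.IsIrrCharacter K θ) (hd : θ 1 = ((2 ^ m : ℕ) : ℂ)) :
    (Nat.card K : ℂ)⁻¹ * ∑ u, θ (u * u) = -1 := by
  classical
  obtain ⟨hvan, -⟩ := vanish_and_real hcard hcz hZ hθ hd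
  set q : ℕ := 2 ^ m with hq
  have hq2 : 2 ≤ q := Nat.le_self_pow (by omega) 2
  have hne : θ ≠ fun _ => 1 := fun e => by
    rw [e] at hd
    simp only at hd
    have : q = 1 := by exact_mod_cast hd.symm
    omega
  have hsum0 : ∑ x, θ x = 0 := by
    have h := classInner_irr_ne hθ (isIrrCharacter_hom (1 : K →* ℂˣ)) (by simpa using hne)
    rw [Cfsg.classInner, mul_eq_zero] at h
    simpa using h.resolve_left (inv_ne_zero (Nat.cast_ne_zero.mpr Nat.card_pos.ne'))
  set Z := (Finset.univ : Finset K).filter fun x => x ∈ Subgroup.center K with hZf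
  have hone : (1 : K) ∈ Z := Finset.mem_filter.mpr ⟨Finset.mem_univ _, one_mem _⟩
  have hZsum : ∑ w ∈ Z.erase 1, θ w = -(q : ℂ) := by
    have h : ∑ w ∈ Z, θ w = 0 := by
      rw [← hsum0]
      exact Finset.sum_subset (Finset.subset_univ _) fun x _ hx => hvan x fun h =>
        hx (Finset.mem_filter.mpr ⟨Finset.mem_univ _, h⟩)
    rw [← Finset.add_sum_erase _ _ hone, hd] at h
    linear_combination h
  have hmemZ : ∀ {x : K}, x ∈ Z.erase 1 ↔ x ≠ 1 ∧ x ∈ Subgroup.center K := fun {x} => by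
    simp [hZf]
  have horbit : ∀ u : K, ∑ h : H, θ (σ h (u * u)) =
      if u * u = 1 then (Fintype.card H : ℂ) * q else -(q : ℂ) := by
    intro u
    split_ifs with h
    · simp only [h, map_one, hd, Finset.sum_const, Finset.card_univ, nsmul_eq_mul]
    · rw [← hZsum]
      exact Finset.sum_bij (fun h' _ => σ h' (u * u))
        (fun h' _ => hmemZ.mpr ⟨fun e => h ((MulEquiv.map_eq_one_iff _).mp e),
          MulEquivClass.apply_mem_center _ (hsq u)⟩)
        (fun h₁ _ h₂ _ e => by
          obtain ⟨h₀, -, huniq⟩ := hσ _ (hsq u) h (σ h₂ (u * u))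
            (MulEquivClass.apply_mem_center _ (hsq u))
            (fun e => h ((MulEquiv.map_eq_one_iff _).mp e))
          rw [huniq h₁ e, huniq h₂ rfl])
        (fun w hw => by
          obtain ⟨h₀, hh₀, -⟩ := hσ _ (hsq u) h w (hmemZ.mp hw).2 (hmemZ.mp hw).1
          exact ⟨h₀, Finset.mem_univ _, hh₀⟩)
        (fun _ _ => rfl)
  have hinvar : ∀ h : H, ∑ u, θ (σ h (u * u)) = ∑ u, θ (u * u) := fun h =>
    Fintype.sum_equiv (σ h).toEquiv _ _ fun u => by simp [map_mul]
  have htot : (Fintype.card H : ℂ) * ∑ u, θ (u * u) =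
      ∑ u : K, if u * u = 1 then (Fintype.card H : ℂ) * q else -(q : ℂ) := by
    rw [← Finset.sum_congr rfl fun u _ => horbit u, Finset.sum_comm,
      Finset.sum_congr rfl fun h _ => hinvar h, Finset.sum_const, Finset.card_univ, nsmul_eq_mul]
  have hc1 : (Finset.univ.filter fun u : K => u * u = 1).card = q := by
    rw [← hcz, Nat.card_eq_fintype_card, Fintype.card_subtype]
    exact congrArg Finset.card (Finset.filter_congr fun x _ => (hZ x).symm)
  have hc2 : ((Finset.univ.filter fun u : K => ¬ u * u = 1).card : ℂ) = (q : ℂ) ^ 3 - q := by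
    have h := Finset.card_filter_add_card_filter_not (s := (Finset.univ : Finset K))
      (fun u => u * u = 1)
    rw [Finset.card_univ, ← Nat.card_eq_fintype_card, hcard, hc1] at h
    have h' : (q : ℂ) + (Finset.univ.filter fun u : K => ¬ u * u = 1).card = (q : ℂ) ^ 3 := by
      exact_mod_cast h
    linear_combination h'
  rw [Finset.sum_ite, Finset.sum_const, Finset.sum_const, hc1, nsmul_eq_mul, nsmul_eq_mul, hc2]
    at htot
  have hHc : (Fintype.card H : ℂ) + 1 = q := by exact_mod_cast hH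
  have hd0 : (Fintype.card H : ℂ) ≠ 0 := Nat.cast_ne_zero.mpr (by omega)
  have hT : ∑ u, θ (u * u) = -(q : ℂ) ^ 3 := by
    refine mul_left_cancel₀ hd0 ?_
    linear_combination htot + ((q : ℂ) ^ 3 + (q : ℂ) ^ 2) * hHc
  rw [hT, hcard]
  have hq0 : (q : ℂ) ≠ 0 := Nat.cast_ne_zero.mpr (by omega)
  push_cast
  field_simp

end CfsgLib.Perm.ZGroup.CubicKernel
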