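import Cfsg.Agent.Lib.Perm.ZGroup.TwoKernel
import Cfsg.Agent.Lib.Perm.ZGroup.CubicKernel
import Cfsg.Agent.Lib.DegreeTools.OddMult
import Cfsg.Agent.Lib.Char.Perm

/-!
# The kernel does not have order `q ^ 3`

Characters of degree `d q` would make the exceptional characters both orthogonal and symplectic,
so the characters not trivial on the kernel would be coherent.
-/

set_option autoImplicit false

open scoped ComplexConjugate

namespace CfsgLib.Perm.ZGroup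

open MulAction CfsgLib.Char CfsgLib.Char.Coherence

universe u v

/-- An even integer with the norm bound of the insertion step is zero. -/
theorem coeff_eq_zero {c q s' R : ℝ} (hq : 0 ≤ q) (hs' : q ≤ s') (hR : 0 ≤ R)
    (heq : (c + q) ^ 2 + c ^ 2 * s' + R = q ^ 2 + 1) (hc : 2 ≤ |c|) : False := by
  have h1 : c ^ 2 * q ≤ c ^ 2 * s' := mul_le_mul_of_nonneg_left hs' (sq_nonneg c)
  have h2 : |c| * (2 * q) ≤ c ^ 2 * q := by
    rw [← sq_abs c]; nlinarith [mul_le_mul_of_nonneg_left hc (mul_nonneg (abs_nonneg c) hq)]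
  have h3 : -(|c| * (2 * q)) ≤ 2 * c * q := by
    nlinarith [mul_le_mul_of_nonneg_right (neg_abs_le c) hq]
  have h4 : 4 ≤ c ^ 2 := by rw [← sq_abs c]; nlinarith
  nlinarith

variable {G : Type u} {Ω : Type v} [Group G] [Finite G] [MulAction G Ω] [Fintype Ω] {a b : Ω}

namespace Setup

variable {S : Setup G Ω a b}

namespace IsTwoKernel

variable (hT : S.IsTwoKernel) [IsSimpleGroup G]
include hT

open Classical in
theorem not_cube {m : ℕ} (hm : 2 ≤ m) (hq : Nat.card S.H + 1 = 2 ^ m)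
    (hn : Nat.card S.F = (2 ^ m) ^ 3) : False := by
  letI := Fintype.ofFinite G
  cases nonempty_fintype (Subgroup.normalizer (S.F : Set G))
  obtain ⟨t, -, hta, htb⟩ := S.exists_involution
  have hTI := S.isTIKernel
  set N := Subgroup.normalizer (S.F : Set G) with hNdef
  set K := S.F.subgroupOf N with hKdef
  cases nonempty_fintype K
  have hFN : S.F ≤ N := hTI.lt.le
  let e : K ≃* S.F := Subgroup.subgroupOfEquivOfLe hFN
  set q : ℕ := 2 ^ m with hqdef
  set d := Nat.card S.H with hddef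
  have hq4 : 4 ≤ q := by
    rw [hqdef, show 4 = 2 ^ 2 by norm_num]; exact Nat.pow_le_pow_right two_pos hm
  have hidx : K.index = d := S.index_F S.normalizer_F
  have hbig : 2 * d < Nat.card S.F - 1 := by
    rw [hn]
    have h1 : q ^ 1 * 4 ≤ q ^ 1 * q ^ 2 :=
      Nat.mul_le_mul_left _ (le_trans hq4 (Nat.le_self_pow two_ne_zero q))
    rw [← pow_add, pow_one] at h1
    norm_num at h1
    omega
  refine S.not_coherent hta htb (hT.swap t hta htb) hT.isCyclic_H' hT.odd_H hbig ?_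
  -- the kernel inside its normaliser
  have hcard : Nat.card K = q ^ 3 := (Nat.card_congr e.toEquiv).trans hn
  have hmemc : ∀ x : K, x ∈ Subgroup.center K ↔ e x ∈ Subgroup.center S.F := fun x => by
    rw [Subgroup.mem_center_iff, Subgroup.mem_center_iff]
    refine ⟨fun h y => ?_, fun h y => e.injective (by rw [map_mul, map_mul]; exact h (e y))⟩
    obtain ⟨y, rfl⟩ := e.surjective y
    rw [← map_mul, ← map_mul, h y]
  have hcz : Nat.card (Subgroup.center K) = q := by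
    rw [← hq, hddef, ← hT.card_center]
    exact Nat.card_congr (e.toEquiv.subtypeEquiv hmemc)
  have hZ : ∀ x : K, x ∈ Subgroup.center K ↔ x * x = 1 := fun x => by
    rw [hmemc, hT.mem_center_F, ← map_mul, MulEquiv.map_eq_one_iff]
  have hsq : ∀ x : K, x * x ∈ Subgroup.center K := fun x => by
    rw [hmemc, map_mul]; exact hT.sq_center _
  letI := Fintype.ofFinite S.H
  let σ : S.H → MulAut K := fun h => (e.trans (S.conjF h)).trans e.symm
  have hσ : ∀ z ∈ Subgroup.center K, z ≠ 1 → ∀ w ∈ Subgroup.center K, w ≠ 1 →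
      ∃! h, σ h z = w := by
    intro z hz hz1 w hw hw1
    have hne : ∀ {x : K}, x ≠ 1 → e x ≠ 1 := fun h e' => h ((MulEquiv.map_eq_one_iff e).mp e')
    obtain ⟨h, hh⟩ := hT.trans (e z) (e w) (hne hz1) (hT.mem_center_F.mp ((hmemc z).mp hz))
      (hne hw1) (hT.mem_center_F.mp ((hmemc w).mp hw))
    refine ⟨h, show e.symm (S.conjF h (e z)) = w by rw [hh, e.symm_apply_apply], fun k hk => ?_⟩
    have hk' : S.conjF k (e z) = e w := by
      rw [← hk]; exact (e.apply_symm_apply _).symm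
    refine (inv_mul_eq_one.mp (Subtype.ext ?_ : h⁻¹ * k = 1)).symm
    refine S.eq_one_of_conj_eq (h⁻¹ * k).2 (e z).2 (fun e1 => hne hz1 (Subtype.ext e1))
      (congrArg Subtype.val (show S.conjF (h⁻¹ * k) (e z) = e z from ?_))
    rw [map_mul, MulAut.mul_apply, hk', ← hh, ← MulAut.mul_apply, ← map_mul, inv_mul_cancel,
      map_one, MulAut.one_apply]
  have hind : ∀ θ : K → ℂ, Cfsg.IsIrrCharacter K θ → θ 1 = (q : ℂ) →
      (∀ x, (θ x).im = 0) ∧ (Nat.card K : ℂ)⁻¹ * ∑ u, θ (u * u) = -1 := fun θ hθ h1 =>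
    ⟨(CubicKernel.vanish_and_real hcard hcz hZ hθ h1).2,
      CubicKernel.indicator_neg_one (by omega) hcard hcz hZ hsq
        (by rw [← Nat.card_eq_fintype_card]; exact hq) σ hσ hθ h1⟩
  -- the characters not trivial on the kernel
  have hset := Sibley.set_eq (K := S.F) hTI
  obtain ⟨hiso, hiso1⟩ := isometry_indFun hTI K
  rw [hset]
  set T := indNontriv K K with hTdef
  have hTdata : ∀ ξ ∈ T, Cfsg.IsIrrCharacter N ξ ∧ ∃ θ : K → ℂ, Cfsg.IsIrrCharacter K θ ∧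
      ξ = Cfsg.indFun K θ ∧ ∃ D : ℕ, θ 1 = (D : ℂ) ∧ 0 < D ∧ (D = q ∨ 2 * D ≤ q) := by
    intro ξ hξ
    refine ⟨Feit.isIrr_indNontriv K hTI.centralizer_le ξ hξ, ?_⟩
    obtain ⟨θ, hθ, -, rfl⟩ := hξ
    exact ⟨θ, hθ, rfl, CubicKernel.degree_cases hcard hcz hθ⟩
  choose! hTirr θof hθirr hθeq D hDval hDpos hDcases using hTdata
  have hdeg : ∀ ξ ∈ T, ξ 1 = ((d * D ξ : ℕ) : ℂ) := fun ξ hξ => by
    rw [hθeq ξ hξ, indFun_one, hidx, ← hθeq ξ hξ, hDval ξ hξ, Nat.cast_mul]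
  set Sall : Finset (N → ℂ) := (Finset.image (fun χ : Cfsg.IrrCharacter N => (χ : N → ℂ))
    Finset.univ).filter fun f => f ∈ T with hSall
  have hmemS : ∀ ξ, ξ ∈ Sall ↔ ξ ∈ T := fun ξ => by
    refine ⟨fun h => (Finset.mem_filter.mp h).2, fun h => Finset.mem_filter.mpr
      ⟨Finset.mem_image.mpr ?_, h⟩⟩
    exact Exists.intro (⟨ξ, hTirr ξ h⟩ : Cfsg.IrrCharacter N) ⟨Finset.mem_univ _, rfl⟩
  have hcoeS : (↑Sall : Set (N → ℂ)) = T := Set.ext hmemS
  -- the linear characters trivial on the centre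
  let Qt := K ⧸ Subgroup.center K
  letI : CommGroup Qt :=
    { (inferInstance : Group Qt) with
      mul_comm := fun x y => by
        have h : ∀ c : Qt, c⁻¹ = c := fun c => by
          obtain ⟨u, rfl⟩ := QuotientGroup.mk_surjective c
          refine inv_eq_of_mul_eq_one_right ?_
          rw [← QuotientGroup.mk_mul, QuotientGroup.eq_one_iff]
          exact hsq u
        calc x * y = (x * y)⁻¹ := (h _).symm
          _ = y * x := by rw [_root_.mul_inv_rev, h, h] }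
  haveI : NeZero (Monoid.exponent Qt : ℂ) :=
    ⟨by exact_mod_cast Monoid.exponent_ne_zero_of_finite⟩
  have hQcard : Nat.card (Qt →* ℂˣ) = q ^ 2 := by
    rw [CommGroup.card_monoidHom_of_hasEnoughRootsOfUnity, ← CubicKernel.index_center hcard hcz]
    exact (Subgroup.index_eq_card _).symm
  haveI : Finite (Qt →* ℂˣ) := Nat.finite_of_card_ne_zero (by rw [hQcard]; positivity)
  letI := Fintype.ofFinite (Qt →* ℂˣ)
  let lam : (Qt →* ℂˣ) → K → ℂ := fun l k =>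
    ((l.comp (QuotientGroup.mk' (Subgroup.center K)) k : ℂˣ) : ℂ)
  have hlam : ∀ l, Cfsg.IsIrrCharacter K (lam l) := fun l => isIrrCharacter_hom _
  have hlam1 : ∀ l, lam l 1 = 1 := fun l => by simp [lam]
  have hlamsq : ∀ l u, lam l (u * u) = 1 := fun l u => by
    simp only [lam, MonoidHom.comp_apply]
    rw [(QuotientGroup.eq_one_iff (u * u)).mpr (hsq u) |> fun h => show
      (QuotientGroup.mk' (Subgroup.center K)) (u * u) = 1 from h, map_one, Units.val_one]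
  have hlamre : ∀ l u, (lam l u).im = 0 := fun l u => by
    have h : lam l u * lam l u = 1 := by
      rw [← hlamsq l u]; simp only [lam, ← Units.val_mul, ← map_mul]
    rcases mul_self_eq_one_iff.mp h with h | h <;> simp [h]
  set Θ : Finset (N → ℂ) := ((Finset.univ : Finset (Qt →* ℂˣ)).erase 1).image
    (fun l => Cfsg.indFun K (lam l)) with hΘ
  have hΘT : ∀ ξ ∈ Θ, ξ ∈ T := by
    intro ξ hξ
    obtain ⟨l, hl, rfl⟩ := Finset.mem_image.mp hξ
    refine ⟨lam l, hlam l, fun htr => (Finset.mem_erase.mp hl).1 ?_, rfl⟩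
    refine MonoidHom.ext fun x => ?_
    obtain ⟨u, rfl⟩ := QuotientGroup.mk_surjective x
    refine Units.ext ?_
    have := htr u u.2
    rw [hlam1] at this
    exact this
  have hΘD : ∀ ξ ∈ Θ, D ξ = 1 := by
    intro ξ hξ
    have h1 := hdeg ξ (hΘT ξ hξ)
    obtain ⟨l, hl, rfl⟩ := Finset.mem_image.mp hξ
    rw [indFun_one, hlam1, mul_one, hidx] at h1
    exact (Nat.eq_of_mul_eq_mul_left (show 0 < d from Nat.card_pos)
      (by rw [mul_one]; exact_mod_cast h1)).symm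
  have hfibre : ∀ ξ ∈ Θ, (((Finset.univ : Finset (Qt →* ℂˣ)).erase 1).filter
      fun l => Cfsg.indFun K (lam l) = ξ).card ≤ d := by
    intro ξ hξ
    obtain ⟨l₀, -, rfl⟩ := Finset.mem_image.mp hξ
    set A := ((Finset.univ : Finset (Qt →* ℂˣ)).erase 1).filter
      fun l => Cfsg.indFun K (lam l) = Cfsg.indFun K (lam l₀)
    have hA : ∀ l ∈ A, ∃ g : N, lam l = conjG (lam l₀) g := fun l hl =>
      exists_conjG_of_indFun_eq (hlam l) (hlam l₀) (Finset.mem_filter.mp hl).2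
    choose! g hg using hA
    rw [← hidx, Subgroup.index_eq_card, Nat.card_eq_fintype_card, ← Finset.card_univ]
    refine Finset.card_le_card_of_injOn (fun l => ((g l : N) : N ⧸ K))
      (fun l _ => Finset.mem_univ _) fun l hl l' hl' he => ?_
    have hk : (g l)⁻¹ * g l' ∈ K := QuotientGroup.eq.mp he
    have hll : lam l = lam l' := by
      rw [hg l hl, hg l' hl']
      funext k
      rw [conjG_apply, conjG_apply]
      have hk' : g l' * (g l)⁻¹ ∈ K := by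
        have := Subgroup.Normal.conj_mem (inferInstance : K.Normal) _ hk (g l)
        simpa [mul_assoc] using this
      have hconj : (⟨g l' * (k : N) * (g l')⁻¹, Subgroup.Normal.conj_mem inferInstance _ k.2 _⟩ : K) =
          ⟨g l' * (g l)⁻¹, hk'⟩ * ⟨g l * (k : N) * (g l)⁻¹,
            Subgroup.Normal.conj_mem inferInstance _ k.2 _⟩ * ⟨g l' * (g l)⁻¹, hk'⟩⁻¹ :=
        Subtype.ext (show _ = (g l' * (g l)⁻¹) * (g l * (k : N) * (g l)⁻¹) *
          (g l' * (g l)⁻¹)⁻¹ by group)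
      rw [hconj, IsIrrCharacter.isClassFunction (hlam l₀)]
    refine MonoidHom.ext fun x => ?_
    obtain ⟨u, rfl⟩ := QuotientGroup.mk_surjective x
    exact Units.ext (congrFun hll u)
  have hΘcard : q + 1 ≤ Θ.card := by
    by_contra hlt
    have h := Finset.card_le_mul_card_image (s := (Finset.univ : Finset (Qt →* ℂˣ)).erase 1)
      (f := fun l => Cfsg.indFun K (lam l)) d (fun ξ hξ => hfibre ξ hξ)
    rw [← hΘ, Finset.card_erase_of_mem (Finset.mem_univ _), Finset.card_univ,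
      ← Nat.card_eq_fintype_card, hQcard] at h
    have h2 : d * Θ.card ≤ d * q := Nat.mul_le_mul_left d (by omega)
    have h3 : d * q + q = q ^ 2 := by rw [← hq]; ring
    omega
  -- the characters of small degree are coherent
  have hsmall : ∀ A : Finset (N → ℂ), (∀ ξ ∈ A, ξ ∈ T ∧ 2 * D ξ ≤ q) →
      Cfsg.IsCoherent (↑(Θ ∪ A) : Set (N → ℂ)) {1}ᶜ (fun α => Cfsg.indFun N α) := by
    intro A
    induction A using Finset.induction with
    | empty =>
      intro _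
      rw [Finset.union_empty]
      have hsub : (↑Θ : Set (N → ℂ)) ⊆ T := fun ξ hξ => hΘT ξ hξ
      exact isCoherent_of_irr_degree_eq Θ (fun ξ hξ => hTirr ξ (hΘT ξ hξ))
        (fun ξ hξ η hη => by
          rw [hdeg ξ (hΘT ξ hξ), hdeg η (hΘT η hη), hΘD ξ hξ, hΘD η hη])
        (by omega) _ (isometry_mono hsub hiso) fun α hα => hiso1 α (zspanOn_mono hsub hα)
    | @insert χ A hχA ih =>
      intro hA
      have hA' : ∀ ξ ∈ A, ξ ∈ T ∧ 2 * D ξ ≤ q := fun ξ hξ => hA ξ (Finset.mem_insert_of_mem hξ)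
      by_cases hmem : χ ∈ Θ ∪ A
      · rw [Finset.union_insert, Finset.insert_eq_of_mem hmem]; exact ih hA'
      rw [Finset.union_insert, Finset.coe_insert]
      obtain ⟨hχT, hχD⟩ := hA χ (Finset.mem_insert_self _ _)
      have hsubT : ∀ ξ ∈ Θ ∪ A, ξ ∈ T := fun ξ hξ =>
        (Finset.mem_union.mp hξ).elim (hΘT ξ) fun h => (hA' ξ h).1
      have hins : insert χ (↑(Θ ∪ A) : Set (N → ℂ)) ⊆ T := by
        rintro ξ (rfl | hξ)
        · exact hχT
        · exact hsubT ξ hξ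
      obtain ⟨ψ, hψ⟩ : Θ.Nonempty := Finset.card_pos.mp (by omega)
      refine isCoherent_insert (Θ ∪ A) (fun ξ hξ => hTirr ξ (hsubT ξ hξ)) (hTirr χ hχT) hmem
        (fun ξ => d * D ξ) (fun ξ hξ => hdeg ξ (hins hξ)) _ (isometry_mono hins hiso)
        (fun α hα => hiso1 α (zspanOn_mono hins hα)) (ih hA') (Finset.mem_union_left A hψ)
        (by rw [hΘD ψ hψ, mul_one]; exact dvd_mul_right d _) ?_
      rw [hΘD ψ hψ, mul_one]
      calc 2 * d * (d * D χ) = d * d * (2 * D χ) := by ring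
        _ ≤ d * d * q := Nat.mul_le_mul_left _ hχD
        _ < d * d * (q + 1) := Nat.mul_lt_mul_of_pos_left (Nat.lt_succ_self q)
          (Nat.mul_pos Nat.card_pos Nat.card_pos)
        _ ≤ d * d * Θ.card := Nat.mul_le_mul_left _ hΘcard
        _ = ∑ ξ ∈ Θ, (d * D ξ) ^ 2 := by
          rw [Finset.sum_congr rfl fun ξ hξ => by rw [hΘD ξ hξ], Finset.sum_const, smul_eq_mul]
          ring
        _ ≤ _ := Finset.sum_le_sum_of_subset_of_nonneg Finset.subset_union_left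
          fun _ _ _ => Nat.zero_le _
  set S₀ : Finset (N → ℂ) := Sall.filter fun ξ => D ξ ≠ q with hS₀
  have hS₀T : ∀ ξ ∈ S₀, ξ ∈ T := fun ξ hξ => (hmemS ξ).mp (Finset.mem_filter.mp hξ).1
  have hΘS₀ : Θ ⊆ S₀ := fun ξ hξ =>
    Finset.mem_filter.mpr ⟨(hmemS ξ).mpr (hΘT ξ hξ), by rw [hΘD ξ hξ]; omega⟩
  obtain ⟨-, τ₁, hτ₁, hag⟩ : Cfsg.IsCoherent (↑S₀ : Set (N → ℂ)) {1}ᶜ (fun α => Cfsg.indFun N α) := by
    have h := hsmall S₀ fun ξ hξ => ⟨hS₀T ξ hξ, (hDcases ξ (hS₀T ξ hξ)).resolve_left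
      (Finset.mem_filter.mp hξ).2⟩
    rwa [Finset.union_eq_right.mpr hΘS₀] at h
  replace hag : ∀ α ∈ Cfsg.zspanOn (↑S₀ : Set (N → ℂ)) {1}ᶜ, τ₁ α = Cfsg.indFun N α := hag
  have hinner : ∀ α ∈ Cfsg.zspanOn T {1}ᶜ, ∀ β ∈ Cfsg.zspanOn T {1}ᶜ,
      Cfsg.classInner (Cfsg.indFun N α) (Cfsg.indFun N β) = Cfsg.classInner α β := hiso.2.2.1
  have hindgen : ∀ α ∈ Cfsg.zspanOn T {1}ᶜ, Cfsg.IsGeneralizedCharacter G (Cfsg.indFun N α) :=
    hiso.2.2.2
  have hgram₀ : ∀ ξ ∈ S₀, ∀ η ∈ S₀, Cfsg.classInner (τ₁ ξ) (τ₁ η) = if ξ = η then 1 else 0 :=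
    fun ξ hξ η hη => by
      rw [hτ₁.2.2.1 _ (Submodule.subset_span (Finset.mem_coe.mpr hξ)) _
        (Submodule.subset_span (Finset.mem_coe.mpr hη)),
        classInner_irr (hTirr ξ (hS₀T ξ hξ)) (hTirr η (hS₀T η hη))]
  have hgen₀ : ∀ ξ ∈ S₀, Cfsg.IsGeneralizedCharacter G (τ₁ ξ) := fun ξ hξ =>
    hτ₁.2.2.2 _ (Submodule.subset_span (Finset.mem_coe.mpr hξ))
  obtain ⟨θ₁, hθ₁, θ₂, hθ₂, h12⟩ := Finset.one_lt_card.mp (show 1 < Θ.card by omega)
  have hθ₁0 : θ₁ ∈ S₀ := hΘS₀ hθ₁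
  have hd0 : (d : ℂ) ≠ 0 := Nat.cast_ne_zero.mpr Nat.card_pos.ne'
  have hθ₁deg : θ₁ 1 = (d : ℂ) := by rw [hdeg θ₁ (hS₀T θ₁ hθ₁0), hΘD θ₁ hθ₁, mul_one]
  -- combinations of degree zero
  have honS₀ : ∀ ξ ∈ S₀, ξ - (D ξ : ℂ) • θ₁ ∈ Cfsg.zspanOn (↑S₀ : Set (N → ℂ)) {1}ᶜ := by
    intro ξ hξ
    refine mem_zspanOn_one.mpr ⟨(Submodule.span ℤ _).sub_mem (Submodule.subset_span hξ) ?_, ?_⟩
    · rw [show (D ξ : ℂ) • θ₁ = (D ξ : ℤ) • θ₁ by rw [← Int.cast_smul_eq_zsmul ℂ]; simp]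
      exact Submodule.smul_mem _ _ (Submodule.subset_span hθ₁0)
    · rw [Pi.sub_apply, Pi.smul_apply, smul_eq_mul, hdeg ξ (hS₀T ξ hξ), hθ₁deg]
      push_cast; ring
  have hlin₀ : ∀ ξ ∈ S₀, Cfsg.indFun N ξ - (D ξ : ℂ) • Cfsg.indFun N θ₁ =
      τ₁ ξ - (D ξ : ℂ) • τ₁ θ₁ := by
    intro ξ hξ
    rw [← indFun_smul, ← indFun_sub, ← hag _ (honS₀ ξ hξ)]
    have hm : ((-(D ξ : ℤ)) • θ₁) ∈ Cfsg.zspan (↑S₀ : Set (N → ℂ)) :=
      Submodule.smul_mem _ _ (Submodule.subset_span hθ₁0)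
    have e1 : ∀ (X : Type u) (f : X → ℂ), -((D ξ : ℂ) • f) = (-(D ξ : ℤ)) • f := fun X f => by
      rw [← Int.cast_smul_eq_zsmul ℂ, Int.cast_neg, neg_smul]; rfl
    rw [sub_eq_add_neg, e1 N, hτ₁.1 _ (Submodule.subset_span hξ) _ hm,
      hτ₁.2.1 _ (Submodule.subset_span hθ₁0), sub_eq_add_neg, e1 G]
  -- restriction to the kernel
  let f : K →* G := N.subtype.comp K.subtype
  have hfrob : ∀ (θ : K → ℂ) (X : G → ℂ), Cfsg.IsClassFunction G X →
      Cfsg.classInner (Cfsg.indFun N (Cfsg.indFun K θ)) X =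
        Cfsg.classInner θ (fun k => X (f k)) := by
    intro θ X hX
    rw [classInner_indFun N _ hX, classInner_indFun K θ fun x y => hX _ _]
    rfl
  obtain ⟨z₁, X₁, hz₁, hX₁⟩ := CharDeep.GenChar.exists_sign_irr (hgen₀ θ₁ hθ₁0)
    (by rw [hgram₀ θ₁ hθ₁0 θ₁ hθ₁0, if_pos rfl])
  obtain ⟨z₂, X₂, hz₂, hX₂⟩ := CharDeep.GenChar.exists_sign_irr (hgen₀ θ₂ (hΘS₀ hθ₂))
    (by rw [hgram₀ θ₂ (hΘS₀ hθ₂) θ₂ (hΘS₀ hθ₂), if_pos rfl])
  have hne12 : (X₁ : G → ℂ) ≠ X₂ := fun e' => by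
    have h := hgram₀ θ₁ hθ₁0 θ₂ (hΘS₀ hθ₂)
    rw [if_neg h12, hX₁, hX₂, e', classInner_smul_left, classInner_smul_right,
      classInner_irr_self X₂.2, map_intCast] at h
    rcases hz₁ with h' | h' <;> rcases hz₂ with h'' | h'' <;> simp [h', h''] at h
  have hα : Cfsg.indFun N θ₁ - Cfsg.indFun N θ₂ = (z₁ : ℂ) • (X₁ : G → ℂ) - (z₂ : ℂ) • (X₂ : G → ℂ) := by
    have h := hlin₀ θ₂ (hΘS₀ hθ₂)
    rw [hΘD θ₂ hθ₂, Nat.cast_one, one_smul, one_smul] at h
    rw [← hX₁, ← hX₂, ← neg_sub, h, neg_sub]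
  obtain ⟨l₁, -, hl₁⟩ := Finset.mem_image.mp hθ₁
  obtain ⟨l₂, -, hl₂⟩ := Finset.mem_image.mp hθ₂
  -- the first exceptional character is real with an orthogonal form
  have hX₁r : ∀ g, ((X₁ : G → ℂ) g).im = 0 := by
    have hre : ∀ g, conj ((Cfsg.indFun N θ₁ - Cfsg.indFun N θ₂) g) =
        (Cfsg.indFun N θ₁ - Cfsg.indFun N θ₂) g := by
      have h1 : ∀ l g, conj (Cfsg.indFun N (Cfsg.indFun K (lam l)) g) =
          Cfsg.indFun N (Cfsg.indFun K (lam l)) g := by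
        intro l g
        have hr : ∀ {L' : Type u} [Group L'] [Fintype L'] (H' : Subgroup L') (φ : H' → ℂ),
            (∀ x, conj (φ x) = φ x) → ∀ y, conj (Cfsg.indFun H' φ y) = Cfsg.indFun H' φ y := by
          intro L' _ _ H' φ hφ y
          rw [indFun_def, map_mul, map_inv₀, map_natCast, map_sum]
          congr 1
          refine Finset.sum_congr rfl fun x _ => ?_
          rw [← extendByZero_conj, funext hφ]
        exact hr N _ (hr K _ fun x => Complex.conj_eq_iff_im.mpr (hlamre l x)) g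
      intro g
      rw [Pi.sub_apply, map_sub, ← hl₁, ← hl₂, h1, h1]
    set X' : G → ℂ := fun g => conj ((X₁ : G → ℂ) g) with hX'
    have hX'irr : Cfsg.IsIrrCharacter G X' := IsIrrCharacter.conj' X₁.2
    have hkey : Cfsg.classInner (Cfsg.indFun N θ₁ - Cfsg.indFun N θ₂) X' = (z₁ : ℂ) := by
      have h1 : Cfsg.classInner (Cfsg.indFun N θ₁ - Cfsg.indFun N θ₂) (X₁ : G → ℂ) = z₁ := by
        rw [hα, classInner_sub_left, classInner_smul_left, classInner_smul_left,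
          classInner_irr_self X₁.2, classInner_irr_ne X₂.2 X₁.2 hne12.symm]
        ring
      have h2 := congrArg conj h1
      rw [map_intCast] at h2
      rw [← h2, Cfsg.classInner, Cfsg.classInner, map_mul, map_inv₀, map_natCast, map_sum]
      congr 1
      refine Finset.sum_congr rfl fun g _ => ?_
      rw [hX', map_mul, hre g]
    have heq : X' = (X₁ : G → ℂ) := by
      by_contra hne
      rw [hα, classInner_sub_left, classInner_smul_left, classInner_smul_left,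
        classInner_irr_ne X₁.2 hX'irr (Ne.symm hne), mul_zero, zero_sub] at hkey
      by_cases h2 : (X₂ : G → ℂ) = X'
      · rw [← h2, classInner_irr_self X₂.2, mul_one] at hkey
        have h0 : Cfsg.indFun N θ₁ 1 - Cfsg.indFun N θ₂ 1 = 0 := by
          rw [indFun_one, indFun_one, hθ₁deg, hdeg θ₂ (hΘT θ₂ hθ₂), hΘD θ₂ hθ₂, mul_one, sub_self]
        rw [← Pi.sub_apply, hα, Pi.sub_apply, Pi.smul_apply, Pi.smul_apply, smul_eq_mul,
          smul_eq_mul, ← hkey] at h0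
        obtain ⟨e₁, he₁, he₁'⟩ := IsIrrCharacter.apply_one_eq X₁.2
        obtain ⟨e₂, he₂, he₂'⟩ := IsIrrCharacter.apply_one_eq X₂.2
        have h3 : ((z₂ : ℂ)) * ((e₁ + e₂ : ℕ) : ℂ) = 0 := by
          push_cast; rw [← he₁', ← he₂']; linear_combination -h0
        rcases mul_eq_zero.mp h3 with h4 | h4
        · rcases hz₂ with h' | h' <;> simp [h'] at h4
        · have : e₁ + e₂ = 0 := by exact_mod_cast h4
          omega
      · rw [classInner_irr_ne X₂.2 hX'irr h2, mul_zero, neg_zero] at hkey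
        rcases hz₁ with h' | h' <;> simp [h'] at hkey
    exact fun g => Complex.conj_eq_iff_im.mp (congrFun heq g)
  have hrcf : Cfsg.IsClassFunction G (X₁ : G → ℂ) := IsIrrCharacter.isClassFunction X₁.2
  have hres : Cfsg.IsCharacter K (fun k => (X₁ : G → ℂ) (f k)) :=
    IsCharacter.restrict (IsCharacter.restrict (IsIrrCharacter.isCharacter X₁.2) N) K
  have hνX : (Nat.card G : ℂ)⁻¹ * ∑ g, (X₁ : G → ℂ) (g * g) = 1 := by
    obtain ⟨n₁, hn₁⟩ := IsCharacter.classInner_nat hres (IsIrrCharacter.isCharacter (hlam l₁))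
    obtain ⟨n₂, hn₂⟩ := IsCharacter.classInner_nat hres (IsIrrCharacter.isCharacter (hlam l₂))
    have hdiff : ((n₁ : ℤ) - n₂ : ℤ) = z₁ := by
      have h : Cfsg.classInner (Cfsg.indFun N θ₁ - Cfsg.indFun N θ₂) (X₁ : G → ℂ) = z₁ := by
        rw [hα, classInner_sub_left, classInner_smul_left, classInner_smul_left,
          classInner_irr_self X₁.2, classInner_irr_ne X₂.2 X₁.2 hne12.symm]
        ring
      rw [classInner_sub_left, ← hl₁, ← hl₂, hfrob _ _ hrcf, hfrob _ _ hrcf,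
        IsCharacter.classInner_comm (IsIrrCharacter.isCharacter (hlam l₁)) hres,
        IsCharacter.classInner_comm (IsIrrCharacter.isCharacter (hlam l₂)) hres, hn₁, hn₂] at h
      exact_mod_cast h
    obtain ⟨l, n₀, hodd, hn₀⟩ : ∃ l n₀, Odd n₀ ∧
        Cfsg.classInner (fun k => (X₁ : G → ℂ) (f k)) (lam l) = ((n₀ : ℕ) : ℂ) := by
      rcases Nat.even_or_odd n₁ with ⟨i, hi⟩ | h
      · refine ⟨l₂, n₂, Nat.odd_iff.mpr ?_, hn₂⟩
        rcases hz₁ with h' | h' <;> omega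
      · exact ⟨l₁, n₁, h, hn₁⟩
    rw [DegreeTools.OddMult.indicator_eq_of_odd f X₁.2 (hlam l) hX₁r (hlamre l) hodd hn₀,
      Finset.sum_congr rfl fun u _ => hlamsq l u, Finset.sum_const, Finset.card_univ,
      nsmul_eq_mul, mul_one, ← Nat.card_eq_fintype_card,
      inv_mul_cancel₀ (Nat.cast_ne_zero.mpr Nat.card_pos.ne')]
  -- the characters of degree `d q`
  obtain ⟨Dη, hDdef⟩ : ∃ D' : (N → ℂ) → (G → ℂ),
      ∀ η, D' η = (q : ℂ) • Cfsg.indFun N θ₁ - Cfsg.indFun N η := ⟨_, fun _ => rfl⟩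
  have hbig' : ∀ η ∈ Sall, η ∉ S₀ → η ∈ T ∧ D η = q := fun η hη h =>
    ⟨(hmemS η).mp hη, by_contra fun hne => h (Finset.mem_filter.mpr ⟨hη, hne⟩)⟩
  have honT : ∀ η ∈ Sall, η ∉ S₀ → (q : ℂ) • θ₁ - η ∈ Cfsg.zspanOn T {1}ᶜ := by
    intro η hη hη0
    obtain ⟨hηT, hηD⟩ := hbig' η hη hη0
    refine mem_zspanOn_one.mpr ⟨(Submodule.span ℤ _).sub_mem ?_ (Submodule.subset_span hηT), ?_⟩
    · rw [show (q : ℂ) • θ₁ = (q : ℤ) • θ₁ by rw [← Int.cast_smul_eq_zsmul ℂ]; simp]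
      exact Submodule.smul_mem _ _ (Submodule.subset_span (hS₀T θ₁ hθ₁0))
    · rw [Pi.sub_apply, Pi.smul_apply, smul_eq_mul, hθ₁deg, hdeg η hηT, hηD]
      push_cast; ring
  have hDη : ∀ η, Dη η = Cfsg.indFun N ((q : ℂ) • θ₁ - η) := fun η => by
    rw [hDdef, indFun_sub, indFun_smul]
  have hne₀ : ∀ η ∈ Sall, η ∉ S₀ → ∀ ξ ∈ S₀, ξ ≠ η := fun η _ h ξ hξ e' => h (e' ▸ hξ)
  have hcoef : ∀ η ∈ Sall, η ∉ S₀ → ∀ ξ ∈ S₀,
      Cfsg.classInner (Dη η) (τ₁ ξ) = if ξ = θ₁ then (q : ℂ) else 0 := by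
    intro η hη hη0
    obtain ⟨hηT, hηD⟩ := hbig' η hη hη0
    have hηirr := hTirr η hηT
    have hrel : ∀ ξ ∈ S₀, ξ ≠ θ₁ → Cfsg.classInner (Dη η) (τ₁ ξ) =
        (D ξ : ℂ) * (Cfsg.classInner (Dη η) (τ₁ θ₁) - q) := by
      intro ξ hξ hξ1
      have h := hinner _ (honT η hη hη0) _
        (zspanOn_mono (show (↑S₀ : Set (N → ℂ)) ⊆ T from fun x hx => hS₀T x hx) (honS₀ ξ hξ))
      rw [← hDη, indFun_sub, indFun_smul, hlin₀ ξ hξ] at h
      simp only [classInner_sub_left, classInner_sub_right, classInner_smul_left,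
        classInner_smul_right, map_natCast,
        classInner_irr_ne (hTirr θ₁ (hS₀T θ₁ hθ₁0)) (hTirr ξ (hS₀T ξ hξ)) (Ne.symm hξ1),
        classInner_irr_self (hTirr θ₁ (hS₀T θ₁ hθ₁0)),
        classInner_irr_ne hηirr (hTirr ξ (hS₀T ξ hξ)) (hne₀ η hη hη0 ξ hξ).symm,
        classInner_irr_ne hηirr (hTirr θ₁ (hS₀T θ₁ hθ₁0)) (hne₀ η hη hη0 θ₁ hθ₁0).symm] at h
      linear_combination h
    -- the coefficient at the first character is even
    have hgenD : Cfsg.IsGeneralizedCharacter G (Dη η) := by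
      rw [hDη]; exact hindgen _ (honT η hη hη0)
    obtain ⟨hres1, hnat⟩ : ∃ n : ℕ, Cfsg.classInner (fun k => (X₁ : G → ℂ) (f k)) (θof η) = n :=
      IsCharacter.classInner_nat hres (IsIrrCharacter.isCharacter (hθirr η hηT))
    have heven : Even hres1 := by
      rcases Nat.even_or_odd hres1 with h | h
      · exact h
      exfalso
      obtain ⟨hre, hν⟩ := hind (θof η) (hθirr η hηT) (by rw [hDval η hηT, hηD])
      have := DegreeTools.OddMult.indicator_eq_of_odd f X₁.2 (hθirr η hηT) hX₁r hre h hnat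
      rw [hνX, hν] at this
      norm_num at this
    obtain ⟨n₁, hn₁⟩ := IsCharacter.classInner_nat hres (IsIrrCharacter.isCharacter (hlam l₁))
    have hc1 : Cfsg.classInner (Dη η) (τ₁ θ₁) = (z₁ : ℂ) * ((q : ℂ) * n₁ - hres1) := by
      rw [hX₁, classInner_smul_right, map_intCast]
      congr 1
      rw [hDdef]
      rw [classInner_sub_left, classInner_smul_left, ← hl₁, hθeq η hηT, hfrob _ _ hrcf,
        hfrob _ _ hrcf, IsCharacter.classInner_comm (IsIrrCharacter.isCharacter (hlam l₁)) hres,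
        IsCharacter.classInner_comm (IsIrrCharacter.isCharacter (hθirr η hηT)) hres, hn₁, hnat]
    set c : ℤ := z₁ * ((q : ℤ) * n₁ - hres1) - q with hc
    have hcC : Cfsg.classInner (Dη η) (τ₁ θ₁) - q = (c : ℂ) := by rw [hc1, hc]; push_cast; ring
    have hceven : Even c := by
      have hqe : Even (q : ℤ) := by exact_mod_cast (Nat.even_pow.mpr ⟨even_two, by omega⟩ : Even q)
      exact (((hqe.mul_right _).sub (by exact_mod_cast heven)).mul_left _).sub hqe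
    suffices hc0 : c = 0 by
      intro ξ hξ
      split_ifs with h
      · rw [h, ← sub_eq_zero, hcC, hc0, Int.cast_zero]
      · rw [hrel ξ hξ h, hcC, hc0, Int.cast_zero, mul_zero]
    by_contra hc0
    set P : G → ℂ := ∑ ξ ∈ S₀, Cfsg.classInner (Dη η) (τ₁ ξ) • τ₁ ξ
    have hDD : Cfsg.classInner (Dη η) (Dη η) = (q : ℂ) ^ 2 + 1 := by
      rw [hDη, hinner _ (honT η hη hη0) _ (honT η hη hη0)]
      simp only [classInner_sub_left, classInner_sub_right, classInner_smul_left,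
        classInner_smul_right, map_natCast, classInner_irr_self (hTirr θ₁ (hS₀T θ₁ hθ₁0)),
        classInner_irr_self hηirr,
        classInner_irr_ne hηirr (hTirr θ₁ (hS₀T θ₁ hθ₁0)) (hne₀ η hη hη0 θ₁ hθ₁0).symm,
        classInner_irr_ne (hTirr θ₁ (hS₀T θ₁ hθ₁0)) hηirr (hne₀ η hη hη0 θ₁ hθ₁0)]
      ring
    have hreal : ∀ ξ ∈ S₀, ∃ r : ℝ, Cfsg.classInner (Dη η) (τ₁ ξ) = r ∧
        (ξ = θ₁ → r = (c : ℝ) + q) ∧ (ξ ≠ θ₁ → r = (D ξ : ℝ) * c) := by
      intro ξ hξ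
      by_cases h : ξ = θ₁
      · refine ⟨(c : ℝ) + q, ?_, fun _ => rfl, fun h' => absurd h h'⟩
        rw [h]; push_cast; linear_combination hcC
      · refine ⟨(D ξ : ℝ) * c, ?_, fun h' => absurd h' h, fun _ => rfl⟩
        rw [hrel ξ hξ h, hcC]; push_cast; ring
    choose! r hr hr1 hr2 using hreal
    have hPP : Cfsg.classInner P P = ((∑ ξ ∈ S₀, r ξ ^ 2 : ℝ) : ℂ) := by
      simp only [P, classInner_sum_left, classInner_sum_right, classInner_smul_left,
        classInner_smul_right]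
      push_cast
      refine Finset.sum_congr rfl fun ξ hξ => ?_
      rw [Finset.sum_eq_single ξ]
      · rw [hgram₀ ξ hξ ξ hξ, if_pos rfl, hr ξ hξ, Complex.conj_ofReal]; ring
      · intro η' hη' hne
        rw [hgram₀ η' hη' ξ hξ, if_neg hne]; ring
      · exact fun h => absurd hξ h
    have hDP : Cfsg.classInner (Dη η) P = ((∑ ξ ∈ S₀, r ξ ^ 2 : ℝ) : ℂ) := by
      simp only [P, classInner_sum_right, classInner_smul_right]
      push_cast
      refine Finset.sum_congr rfl fun ξ hξ => ?_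
      rw [hr ξ hξ, Complex.conj_ofReal]; ring
    have hnonneg : ∀ F : G → ℂ, 0 ≤ (Cfsg.classInner F F).re := by
      intro F
      rw [Cfsg.classInner, Finset.sum_congr rfl fun g _ => Complex.mul_conj (F g),
        ← Complex.ofReal_sum, show (Nat.card G : ℂ)⁻¹ = (((Nat.card G : ℝ)⁻¹ : ℝ) : ℂ) by push_cast; rfl,
        ← Complex.ofReal_mul, Complex.ofReal_re]
      exact mul_nonneg (by positivity) (Finset.sum_nonneg fun _ _ => Complex.normSq_nonneg _)
    have h0 := hnonneg (Dη η - P)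
    rw [classInner_sub_left, classInner_sub_right, classInner_sub_right, hPP, hDP,
      ← classInner_conj_symm (Dη η) P, hDP, hDD, Complex.conj_ofReal] at h0
    simp only [sub_self, sub_zero, Complex.sub_re, Complex.add_re, Complex.one_re,
      Complex.ofReal_re] at h0
    rw [show ((q : ℂ) ^ 2).re = (q : ℝ) ^ 2 by rw [← Nat.cast_pow, Complex.natCast_re, Nat.cast_pow],
      ← Finset.add_sum_erase _ _ hθ₁0, hr1 θ₁ hθ₁0 rfl] at h0
    rw [Finset.sum_congr rfl fun ξ hξ => show r ξ ^ 2 = (c : ℝ) ^ 2 * (D ξ : ℝ) ^ 2 by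
        rw [hr2 ξ (Finset.mem_of_mem_erase hξ) (Finset.ne_of_mem_erase hξ)]; ring,
      ← Finset.mul_sum] at h0
    have hs' : (q : ℝ) ≤ ∑ ξ ∈ S₀.erase θ₁, (D ξ : ℝ) ^ 2 := by
      calc (q : ℝ) ≤ ((Θ.erase θ₁).card : ℝ) := by
            rw [Finset.card_erase_of_mem hθ₁]; exact_mod_cast (by omega : q ≤ Θ.card - 1)
        _ = ∑ ξ ∈ Θ.erase θ₁, (D ξ : ℝ) ^ 2 := by
            rw [Finset.sum_congr rfl fun ξ hξ => by rw [hΘD ξ (Finset.mem_of_mem_erase hξ),
              Nat.cast_one, one_pow], Finset.sum_const, nsmul_eq_mul, mul_one]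
        _ ≤ _ := Finset.sum_le_sum_of_subset_of_nonneg (Finset.erase_subset_erase _ hΘS₀)
            fun _ _ _ => sq_nonneg _
    refine coeff_eq_zero (c := (c : ℝ)) (Nat.cast_nonneg q) hs'
      (R := (q : ℝ) ^ 2 + 1 - (((c : ℝ) + q) ^ 2 + (c : ℝ) ^ 2 * _)) (by linarith) (by ring) ?_
    obtain ⟨i, hi⟩ := hceven
    have : 2 ≤ |c| := by
      rcases abs_cases c with ⟨h, h'⟩ | ⟨h, h'⟩ <;> rw [h] <;> omega
    exact_mod_cast this
  -- the extension
  rw [← hcoeS]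
  let Y : (N → ℂ) → (G → ℂ) := fun ξ =>
    if ξ ∈ S₀ then τ₁ ξ else (q : ℂ) • τ₁ θ₁ - Dη ξ
  have hgramD : ∀ η ∈ Sall, η ∉ S₀ → ∀ η' ∈ Sall, η' ∉ S₀ →
      Cfsg.classInner (Dη η) (Dη η') = (q : ℂ) ^ 2 + if η = η' then 1 else 0 := by
    intro η hη hη0 η' hη' hη'0
    have h1 := hTirr θ₁ (hS₀T θ₁ hθ₁0)
    have hi := hTirr η (hbig' η hη hη0).1
    have hi' := hTirr η' (hbig' η' hη' hη'0).1
    rw [hDη, hDη, hinner _ (honT η hη hη0) _ (honT η' hη' hη'0)]
    simp only [classInner_sub_left, classInner_sub_right, classInner_smul_left,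
      classInner_smul_right, map_natCast, classInner_irr_self h1,
      classInner_irr_ne hi h1 (hne₀ η hη hη0 θ₁ hθ₁0).symm,
      classInner_irr_ne h1 hi' (hne₀ η' hη' hη'0 θ₁ hθ₁0), classInner_irr hi hi']
    ring
  have hconj : ∀ η ∈ Sall, η ∉ S₀ → ∀ ξ ∈ S₀,
      Cfsg.classInner (τ₁ ξ) (Dη η) = if ξ = θ₁ then (q : ℂ) else 0 := by
    intro η hη hη0 ξ hξ
    rw [← classInner_conj_symm, hcoef η hη hη0 ξ hξ]
    split_ifs <;> simp
  refine isCoherent_of_images Sall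
    (fun χ hχ φ hφ h => classInner_irr_ne (hTirr χ ((hmemS χ).mp hχ)) (hTirr φ ((hmemS φ).mp hφ)) h)
    (fun χ hχ h => IsIrrCharacter.apply_one_ne_zero (hTirr χ ((hmemS χ).mp hχ)) (by rw [h]; rfl))
    Y (fun ξ hξ => ?_) (fun ξ hξ η hη => ?_) ?_ _ fun a ha => ?_
  · simp only [Y]
    split_ifs with h
    · exact hgen₀ ξ h
    · obtain ⟨p₁, p₂, hp₁, hp₂, hp⟩ := hgen₀ θ₁ hθ₁0
      have hg := hindgen _ (honT ξ hξ h)
      rw [← hDη] at hg
      obtain ⟨r₁, r₂, hr₁, hr₂, hr⟩ := hg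
      refine ⟨q • p₁ + r₂, q • p₂ + r₁, IsCharacter.add (IsCharacter.nsmul hp₁ q) hr₂,
        IsCharacter.add (IsCharacter.nsmul hp₂ q) hr₁, ?_⟩
      rw [hp, hr, Nat.cast_smul_eq_nsmul, smul_sub]
      abel
  · rw [classInner_irr (hTirr ξ ((hmemS ξ).mp hξ)) (hTirr η ((hmemS η).mp hη))]
    simp only [Y]
    by_cases hξ0 : ξ ∈ S₀ <;> by_cases hη0 : η ∈ S₀ <;> simp only [if_pos, if_neg, hξ0, hη0,
      not_false_eq_true, if_true, if_false]
    · exact hgram₀ ξ hξ0 η hη0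
    · rw [classInner_sub_right, classInner_smul_right, map_natCast, hgram₀ ξ hξ0 θ₁ hθ₁0,
        hconj η hη hη0 ξ hξ0, if_neg fun (e' : ξ = η) => hη0 (e' ▸ hξ0)]
      split_ifs <;> ring
    · rw [classInner_sub_left, classInner_smul_left, hgram₀ θ₁ hθ₁0 η hη0,
        hcoef ξ hξ hξ0 η hη0, if_neg fun (e' : ξ = η) => hξ0 (e' ▸ hη0)]
      by_cases h : η = θ₁
      · subst h; simp
      · rw [if_neg (Ne.symm h), if_neg h]; ring
    · simp only [classInner_sub_left, classInner_sub_right, classInner_smul_left,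
        classInner_smul_right, map_natCast, hgram₀ θ₁ hθ₁0 θ₁ hθ₁0, hcoef ξ hξ hξ0 θ₁ hθ₁0,
        hconj η hη hη0 θ₁ hθ₁0, hgramD ξ hξ hξ0 η hη hη0, if_pos]
      split_ifs <;> ring
  · exact exists_ne_zero_of_two (Finset.mem_coe.mpr ((hmemS _).mpr (hΘT θ₁ hθ₁)))
      (Finset.mem_coe.mpr ((hmemS _).mpr (hΘT θ₂ hθ₂))) h12
      (by rw [hdeg θ₁ (hΘT θ₁ hθ₁), hdeg θ₂ (hΘT θ₂ hθ₂), hΘD θ₁ hθ₁, hΘD θ₂ hθ₂])
  · -- agreement with induction in degree zero
    have hS₀sub : S₀ ⊆ Sall := Finset.filter_subset _ _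
    rw [← Finset.sum_sdiff hS₀sub] at ha ⊢
    rw [← Finset.sum_sdiff hS₀sub (f := fun χ => (a χ : ℂ) • Y χ)]
    set A : ℤ := ∑ η ∈ Sall \ S₀, a η with hA
    set β : N → ℂ := ∑ ξ ∈ S₀, (a ξ : ℂ) • ξ + ((A * q : ℤ) : ℂ) • θ₁
    have hβmem : β ∈ Cfsg.zspan (↑S₀ : Set (N → ℂ)) := by
      refine (Submodule.span ℤ _).add_mem (Submodule.sum_mem _ fun ξ hξ => ?_) ?_
      · rw [Int.cast_smul_eq_zsmul]; exact Submodule.smul_mem _ _ (Submodule.subset_span hξ)
      · rw [Int.cast_smul_eq_zsmul]; exact Submodule.smul_mem _ _ (Submodule.subset_span hθ₁0)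
    have hsplit : ∑ η ∈ Sall \ S₀, (a η : ℂ) • η =
        ((A * q : ℤ) : ℂ) • θ₁ - ∑ η ∈ Sall \ S₀, (a η : ℂ) • ((q : ℂ) • θ₁ - η) := by
      simp only [smul_sub, Finset.sum_sub_distrib, smul_smul, ← Finset.sum_smul, ← Finset.sum_mul]
      rw [hA]; push_cast; abel
    have hβ1 : β 1 = 0 := by
      rw [hsplit] at ha
      simp only [Pi.add_apply, Pi.sub_apply, Finset.sum_apply, Pi.smul_apply] at ha
      rw [Finset.sum_eq_zero (s := Sall \ S₀) fun η hη => ?_] at ha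
      · simp only [β, Pi.add_apply, Finset.sum_apply, Pi.smul_apply]
        linear_combination ha
      · obtain ⟨hη1, hη2⟩ := Finset.mem_sdiff.mp hη
        have h := (mem_zspanOn_one.mp (honT η hη1 hη2)).2
        simp only [Pi.sub_apply, Pi.smul_apply] at h
        rw [h, smul_zero]
    have hτβ : τ₁ β = ∑ ξ ∈ S₀, (a ξ : ℂ) • τ₁ ξ + ((A * q : ℤ) : ℂ) • τ₁ θ₁ := by
      let Lsp := Submodule.span ℤ (↑S₀ : Set (N → ℂ))
      let φ : Lsp →ₗ[ℤ] (G → ℂ) :=
        { toFun := fun x => τ₁ x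
          map_add' := fun x y => hτ₁.1 _ x.2 _ y.2
          map_smul' := fun n x => hτ₁.2.1 _ x.2 n }
      let b : S₀ → Lsp := fun ξ => ⟨ξ.1, Submodule.subset_span ξ.2⟩
      have hβ' : (⟨β, hβmem⟩ : Lsp) = ∑ ξ : S₀, a ξ.1 • b ξ + (A * q) • b ⟨θ₁, hθ₁0⟩ := by
        refine Subtype.ext ?_
        simp only [Submodule.coe_add, Submodule.coe_sum, Submodule.coe_smul, b, β]
        rw [Finset.sum_coe_sort S₀ fun ξ => a ξ • ξ]
        simp only [Int.cast_smul_eq_zsmul]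
      have h := congrArg φ hβ'
      rw [map_add, map_sum, map_smul, Finset.sum_congr rfl fun ξ _ => map_smul φ (a ξ.1) (b ξ)] at h
      rw [show τ₁ β = φ ⟨β, hβmem⟩ from rfl, h]
      simp only [Int.cast_smul_eq_zsmul]
      show ∑ ξ : S₀, a ξ.1 • τ₁ ξ.1 + (A * q) • τ₁ θ₁ = _
      rw [Finset.sum_coe_sort S₀ fun ξ => a ξ • τ₁ ξ]
    have hL : Cfsg.indFun N (∑ η ∈ Sall \ S₀, (a η : ℂ) • η + ∑ ξ ∈ S₀, (a ξ : ℂ) • ξ) =
        Cfsg.indFun N β - ∑ η ∈ Sall \ S₀, (a η : ℂ) • Dη η := by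
      rw [hsplit, show ∀ x y z : N → ℂ, x - y + z = (z + x) - y from fun x y z => by abel,
        indFun_sub, indFun_sum]
      simp only [indFun_smul, ← hDη, β]
    show Cfsg.indFun N _ = _
    rw [hL, ← hag β (mem_zspanOn_one.mpr ⟨hβmem, hβ1⟩), hτβ,
      Finset.sum_congr (s₁ := S₀) rfl fun ξ hξ => show (a ξ : ℂ) • τ₁ ξ = (a ξ : ℂ) • Y ξ by
        simp only [Y, if_pos hξ],
      Finset.sum_congr (s₁ := Sall \ S₀) (f := fun x => (a x : ℂ) • Y x) rfl fun η hη => show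
        (a η : ℂ) • Y η = ((a η : ℂ) * q) • τ₁ θ₁ - (a η : ℂ) • Dη η by
        simp only [Y, if_neg (Finset.mem_sdiff.mp hη).2, smul_sub, smul_smul]]
    rw [Finset.sum_sub_distrib, ← Finset.sum_smul, ← Finset.sum_mul, hA]
    push_cast
    abel

end IsTwoKernel

end Setup

end CfsgLib.Perm.ZGroup
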