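import Cfsg.Agent.Lib.Perm.ZGroup.Mult
import Cfsg.Agent.Lib.Char.CoherenceTIApps
import Cfsg.Agent.Lib.Char.CoherenceTI
import Cfsg.Agent.Lib.Char.Integral
import Cfsg.Agent.Lib.CharDeep.GenChar

/-!
# Feit's theorem on Zassenhaus groups

If the two-point stabiliser is cyclic of odd order `d`, inverted by the elements interchanging the
two points, and `2 d < n - 1`, then the characters of the point stabiliser that are not trivial on
the kernel are not coherent: otherwise the coherent images, together with the principal series,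
exhaust the characters, and column orthogonality leaves `n = (s-1)(2s-1)`, `d = 2s-3`, which a
fixed-point-free action on a nilpotent group forbids.  So the kernel is a non-abelian `p`-group.
-/

set_option autoImplicit false

open scoped ComplexConjugate commutatorElement

namespace CfsgLib.Perm.ZGroup

open MulAction CfsgLib.Char

/-- The numerical end of the coherent case. -/
theorem coherent_arith {n d k s : ℕ} {m : ℤ} (hd : d = 2 * k + 1) (hn : n = s * d + 1) (hk : 1 ≤ k)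
    (hs : 3 ≤ s) (heq : (k : ℤ) = m ^ 2 * s - 2 * m)
    (hdvd : (1 - (s : ℤ) * m) ∣ ((n : ℤ) + 1) * n) :
    n = (s - 1) * (2 * s - 1) ∧ d + 3 = 2 * s := by
  set U : ℤ := (s : ℤ) * m - 1 with hU
  have hdm : (d : ℤ) + 2 * m = 2 * m * U + 1 := by rw [hU, hd]; push_cast; rw [heq]; ring
  have hmn : m * ((n : ℤ) + 1) = U * (d + 2 * m) + 1 := by
    have : (n : ℤ) = s * d + 1 := by exact_mod_cast hn
    rw [this]
    have e : m * ((s : ℤ) * d + 1 + 1) = (U + 1) * d + 2 * m := by rw [hU]; ring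
    rw [e]
    have e2 : U * ((d : ℤ) + 2 * m) = U * d + 2 * m * U := by ring
    linarith
  have hcop : IsCoprime U ((n : ℤ) + 1) := ⟨-(d + 2 * m), m, by rw [hmn]; ring⟩
  have hUn : U ∣ (n : ℤ) := by
    refine hcop.dvd_of_dvd_mul_left ?_
    have : U = -(1 - (s : ℤ) * m) := by rw [hU]; ring
    rw [this, neg_dvd]
    exact hdvd
  have hU1 : U ∣ (1 - m : ℤ) := by
    have h1 : U ∣ m * ((n : ℤ) + 1) - 1 := ⟨d + 2 * m, by rw [hmn]; ring⟩
    have h2 : U ∣ m * (n : ℤ) := hUn.mul_left m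
    have := dvd_sub h2 h1
    rwa [show m * (n : ℤ) - (m * ((n : ℤ) + 1) - 1) = 1 - m by ring] at this
  have hm1 : m = 1 := by
    by_contra hne
    have hsz : (3 : ℤ) ≤ s := by exact_mod_cast hs
    rcases le_or_gt m 0 with h0 | h0
    · rcases eq_or_lt_of_le h0 with h00 | h00
      · rw [h00] at heq; push_cast at heq; omega
      · have hpos : 0 < 1 - m := by omega
        have h1 := Int.le_of_dvd hpos (Int.neg_dvd.mpr hU1)
        nlinarith
    · have hpos : 0 < m - 1 := by omega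
      have h1 := Int.le_of_dvd hpos (show U ∣ m - 1 from by
        rw [show m - 1 = -(1 - m) by ring]; exact dvd_neg.mpr hU1)
      nlinarith
  subst hm1
  have hk' : k + 2 = s := by
    have : (k : ℤ) + 2 = s := by rw [heq]; ring
    exact_mod_cast this
  refine ⟨?_, by omega⟩
  obtain ⟨j, rfl⟩ : ∃ j, s = j + 3 := ⟨s - 3, by omega⟩
  have : d = 2 * j + 3 := by omega
  rw [hn, this, show j + 3 - 1 = j + 2 by omega, show 2 * (j + 3) - 1 = 2 * j + 5 by omega]
  ring

universe u v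

variable {G : Type u} {Ω : Type v} [Group G] [Finite G] [MulAction G Ω] [Fintype Ω] {a b : Ω}

namespace Setup

variable (S : Setup G Ω a b)
include S

/-- The normaliser of the kernel is the point stabiliser. -/
theorem normalizer_F : Subgroup.normalizer (S.F : Set G) = stabilizer G a := by
  refine le_antisymm (fun g hg => ?_) ?_
  · obtain ⟨u, hu, hu1⟩ := S.F.ne_bot_iff_exists_ne_one.mp S.F_ne_bot |> fun ⟨u, hu⟩ =>
      (⟨(u : G), u.2, fun e => hu (Subtype.ext e)⟩ : ∃ u : G, u ∈ S.F ∧ u ≠ 1)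
    exact S.smul_a_of_conj hu hu1 ((Subgroup.mem_normalizer_iff.mp hg u).mp hu)
  · rw [Subgroup.le_normalizer_iff]
    exact fun g hg x hx => S.F_conj hg hx

/-- The kernel contains the centralisers of its nontrivial elements. -/
theorem centralizer_F_le {u : G} (hu : u ∈ S.F) (hu1 : u ≠ 1) :
    Subgroup.centralizer ({u} : Set G) ≤ S.F := by
  intro g hg
  rw [Subgroup.mem_centralizer_singleton_iff] at hg
  have he : g * u * g⁻¹ = u := by rw [hg, mul_inv_cancel_right]
  have hga : g • a = a := S.smul_a_of_conj hu hu1 (by rw [he]; exact hu)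
  obtain ⟨u', hu', h, hh, rfl⟩ := S.exists_mul hga
  by_contra hgF
  have hh1 : h ≠ 1 := fun e => hgF (by rw [e, mul_one]; exact hu')
  let D : S.F → S.F := fun v => ⟨(v : G) * (h * (v : G)⁻¹ * h⁻¹),
    mul_mem v.2 (S.F_conj hh.1 (inv_mem v.2))⟩
  have hD : Function.Injective D := by
    intro v w e
    have e' : (v : G) * (h * (v : G)⁻¹ * h⁻¹) = (w : G) * (h * (w : G)⁻¹ * h⁻¹) :=
      congrArg Subtype.val e
    by_contra hne
    refine hh1 (S.eq_one_of_conj_eq hh (u := (w : G)⁻¹ * v) (mul_mem (inv_mem w.2) v.2)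
      (fun e1 => hne (Subtype.ext (inv_mul_eq_one.mp e1).symm)) ?_)
    have e2 : (w : G)⁻¹ * v * h * (v : G)⁻¹ = h * (w : G)⁻¹ := by
      have := congrArg (fun z => (w : G)⁻¹ * z * h) e'
      simpa [mul_assoc] using this
    rw [show h * ((w : G)⁻¹ * v) * h⁻¹ = h * (w : G)⁻¹ * v * h⁻¹ by group, ← e2]
    group
  obtain ⟨v, hv⟩ := (Finite.injective_iff_surjective.mp hD) ⟨u', hu'⟩
  have hv' : (v : G) * (h * (v : G)⁻¹ * h⁻¹) = u' := congrArg Subtype.val hv
  have hfix : (u' * h) • ((v : G) • b) = (v : G) • b := by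
    rw [← hv', ← mul_smul, show (v : G) * (h * (v : G)⁻¹ * h⁻¹) * h * v = v * h by group,
      mul_smul, hh.2]
  set y := (v : G) • b with hy
  have hya : y ≠ a := S.F_smul_ne v v.2 S.hab.symm
  have hfix' : (u' * h) • (u • y) = u • y := by
    rw [← mul_smul, hg, mul_smul, hfix]
  refine hgF ?_
  rw [S.free (x := a) (y := y) (z := u • y) hya.symm (S.F_smul_ne u hu hya).symm
    (fun e => hu1 (S.F_free hu hya e.symm)) hga hfix hfix']
  exact one_mem _

/-- The kernel is a trivial intersection Frobenius kernel. -/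
theorem isTIKernel : TIKernel.IsTIKernel S.F := by
  refine ⟨fun g hg k hk hgk => ?_, ?_, fun k hk hk1 => S.centralizer_F_le hk hk1⟩
  · by_contra hk1
    exact hg (S.normalizer_F.ge (S.smul_a_of_conj hk hk1 hgk))
  · rw [S.normalizer_F]
    refine lt_of_le_of_ne S.hle fun e => ?_
    obtain ⟨h, hh, hh1⟩ : ∃ h ∈ S.H, h ≠ 1 := by
      by_contra hne
      push Not at hne
      have := S.one_lt_H
      rw [(Subgroup.eq_bot_iff_forall _).mpr hne, Subgroup.card_bot] at this
      omega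
    exact hh1 (S.eq_one_of_mem_inf (e.ge hh.1) hh)

theorem proj_eq_one_iff (m : stabilizer G a) : S.proj m = 1 ↔ (m : G) ∈ S.F := by
  refine ⟨fun h => ?_, fun h => S.proj_F h⟩
  obtain ⟨g, hg⟩ := m
  obtain ⟨u, hu, k, hk, rfl⟩ := S.exists_mul hg
  rw [S.proj_mul hu hk hg] at h
  have hk1 : k = 1 := congrArg Subtype.val h
  show u * k ∈ S.F
  rw [hk1, mul_one]; exact hu

/-- The linear characters of the stabiliser, read on an equal subgroup. -/
noncomputable def liftN {N : Subgroup G} (hN : N = stabilizer G a) (l : S.H →* ℂˣ) : N →* ℂˣ :=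
  (S.lift l).comp (Subgroup.inclusion hN.le)

theorem liftN_apply_F {N : Subgroup G} (hN : N = stabilizer G a) (l : S.H →* ℂˣ) (k : N)
    (hk : (k : G) ∈ S.F) : S.liftN hN l k = 1 := by
  show l (S.proj (Subgroup.inclusion hN.le k)) = 1
  rw [(S.proj_eq_one_iff _).mpr hk, map_one]

/-- Summing the linear characters cuts out the kernel. -/
theorem sum_liftN [Fintype S.F] [Fintype (S.H →* ℂˣ)] (hcyc : IsCyclic S.H) {N : Subgroup G} [Fintype N]
    (hN : N = stabilizer G a) (f : N → ℂ) :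
    ∑ l : S.H →* ℂˣ, ∑ m : N, (S.liftN hN l m : ℂ) * f m =
      (Nat.card S.H : ℂ) * ∑ u : S.F, f ⟨u, hN.ge (S.hle u.2)⟩ := by
  classical
  haveI := hcyc
  letI : CommGroup S.H := IsCyclic.commGroup
  rw [Finset.sum_comm]
  simp only [← Finset.sum_mul]
  have hone : ∀ m : N, ∑ l : S.H →* ℂˣ, (S.liftN hN l m : ℂ) =
      if (m : G) ∈ S.F then (Nat.card S.H : ℂ) else 0 := by
    intro m
    exact (sum_hom_apply (A := S.H) (S.proj (Subgroup.inclusion hN.le m))).trans
      (if_congr (S.proj_eq_one_iff _) rfl rfl)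
  simp only [hone, ite_mul, zero_mul]
  rw [← Finset.sum_filter, Finset.mul_sum]
  refine Finset.sum_bij' (fun m hm => (⟨(m : G), (Finset.mem_filter.mp hm).2⟩ : S.F))
    (fun (u : S.F) _ => (⟨(u : G), hN.ge (S.hle u.2)⟩ : N)) (fun _ _ => Finset.mem_univ _)
    (fun u _ => Finset.mem_filter.mpr ⟨Finset.mem_univ _, u.2⟩) (fun _ _ => rfl) (fun _ _ => rfl)
    (fun _ _ => rfl)

theorem card_dual (hcyc : IsCyclic S.H) [Fintype (S.H →* ℂˣ)] :
    Fintype.card (S.H →* ℂˣ) = Nat.card S.H := by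
  haveI := hcyc
  letI : CommGroup S.H := IsCyclic.commGroup
  haveI : NeZero (Monoid.exponent S.H : ℂ) :=
    ⟨by exact_mod_cast Monoid.exponent_ne_zero_of_finite⟩
  rw [← Nat.card_eq_fintype_card]
  exact CommGroup.card_monoidHom_of_hasEnoughRootsOfUnity _ _

theorem index_F {N : Subgroup G} (hN : N = stabilizer G a) :
    (S.F.subgroupOf N).index = Nat.card S.H := by
  subst hN
  have h1 := (S.F.subgroupOf (stabilizer G a)).card_mul_index
  rw [Nat.card_congr (Subgroup.subgroupOfEquivOfLe S.hle).toEquiv, S.card_stab] at h1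
  exact Nat.eq_of_mul_eq_mul_left Nat.card_pos h1

variable [Fintype G]

/-- A class function orthogonal to all induced linear characters has sum zero on the kernel. -/
theorem sum_F_eq_zero [Fintype S.F] (hcyc : IsCyclic S.H) {f : G → ℂ}
    (hf : Cfsg.IsClassFunction G f) (h : ∀ l, Cfsg.classInner (S.ind l) f = 0) :
    ∑ u : S.F, f u = 0 := by
  classical
  cases nonempty_fintype (stabilizer G a)
  haveI := hcyc
  letI : CommGroup S.H := IsCyclic.commGroup
  haveI : NeZero (Monoid.exponent S.H : ℂ) :=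
    ⟨by exact_mod_cast Monoid.exponent_ne_zero_of_finite⟩
  haveI : Finite (S.H →* ℂˣ) := Nat.finite_of_card_ne_zero (by
    rw [CommGroup.card_monoidHom_of_hasEnoughRootsOfUnity]; exact Nat.card_pos.ne')
  letI := Fintype.ofFinite (S.H →* ℂˣ)
  have h1 := S.sum_liftN hcyc rfl (fun m : stabilizer G a => conj (f m))
  rw [Finset.sum_eq_zero fun l _ => ?_] at h1
  · have h2 : ∑ u : S.F, conj (f u) = 0 :=
      (mul_eq_zero.mp h1.symm).resolve_left (Nat.cast_ne_zero.mpr Nat.card_pos.ne')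
    rw [← map_sum] at h2
    exact (map_eq_zero (starRingEnd ℂ)).mp h2
  · have h2 := h l
    rw [ind, classInner_indFun _ _ hf, Cfsg.classInner] at h2
    exact (mul_eq_zero.mp h2).resolve_left (inv_ne_zero (Nat.cast_ne_zero.mpr Nat.card_pos.ne'))

/-- An irreducible character of the stabiliser is one of the linear ones, or it sums to zero on
the kernel. -/
theorem irr_cases [Fintype S.F] [Fintype (S.H →* ℂˣ)] (hcyc : IsCyclic S.H) {N : Subgroup G} [Fintype N]
    (hN : N = stabilizer G a) {χ : N → ℂ} (hχ : Cfsg.IsIrrCharacter N χ) :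
    ((∀ k : N, (k : G) ∈ S.F → χ k = χ 1) ∧ ∃ l, χ = fun m => (S.liftN hN l m : ℂ)) ∨
      ((∃ k : N, (k : G) ∈ S.F ∧ χ k ≠ χ 1) ∧ ∑ u : S.F, χ ⟨u, hN.ge (S.hle u.2)⟩ = 0) := by
  classical
  by_cases hl : ∃ l, χ = fun m => (S.liftN hN l m : ℂ)
  · obtain ⟨l, rfl⟩ := hl
    exact Or.inl ⟨fun k hk => by simp [S.liftN_apply_F hN l k hk], l, rfl⟩
  · push Not at hl
    have h1 := S.sum_liftN hcyc hN (fun m => conj (χ m))
    rw [Finset.sum_eq_zero fun l _ => ?_] at h1
    swap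
    · have h2 := classInner_irr_ne (isIrrCharacter_hom (S.liftN hN l)) hχ (hl l).symm
      rw [Cfsg.classInner] at h2
      exact (mul_eq_zero.mp h2).resolve_left (inv_ne_zero (Nat.cast_ne_zero.mpr Nat.card_pos.ne'))
    have h2 : ∑ u : S.F, conj (χ ⟨u, hN.ge (S.hle u.2)⟩) = 0 :=
      (mul_eq_zero.mp h1.symm).resolve_left (Nat.cast_ne_zero.mpr Nat.card_pos.ne')
    rw [← map_sum] at h2
    have h3 := (map_eq_zero (starRingEnd ℂ)).mp h2
    refine Or.inr ⟨?_, h3⟩
    by_contra hc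
    push Not at hc
    rw [Finset.sum_congr rfl fun (u : S.F) _ => hc ⟨(u : G), hN.ge (S.hle u.2)⟩ u.2, Finset.sum_const,
      Finset.card_univ, nsmul_eq_mul] at h3
    exact mul_ne_zero (Nat.cast_ne_zero.mpr Fintype.card_ne_zero)
      (IsIrrCharacter.apply_one_ne_zero hχ) h3

variable {t : G} (hta : t • a = b) (htb : t • b = a) (hinv : ∀ h ∈ S.H, t * h * t⁻¹ = h⁻¹)

include hta htb hinv in
/-- The principal series by its values. -/
theorem exists_series (hcyc : IsCyclic S.H) {k : ℕ} (hk : Nat.card S.H = 2 * k + 1) :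
    ∃ (φ₀ φ₁ : Cfsg.IrrCharacter G) (T : Finset (Cfsg.IrrCharacter G)), T.card = k ∧ φ₀ ≠ φ₁ ∧
      φ₀ ∉ T ∧ φ₁ ∉ T ∧
      (∀ g, (φ₀ : G → ℂ) g = 1) ∧
      ((φ₁ : G → ℂ) 1 = Nat.card S.F ∧ ∀ u ∈ S.F, u ≠ 1 → (φ₁ : G → ℂ) u = 0) ∧
      (∀ x ∈ T, (x : G → ℂ) 1 = (Nat.card S.F : ℂ) + 1 ∧ ∀ u ∈ S.F, u ≠ 1 → (x : G → ℂ) u = 1) ∧
      ∀ x : Cfsg.IrrCharacter G, x ≠ φ₀ → x ≠ φ₁ → x ∉ T →
        ∀ l, Cfsg.classInner (S.ind l) (x : G → ℂ) = 0 := by
  classical
  haveI := hcyc
  letI : CommGroup S.H := IsCyclic.commGroup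
  haveI : NeZero (Monoid.exponent S.H : ℂ) :=
    ⟨by exact_mod_cast Monoid.exponent_ne_zero_of_finite⟩
  haveI : Finite (S.H →* ℂˣ) := Nat.finite_of_card_ne_zero (by
    rw [CommGroup.card_monoidHom_of_hasEnoughRootsOfUnity]; exact Nat.card_pos.ne')
  letI := Fintype.ofFinite (S.H →* ℂˣ)
  have hinner := fun l l' => S.ind_inner hta htb hinv l l'
  have hnoinv : ∀ l : S.H →* ℂˣ, l * l = 1 → l = 1 := by
    intro l hl
    refine MonoidHom.ext fun x => ?_
    have h1 : l x ^ 2 = 1 := by rw [pow_two]; exact DFunLike.congr_fun hl x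
    have h2 : l x ^ (2 * k + 1) = 1 := by rw [← map_pow, ← hk, pow_card_eq_one', map_one]
    rw [pow_succ, pow_mul, h1, one_pow, one_mul] at h2
    exact h2
  have hnorm : ∀ l : S.H →* ℂˣ, l ≠ 1 → Cfsg.classInner (S.ind l) (S.ind l) = 1 := fun l hl => by
    rw [hinner, if_pos rfl, if_neg (fun h => hl (hnoinv l h)), add_zero]
  have hirr : ∀ l : {l : S.H →* ℂˣ // l ≠ 1}, Cfsg.IsIrrCharacter G (S.ind l.1) := fun l =>
    IsCharacter.isIrrCharacter_of_norm_one (S.ind_isCharacter _) (hnorm l.1 l.2)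
  let W : {l : S.H →* ℂˣ // l ≠ 1} → Cfsg.IrrCharacter G := fun l => ⟨S.ind l.1, hirr l⟩
  have hWeq : ∀ l l', W l = W l' ↔ l = l' ∨ l.1 * l'.1 = 1 := by
    intro l l'
    constructor
    · intro h
      by_contra hne
      rw [not_or] at hne
      have e : S.ind l.1 = S.ind l'.1 := congrArg Subtype.val h
      have h1 := hinner l.1 l'.1
      rw [if_neg (fun h => hne.1 (Subtype.ext h)), if_neg hne.2, add_zero, ← e, hnorm l.1 l.2] at h1
      exact one_ne_zero h1
    · rintro (rfl | h)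
      · rfl
      · by_contra hne
        have h1 := hinner l.1 l'.1
        rw [if_pos h, classInner_irr_ne (hirr l) (hirr l') (fun e => hne (Subtype.ext e))] at h1
        split_ifs at h1 <;> norm_num at h1
  have hmi : ∀ x y : S.H →* ℂˣ, x * y = 1 ↔ x = y⁻¹ := fun x y =>
    ⟨fun h => MonoidHom.ext fun g => mul_eq_one_iff_eq_inv.mp (DFunLike.congr_fun h g),
      fun h => by subst h; exact MonoidHom.ext fun g => inv_mul_cancel (y g)⟩
  set T := Finset.univ.image W
  have hT : T.card = k := by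
    have hfib : ∀ x ∈ T, ((Finset.univ : Finset {l : S.H →* ℂˣ // l ≠ 1}).filter fun l => W l = x).card = 2 := by
      intro x hx
      obtain ⟨l, -, rfl⟩ := Finset.mem_image.mp hx
      have hinv1 : l.1⁻¹ ≠ 1 := fun e =>
        l.2 (MonoidHom.ext fun g => inv_eq_one.mp (DFunLike.congr_fun e g))
      have : ((Finset.univ : Finset {l : S.H →* ℂˣ // l ≠ 1}).filter fun j => W j = W l) =
          {l, ⟨l.1⁻¹, hinv1⟩} := by
        ext j
        simp only [Finset.mem_filter, Finset.mem_univ, true_and, hWeq, Finset.mem_insert,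
          Finset.mem_singleton, Subtype.ext_iff (a1 := j) (a2 := ⟨l.1⁻¹, hinv1⟩)]
        exact or_congr Iff.rfl (hmi _ _)
      rw [this, Finset.card_pair]
      intro e
      exact l.2 (hnoinv _ ((hmi _ _).mpr (congrArg Subtype.val e)))
    have h := Finset.card_eq_sum_card_image W Finset.univ
    rw [Finset.sum_congr rfl hfib, Finset.sum_const, smul_eq_mul, Finset.card_univ,
      Fintype.card_subtype_compl, Fintype.card_subtype_eq, S.card_dual hcyc, hk] at h
    change 2 * k + 1 - 1 = T.card * 2 at h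
    omega
  set φ₀ : Cfsg.IrrCharacter G := ⟨fun _ => 1, isIrrCharacter_one⟩ with hφ₀
  cases nonempty_fintype (stabilizer G a)
  have hπ1 : Cfsg.classInner (S.ind 1) (φ₀ : G → ℂ) = 1 := by
    rw [ind, classInner_indFun _ _ (IsIrrCharacter.isClassFunction φ₀.2), Cfsg.classInner,
      Finset.sum_congr rfl fun x _ => show
        ((S.lift 1 x : ℂˣ) : ℂ) * conj ((φ₀ : G → ℂ) x) = 1 by simp [lift, hφ₀],
      Finset.sum_const, Finset.card_univ, nsmul_eq_mul, mul_one, ← Nat.card_eq_fintype_card]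
    exact inv_mul_cancel₀ (Nat.cast_ne_zero.mpr Nat.card_pos.ne')
  have hπ2 : Cfsg.classInner (S.ind 1) (S.ind 1) = 2 := by
    rw [hinner, if_pos rfl, if_pos (mul_one (1 : S.H →* ℂˣ))]; norm_num
  set st : G → ℂ := S.ind 1 - (φ₀ : G → ℂ) with hst
  have hgen : Cfsg.IsGeneralizedCharacter G st :=
    ⟨_, _, S.ind_isCharacter 1, IsIrrCharacter.isCharacter φ₀.2, rfl⟩
  have hstn : Cfsg.classInner st st = 1 := by
    rw [hst, classInner_sub_left, classInner_sub_right, classInner_sub_right, hπ2, hπ1,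
      classInner_irr_self φ₀.2, ← classInner_conj_symm (S.ind 1) (φ₀ : G → ℂ), hπ1, map_one]
    norm_num
  obtain ⟨z, φ₁, hz, hφ₁⟩ := CharDeep.GenChar.exists_sign_irr hgen hstn
  obtain ⟨e₁, he₁, -⟩ := IsIrrCharacter.apply_one_dvd_card φ₁.2
  have hz1 : z = 1 := by
    refine hz.resolve_right fun h => ?_
    have h1 := congrFun hφ₁ 1
    rw [hst, Pi.sub_apply, S.ind_one, Pi.smul_apply, he₁, smul_eq_mul, h] at h1
    simp [hφ₀] at h1
    have : ((Nat.card S.F + e₁ : ℕ) : ℂ) = ((0 : ℕ) : ℂ) := by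
      push_cast at h1 ⊢; simp only [Nat.card_eq_fintype_card] at h1 ⊢; linear_combination h1
    have := Nat.cast_injective this
    have := S.two_le_F
    omega
  rw [hz1, Int.cast_one, one_smul] at hφ₁
  have hφ₁1 : (φ₁ : G → ℂ) 1 = Nat.card S.F := by
    rw [← hφ₁, hst, Pi.sub_apply, S.ind_one, hφ₀]; simp
  have hφ₁u : ∀ u ∈ S.F, u ≠ 1 → (φ₁ : G → ℂ) u = 0 := fun u hu hu1 => by
    rw [← hφ₁, hst, Pi.sub_apply, S.ind_F 1 hu hu1, hφ₀]; simp
  have hTval : ∀ x ∈ T, (x : G → ℂ) 1 = (Nat.card S.F : ℂ) + 1 ∧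
      ∀ u ∈ S.F, u ≠ 1 → (x : G → ℂ) u = 1 := by
    intro x hx
    obtain ⟨l, -, rfl⟩ := Finset.mem_image.mp hx
    exact ⟨S.ind_one l.1, fun u hu hu1 => S.ind_F l.1 hu hu1⟩
  have hF2 := S.two_le_F
  refine ⟨φ₀, φ₁, T, hT, fun e => ?_, fun hx => ?_, fun hx => ?_, fun g => rfl, ⟨hφ₁1, hφ₁u⟩,
    hTval, fun x h0 h1 h2 l => ?_⟩
  · rw [← e] at hφ₁1
    have : ((1 : ℕ) : ℂ) = Nat.card S.F := by rw [← hφ₁1, Nat.cast_one]
    have := Nat.cast_injective this
    omega
  · have : ((1 : ℕ) : ℂ) = (Nat.card S.F + 1 : ℕ) := by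
      push_cast; rw [← (hTval _ hx).1]
    have := Nat.cast_injective this
    omega
  · have : ((Nat.card S.F : ℕ) : ℂ) = (Nat.card S.F + 1 : ℕ) := by
      push_cast; rw [← (hTval _ hx).1, hφ₁1]
    have := Nat.cast_injective this
    omega
  · by_cases hl : l = 1
    · subst hl
      rw [show S.ind 1 = (φ₁ : G → ℂ) + (φ₀ : G → ℂ) by rw [← hφ₁, hst, sub_add_cancel],
        classInner_add_left, classInner_irr_ne φ₁.2 x.2 fun e => h1 (Subtype.ext e.symm),
        classInner_irr_ne φ₀.2 x.2 fun e => h0 (Subtype.ext e.symm), add_zero]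
    · exact classInner_irr_ne (hirr ⟨l, hl⟩) x.2 fun e => h2
        (Finset.mem_image.mpr ⟨⟨l, hl⟩, Finset.mem_univ _, Subtype.ext e⟩)

include hta htb hinv in
/-- The coherent case forces the exceptional numerology. -/
theorem numeric_of_coherent [Fintype (Subgroup.normalizer (S.F : Set G))] (hcyc : IsCyclic S.H)
    (hodd : Odd (Nat.card S.H)) (hbig : 2 * Nat.card S.H < Nat.card S.F - 1)
    (hcoh : Cfsg.IsCoherent {χ : (Subgroup.normalizer (S.F : Set G)) → ℂ |
      Cfsg.IsIrrCharacter (Subgroup.normalizer (S.F : Set G)) χ ∧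
        ∃ k : Subgroup.normalizer (S.F : Set G), (k : G) ∈ S.F ∧ χ k ≠ χ 1} {1}ᶜ
      (fun α => Cfsg.indFun (Subgroup.normalizer (S.F : Set G)) α)) :
    ∃ s : ℕ, Nat.card S.F = (s - 1) * (2 * s - 1) ∧ Nat.card S.H + 3 = 2 * s ∧ 3 ≤ s := by
  classical
  obtain ⟨k, hk⟩ := hodd
  have hd1 := S.one_lt_H
  cases nonempty_fintype S.F
  haveI := hcyc
  letI : CommGroup S.H := IsCyclic.commGroup
  haveI : NeZero (Monoid.exponent S.H : ℂ) :=
    ⟨by exact_mod_cast Monoid.exponent_ne_zero_of_finite⟩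
  haveI : Finite (S.H →* ℂˣ) := Nat.finite_of_card_ne_zero (by
    rw [CommGroup.card_monoidHom_of_hasEnoughRootsOfUnity]; exact Nat.card_pos.ne')
  letI := Fintype.ofFinite (S.H →* ℂˣ)
  have hN : (Subgroup.normalizer (S.F : Set G)) = stabilizer G a := S.normalizer_F
  set n := Nat.card S.F with hn
  set d := Nat.card S.H with hd
  obtain ⟨s, hs⟩ : ∃ s, n - 1 = d * s := S.card_H_dvd
  have hns : n = s * d + 1 := by have := S.two_le_F; rw [mul_comm]; omega
  have hs3 : 3 ≤ s := by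
    by_contra hlt
    have : d * s ≤ d * 2 := Nat.mul_le_mul_left d (by omega)
    omega
  have hnC : (n : ℂ) = (s : ℂ) * d + 1 := by exact_mod_cast hns
  have hdC : (d : ℂ) ≠ 0 := Nat.cast_ne_zero.mpr (by omega)
  have hTI := S.isTIKernel
  set K := S.F.subgroupOf (Subgroup.normalizer (S.F : Set G)) with hK
  have hidx : K.index = d := S.index_F hN
  have hcardN : Nat.card (Subgroup.normalizer (S.F : Set G)) = n * d := by rw [hN]; exact S.card_stab
  set Sχ := {χ : (Subgroup.normalizer (S.F : Set G)) → ℂ | Cfsg.IsIrrCharacter (Subgroup.normalizer (S.F : Set G)) χ ∧ ∃ k : (Subgroup.normalizer (S.F : Set G)), (k : G) ∈ S.F ∧ χ k ≠ χ 1} with hS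
  obtain ⟨-, star, hstar, hext⟩ := hcoh
  set SF : Finset (Cfsg.IrrCharacter (Subgroup.normalizer (S.F : Set G))) := Finset.univ.filter fun χ => χ.1 ∈ Sχ with hSF
  have hmemSF : ∀ {χ : Cfsg.IrrCharacter (Subgroup.normalizer (S.F : Set G))}, χ ∈ SF ↔ (χ : (Subgroup.normalizer (S.F : Set G)) → ℂ) ∈ Sχ := fun {χ} => by simp [hSF]
  let u₀ : {u : S.F // u ≠ 1} :=
    ⟨(S.F.ne_bot_iff_exists_ne_one.mp S.F_ne_bot).choose,
      (S.F.ne_bot_iff_exists_ne_one.mp S.F_ne_bot).choose_spec⟩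
  let kk : S.F → (Subgroup.normalizer (S.F : Set G)) := fun u => ⟨u, hTI.lt.le u.2⟩
  have hu₀ : ((u₀.1 : S.F) : G) ≠ 1 := fun e => u₀.2 (Subtype.ext e)
  have hku₀ : kk u₀.1 ≠ 1 := fun e => hu₀ (congrArg Subtype.val e)
  -- the linear characters are the complement of `SF`
  let L : (S.H →* ℂˣ) → Cfsg.IrrCharacter (Subgroup.normalizer (S.F : Set G)) := fun l => ⟨_, isIrrCharacter_hom (S.liftN hN l)⟩
  have hLinj : Function.Injective L := fun l l' e => by
    refine S.lift_injective (MonoidHom.ext fun x => ?_)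
    have := DFunLike.congr_fun (coe_hom_injective (congrArg Subtype.val e)) ⟨(x : G), hN.ge x.2⟩
    exact this
  have hcompl : SFᶜ = Finset.univ.image L := by
    ext χ
    simp only [Finset.mem_compl, hmemSF, Finset.mem_image, Finset.mem_univ, true_and]
    constructor
    · intro hχ
      rcases S.irr_cases hcyc hN χ.2 with ⟨-, l, hl⟩ | ⟨hk', -⟩
      · exact ⟨l, Subtype.ext hl.symm⟩
      · exact absurd ⟨χ.2, hk'⟩ hχ
    · rintro ⟨l, rfl⟩ ⟨-, k, hk', hne⟩
      exact hne (by simp [L, S.liftN_apply_F hN l k hk'])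
  have hsum0 : ∀ χ ∈ SF, ∑ u : S.F, (χ : (Subgroup.normalizer (S.F : Set G)) → ℂ) (kk u) = 0 := by
    intro χ hχ
    rcases S.irr_cases hcyc hN χ.2 with ⟨hc, -⟩ | ⟨-, h0⟩
    · obtain ⟨-, k, hk', hne⟩ := hmemSF.mp hχ
      exact absurd (hc k hk') hne
    · exact h0
  choose deg hdeg using fun χ : Cfsg.IrrCharacter (Subgroup.normalizer (S.F : Set G)) =>
    IsCharacter.apply_one_eq (IsIrrCharacter.isCharacter χ.2)
  have hortho : ∀ k : (Subgroup.normalizer (S.F : Set G)), (k : G) ∈ S.F → ∑ χ ∈ SF, (χ : (Subgroup.normalizer (S.F : Set G)) → ℂ) k * (χ : (Subgroup.normalizer (S.F : Set G)) → ℂ) 1 =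
      (if k = 1 then ((n * d : ℕ) : ℂ) else 0) - d := by
    intro k hk'
    have h1 := sum_irr_mul_conj (G := (Subgroup.normalizer (S.F : Set G))) k 1
    simp only [hdeg, map_natCast, isConj_one_left] at h1
    rw [Subgroup.centralizer_eq_top_iff_subset.mpr (by simp), Subgroup.card_top, hcardN,
      ← Finset.sum_add_sum_compl SF, hcompl, Finset.sum_image fun x _ y _ e => hLinj e] at h1
    have h2 : ∑ l : S.H →* ℂˣ, ((L l : Cfsg.IrrCharacter (Subgroup.normalizer (S.F : Set G))) : (Subgroup.normalizer (S.F : Set G)) → ℂ) k * (deg (L l) : ℂ) = d := by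
      rw [Finset.sum_congr rfl fun l _ => show _ = (1 : ℂ) from ?_, Finset.sum_const,
        Finset.card_univ, S.card_dual hcyc, nsmul_eq_mul, mul_one]
      rw [← hdeg]
      simp [L, S.liftN_apply_F hN l k hk']
    rw [h2] at h1
    simp only [hdeg]
    rw [← h1]
    ring
  have hS1u : ∑ χ ∈ SF, (χ : (Subgroup.normalizer (S.F : Set G)) → ℂ) (kk u₀.1) * (χ : (Subgroup.normalizer (S.F : Set G)) → ℂ) 1 = -d := by
    rw [hortho _ u₀.1.2, if_neg hku₀, zero_sub]
  have hS11 : ∑ χ ∈ SF, (χ : (Subgroup.normalizer (S.F : Set G)) → ℂ) 1 * (χ : (Subgroup.normalizer (S.F : Set G)) → ℂ) 1 = (n : ℂ) * d - d := by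
    rw [hortho 1 (one_mem _), if_pos rfl]; push_cast; rfl
  -- a linear exceptional character and a second one
  obtain ⟨φ, hφ, hφ1, hφdeg⟩ := hTI.exists_linear S.F_ne_bot
  cases nonempty_fintype K
  have hη := (hTI.mem_S hS).mpr ⟨φ, hφ, hφ1, rfl⟩
  set η : Cfsg.IrrCharacter (Subgroup.normalizer (S.F : Set G)) := ⟨_, hη.1⟩
  have hη1 : (η : (Subgroup.normalizer (S.F : Set G)) → ℂ) 1 = d := by
    show Cfsg.indFun K φ 1 = d
    rw [indFun_one, hφdeg, mul_one, hidx]
  have hηSF : η ∈ SF := hmemSF.mpr hη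
  have htwo : ∃ χ ∈ Sχ, ∃ ξ ∈ Sχ, χ ≠ ξ := by
    by_contra hall
    push Not at hall
    have : SF = {η} := Finset.eq_singleton_iff_unique_mem.mpr
      ⟨hηSF, fun χ hχ => Subtype.ext (hall _ (hmemSF.mp hχ) _ hη)⟩
    rw [this, Finset.sum_singleton, hη1] at hS11
    have : ((d * d + d : ℕ) : ℂ) = ((n * d : ℕ) : ℂ) := by push_cast; rw [hS11]; ring
    have := Nat.cast_injective this
    have h2 : n = d + 1 := Nat.eq_of_mul_eq_mul_right (by omega : 0 < d) (by rw [← this]; ring)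
    omega
  obtain ⟨m, hm⟩ := hTI.exists_shift hS hstar hext ⟨_, hη⟩
  -- the signed irreducible images
  have himg : ∀ χ : SF, ∃ (z : ℤ) (x : Cfsg.IrrCharacter G), (z = 1 ∨ z = -1) ∧
      star (χ.1 : (Subgroup.normalizer (S.F : Set G)) → ℂ) = (z : ℂ) • (x : G → ℂ) := by
    intro χ
    have hχ := hmemSF.mp χ.2
    refine CharDeep.GenChar.exists_sign_irr (hstar.2.2.2 _ (Submodule.subset_span hχ)) ?_
    rw [hstar.2.2.1 _ (Submodule.subset_span hχ) _ (Submodule.subset_span hχ),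
      classInner_irr_self χ.1.2]
  choose zs X hzs hX using himg
  have hz2 : ∀ χ, (zs χ : ℂ) * zs χ = 1 := fun χ => by
    rcases hzs χ with h | h <;> simp [h]
  have hexc : ∀ χ : SF, ∃ p ∈ S.F, ∃ q ∈ S.F, p ≠ 1 ∧ q ≠ 1 ∧
      (X χ : G → ℂ) p ≠ (X χ : G → ℂ) q := by
    intro χ
    refine (hTI.exceptional_iff hS hstar hext htwo (X χ).2).mp ⟨_, hmemSF.mp χ.2, ?_⟩
    rcases hzs χ with h | h
    · exact Or.inl (by rw [hX, h, Int.cast_one, one_smul])
    · exact Or.inr (by rw [hX, h, Int.cast_neg, Int.cast_one, neg_one_smul, neg_neg])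
  have hXinj : Function.Injective X := by
    intro χ χ' e
    by_contra hne
    have h1 := hstar.2.2.1 _ (Submodule.subset_span (hmemSF.mp χ.2)) _
      (Submodule.subset_span (hmemSF.mp χ'.2))
    rw [hX, hX, e, classInner_smul_left, classInner_smul_right, classInner_irr_self (X χ').2,
      mul_one, map_intCast, classInner_irr_ne χ.1.2 χ'.1.2
        fun e' => hne (Subtype.ext (Subtype.ext e'))] at h1
    rcases hzs χ with h | h <;> rcases hzs χ' with h' | h' <;> simp [h, h'] at h1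
  obtain ⟨φ₀, φ₁, T, hT, h01, h0T, h1T, hv0, ⟨hv1, hv1u⟩, hvT, hrest⟩ :=
    S.exists_series hta htb hinv hcyc hk
  set R := insert φ₀ (insert φ₁ T) with hR
  have hRsum : ∀ x ∉ R, ∑ u : S.F, (x : G → ℂ) u = 0 := by
    intro x hx
    simp only [hR, Finset.mem_insert, not_or] at hx
    exact S.sum_F_eq_zero hcyc (IsIrrCharacter.isClassFunction x.2) (hrest x hx.1 hx.2.1 hx.2.2)
  have hRconst : ∀ x ∈ R, ∀ p ∈ S.F, ∀ q ∈ S.F, p ≠ 1 → q ≠ 1 →
      (x : G → ℂ) p = (x : G → ℂ) q := by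
    intro x hx p hp q hq hp1 hq1
    simp only [hR, Finset.mem_insert] at hx
    rcases hx with rfl | rfl | hx
    · rw [hv0, hv0]
    · rw [hv1u p hp hp1, hv1u q hq hq1]
    · rw [(hvT x hx).2 p hp hp1, (hvT x hx).2 q hq hq1]
  have hXR : ∀ χ, X χ ∉ R := by
    intro χ hx
    obtain ⟨p, hp, q, hq, hp1, hq1, hne⟩ := hexc χ
    exact hne (hRconst _ hx p hp q hq hp1 hq1)
  set E := (Finset.univ : Finset SF).image X with hE
  have hsplit : ∀ f : S.F → ℂ, ∑ u, f u = f 1 + ∑ u ∈ Finset.univ.erase 1, f u :=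
    fun f => (Finset.add_sum_erase _ _ (Finset.mem_univ 1)).symm
  have hsize : ((Finset.univ.erase (1 : S.F)).card : ℂ) = (s : ℂ) * d := by
    rw [Finset.card_erase_of_mem (Finset.mem_univ _), Finset.card_univ, ← Nat.card_eq_fintype_card,
      ← hn, hs, mul_comm d s]
    push_cast; rfl
  have hval : ∀ χ : SF, star (χ.1 : (Subgroup.normalizer (S.F : Set G)) → ℂ) 1 = (χ.1 : (Subgroup.normalizer (S.F : Set G)) → ℂ) 1 * (1 - (s : ℂ) * m) ∧
      ∀ u : S.F, u ≠ 1 → star (χ.1 : (Subgroup.normalizer (S.F : Set G)) → ℂ) (u : G) =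
        (χ.1 : (Subgroup.normalizer (S.F : Set G)) → ℂ) (kk u) + (m : ℂ) * (χ.1 : (Subgroup.normalizer (S.F : Set G)) → ℂ) 1 / d := by
    intro χ
    have hu : ∀ u : S.F, u ≠ 1 → star (χ.1 : (Subgroup.normalizer (S.F : Set G)) → ℂ) (u : G) =
        (χ.1 : (Subgroup.normalizer (S.F : Set G)) → ℂ) (kk u) + (m : ℂ) * (χ.1 : (Subgroup.normalizer (S.F : Set G)) → ℂ) 1 / d := by
      intro u hu
      have := hm _ (hmemSF.mp χ.2) (kk u) u.2 fun e => hu (Subtype.ext (by
        have := congrArg Subtype.val e; exact this))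
      rw [hidx] at this
      exact sub_eq_iff_eq_add'.mp this
    refine ⟨?_, hu⟩
    have h1 : ∑ u : S.F, star (χ.1 : (Subgroup.normalizer (S.F : Set G)) → ℂ) u = 0 := by
      rw [hX]
      simp only [Pi.smul_apply, smul_eq_mul, ← Finset.mul_sum, hRsum _ (hXR χ), mul_zero]
    have h2 := hsum0 _ χ.2
    rw [hsplit] at h1 h2
    rw [Finset.sum_congr rfl fun u hu' => hu u (Finset.mem_erase.mp hu').1, Finset.sum_add_distrib,
      Finset.sum_const, nsmul_eq_mul, hsize] at h1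
    rw [show kk 1 = 1 from Subtype.ext rfl] at h2
    rw [show ((1 : S.F) : G) = 1 from rfl] at h1
    field_simp at h1
    linear_combination h1 - h2
  -- no other character
  have hall : ∀ x, x ∈ R ∪ E := by
    intro x
    by_contra hx
    rw [Finset.mem_union, not_or] at hx
    have hconst : ∀ u : S.F, u ≠ 1 → (x : G → ℂ) u = (x : G → ℂ) (u₀.1 : G) := by
      intro u hu
      by_contra hne
      obtain ⟨χ, hχ, hx'⟩ := (hTI.exceptional_iff hS hstar hext htwo x.2).mpr
        ⟨u, u.2, u₀.1, u₀.1.2, fun e => hu (Subtype.ext e), hu₀, hne⟩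
      refine hx.2 (Finset.mem_image.mpr ⟨⟨⟨χ, hχ.1⟩, hmemSF.mpr hχ⟩, Finset.mem_univ _, ?_⟩)
      set χ' : SF := ⟨⟨χ, hχ.1⟩, hmemSF.mpr hχ⟩
      by_contra hne'
      have h0 := classInner_irr_ne (X χ').2 x.2 fun e => hne' (Subtype.ext e)
      have h1 : star χ = (zs χ' : ℂ) • (X χ' : G → ℂ) := hX χ'
      rcases hx' with hx' | hx' <;> rw [hx', h1] at h0
      · rw [classInner_smul_right, classInner_irr_self (X χ').2, map_intCast, mul_one] at h0
        rcases hzs χ' with h | h <;> simp [h] at h0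
      · rw [← neg_smul, classInner_smul_right, classInner_irr_self (X χ').2, map_neg, map_intCast,
          mul_one] at h0
        rcases hzs χ' with h | h <;> simp [h] at h0
    set r := (x : G → ℂ) (u₀.1 : G) with hr
    have h0 := hRsum x hx.1
    rw [hsplit, Finset.sum_congr rfl fun u hu' => hconst u (Finset.mem_erase.mp hu').1,
      Finset.sum_const, nsmul_eq_mul, hsize] at h0
    obtain ⟨e, he, hedvd⟩ := IsIrrCharacter.apply_one_dvd_card x.2
    rw [show ((1 : S.F) : G) = 1 from rfl, he] at h0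
    have hne : (s : ℂ) * d ≠ 0 := mul_ne_zero (Nat.cast_ne_zero.mpr (by omega)) hdC
    have hrq : r = ((-(e : ℚ) / ((s : ℚ) * d) : ℚ) : ℂ) := by
      push_cast
      rw [eq_div_iff hne]
      linear_combination h0
    obtain ⟨j, hj⟩ := exists_int_of_isIntegral_rat
      (IsCharacter.isIntegral (IsIrrCharacter.isCharacter x.2) _) hrq
    rw [← hr] at hj
    have he0 : ((e : ℤ) : ℂ) = ((-((s * d : ℕ) : ℤ) * j : ℤ) : ℂ) := by
      push_cast; rw [← hj]; linear_combination h0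
    have hde : s * d ∣ e := by
      rw [← Int.natCast_dvd_natCast]
      exact ⟨-j, by rw [Int.cast_injective he0]; ring⟩
    have h2 := hde.trans hedvd
    rw [S.card_G, ← hn, ← hd, hns] at h2
    have h3 : s * d ∣ 2 * d := by
      rw [show (s * d + 1 + 1) * ((s * d + 1) * d) = s * d * ((s * d + 3) * d) + 2 * d by ring] at h2
      exact (Nat.dvd_add_right (dvd_mul_right _ _)).mp h2
    have := Nat.le_of_dvd (by omega) h3
    have : 3 * d ≤ s * d := Nat.mul_le_mul_right d hs3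
    omega
  have hdisj : Disjoint R E := by
    rw [Finset.disjoint_left]
    intro x hx hx'
    obtain ⟨χ, -, rfl⟩ := Finset.mem_image.mp hx'
    exact hXR χ hx
  have horthG := sum_irr_mul_conj (G := G) ((u₀.1 : G)) 1
  rw [if_neg fun h => hu₀ (isConj_one_left.mp h)] at horthG
  rw [show (Finset.univ : Finset (Cfsg.IrrCharacter G)) = R ∪ E from
      (Finset.eq_univ_of_forall hall).symm, Finset.sum_union hdisj] at horthG
  rw [hR, Finset.sum_insert (by simp [h01, h0T]), Finset.sum_insert h1T, hE,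
    Finset.sum_image fun x _ y _ e => hXinj e] at horthG
  rw [Finset.sum_congr rfl fun x hx => show _ = ((n : ℂ) + 1) by
      rw [(hvT x hx).1, (hvT x hx).2 _ u₀.1.2 hu₀, one_mul, map_add, map_natCast, map_one],
    Finset.sum_const, hT, nsmul_eq_mul, hv0, hv0, hv1, hv1u _ u₀.1.2 hu₀, map_one, mul_one,
    zero_mul, zero_add] at horthG
  have hterm : ∀ χ : SF, (X χ : G → ℂ) (u₀.1 : G) * conj ((X χ : G → ℂ) 1) =
      ((χ.1 : (Subgroup.normalizer (S.F : Set G)) → ℂ) (kk u₀.1) + (m : ℂ) * (χ.1 : (Subgroup.normalizer (S.F : Set G)) → ℂ) 1 / d) *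
        ((χ.1 : (Subgroup.normalizer (S.F : Set G)) → ℂ) 1 * (1 - (s : ℂ) * m)) := by
    intro χ
    rw [← (hval χ).2 _ u₀.2, ← (hval χ).1, hX]
    obtain ⟨e, he, -⟩ := IsIrrCharacter.apply_one_dvd_card (X χ).2
    simp only [Pi.smul_apply, smul_eq_mul, he, map_natCast]
    linear_combination (-(X χ : G → ℂ) (u₀.1 : G) * (e : ℂ)) * hz2 χ
  rw [Finset.sum_congr rfl fun χ _ => hterm χ,
    Finset.sum_coe_sort SF fun χ => ((χ : (Subgroup.normalizer (S.F : Set G)) → ℂ) (kk u₀.1) + (m : ℂ) * (χ : (Subgroup.normalizer (S.F : Set G)) → ℂ) 1 / d) *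
      ((χ : (Subgroup.normalizer (S.F : Set G)) → ℂ) 1 * (1 - (s : ℂ) * m))] at horthG
  rw [Finset.sum_congr (s₁ := SF) rfl fun χ _ => show
      ((χ : (Subgroup.normalizer (S.F : Set G)) → ℂ) (kk u₀.1) + (m : ℂ) * (χ : (Subgroup.normalizer (S.F : Set G)) → ℂ) 1 / d) *
        ((χ : (Subgroup.normalizer (S.F : Set G)) → ℂ) 1 * (1 - (s : ℂ) * m)) =
      (1 - (s : ℂ) * m) * ((χ : (Subgroup.normalizer (S.F : Set G)) → ℂ) (kk u₀.1) * (χ : (Subgroup.normalizer (S.F : Set G)) → ℂ) 1) +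
      (1 - (s : ℂ) * m) * (m / d) * ((χ : (Subgroup.normalizer (S.F : Set G)) → ℂ) 1 * (χ : (Subgroup.normalizer (S.F : Set G)) → ℂ) 1) by ring,
    Finset.sum_add_distrib, ← Finset.mul_sum, ← Finset.mul_sum, hS1u, hS11, hnC] at horthG
  have hdk : (d : ℂ) = 2 * k + 1 := by exact_mod_cast hk
  have heqC : (k : ℂ) = (m : ℂ) ^ 2 * s - 2 * m := by
    field_simp at horthG
    have hsC : (s : ℂ) ≠ 0 := Nat.cast_ne_zero.mpr (by omega)
    refine mul_left_cancel₀ (mul_ne_zero hsC hdC) ?_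
    linear_combination horthG + hdk
  have heq : (k : ℤ) = m ^ 2 * s - 2 * m := by exact_mod_cast heqC
  have hdvd : (1 - (s : ℤ) * m) ∣ ((n : ℤ) + 1) * n := by
    obtain ⟨e, he, hedvd⟩ := IsIrrCharacter.apply_one_dvd_card (X ⟨η, hηSF⟩).2
    have h1 := (hval ⟨η, hηSF⟩).1
    rw [hX, Pi.smul_apply, he, hη1, smul_eq_mul] at h1
    have h2 : (zs ⟨η, hηSF⟩ * e : ℤ) = (d : ℤ) * (1 - (s : ℤ) * m) := by exact_mod_cast h1
    have h3 : (d : ℤ) * (1 - (s : ℤ) * m) ∣ (e : ℤ) := by
      rcases hzs ⟨η, hηSF⟩ with h | h <;> rw [h] at h2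
      · exact ⟨1, by omega⟩
      · exact ⟨-1, by linarith⟩
    have h4 := h3.trans (Int.natCast_dvd_natCast.mpr hedvd)
    rw [S.card_G, ← hn, ← hd] at h4
    push_cast at h4
    rw [show ((n : ℤ) + 1) * (n * d) = d * (((n : ℤ) + 1) * n) by ring] at h4
    exact (mul_dvd_mul_iff_left (Int.natCast_ne_zero.mpr (by omega))).mp h4
  obtain ⟨ha1, ha2⟩ := coherent_arith hk hns (by omega) hs3 heq hdvd
  exact ⟨s, ha1, ha2, hs3⟩

omit [Fintype G] in
/-- The order of an invariant subgroup of the kernel is one modulo `d`. -/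
theorem dvd_card_sub_one (Q : Subgroup G) (hQ : Q ≤ S.F)
    (hQH : ∀ h ∈ S.H, ∀ q ∈ Q, h * q * h⁻¹ ∈ Q) : Nat.card S.H ∣ Nat.card Q - 1 := by
  classical
  let T := {u : Q // u ≠ 1}
  have hT : Nat.card T = Nat.card Q - 1 := by
    letI := Fintype.ofFinite Q
    rw [Nat.card_eq_fintype_card, Nat.card_eq_fintype_card, Fintype.card_subtype_compl,
      Fintype.card_subtype_eq]
  letI : MulAction S.H T :=
    { smul := fun h u => ⟨⟨(h : G) * (u.1 : G) * (h : G)⁻¹, hQH h h.2 _ u.1.2⟩, fun e =>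
        u.2 (Subtype.ext (conj_eq_one_iff.mp (congrArg Subtype.val e)))⟩
      one_smul := fun u => Subtype.ext (Subtype.ext (by
        show ((1 : S.H) : G) * (u.1 : G) * ((1 : S.H) : G)⁻¹ = u.1; simp))
      mul_smul := fun h k u => Subtype.ext (Subtype.ext (by
        show ((h * k : S.H) : G) * (u.1 : G) * ((h * k : S.H) : G)⁻¹ =
          (h : G) * ((k : G) * (u.1 : G) * (k : G)⁻¹) * (h : G)⁻¹
        simp [mul_assoc])) }
  have hstab : ∀ u : T, stabilizer S.H u = ⊥ := fun u => eq_bot_iff.mpr fun h hh =>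
    Subgroup.mem_bot.mpr (Subtype.ext (S.eq_one_of_conj_eq h.2 (hQ u.1.2)
      (fun e => u.2 (Subtype.ext e)) (congrArg (fun w : T => (w.1 : G)) hh)))
  haveI : Finite (orbitRel.Quotient S.H T) := Quotient.finite _
  letI := Fintype.ofFinite (orbitRel.Quotient S.H T)
  rw [← hT, Nat.card_congr (selfEquivSigmaOrbits S.H T), Nat.card_sigma]
  refine Finset.dvd_sum fun q _ => dvd_of_eq ?_
  have h := Nat.card_congr (orbitProdStabilizerEquivGroup S.H q.out)
  rw [Nat.card_prod, hstab, Subgroup.card_bot, mul_one] at h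
  exact h.symm

omit [Fintype G] in
/-- In a nilpotent kernel every unitary divisor of the order is one modulo `d`. -/
theorem unitary_modEq [Group.IsNilpotent S.F] {A B : ℕ} (hAB : A * B = Nat.card S.F)
    (hcop : A.Coprime B) : A ≡ 1 [MOD Nat.card S.H] := by
  induction A using Nat.recOnPosPrimePosCoprime generalizing B with
  | zero => rw [zero_mul] at hAB; exact absurd hAB.symm Nat.card_pos.ne'
  | one => rfl
  | coprime a₁ a₂ _ _ h12 ih₁ ih₂ =>
    rw [Nat.coprime_mul_iff_left] at hcop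
    exact (ih₁ (by rw [← mul_assoc]; exact hAB) (Nat.Coprime.mul_right h12 hcop.1)).mul
      (ih₂ (B := a₁ * B) (by rw [← hAB]; ring) (Nat.Coprime.mul_right h12.symm hcop.2))
  | prime_pow p v hp hv =>
    haveI := Fact.mk hp
    let P : Sylow p S.F := default
    have hcardP : Nat.card P = p ^ v := by
      rw [Sylow.card_eq_multiplicity, ← hAB]
      congr 1
      have hB0 : B ≠ 0 := fun e => by simp [e, Nat.card_pos.ne] at hAB
      rw [Nat.factorization_mul (pow_ne_zero _ hp.ne_zero) hB0, Finsupp.add_apply,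
        hp.factorization_pow, Finsupp.single_eq_same,
        Nat.factorization_eq_zero_of_not_dvd fun h => hp.not_dvd_one
          (hcop.gcd_eq_one ▸ Nat.dvd_gcd (dvd_pow_self p (by omega)) h), add_zero]
    haveI : (P : Subgroup S.F).Normal :=
      Sylow.normal_of_normalizerCondition Group.normalizerCondition_of_isNilpotent P
    haveI := Sylow.unique_of_normal P inferInstance
    have hd := S.dvd_card_sub_one ((P : Subgroup S.F).map S.F.subtype) (Subgroup.map_subtype_le _) ?_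
    · rw [Subgroup.card_map_of_injective S.F.subtype_injective, hcardP] at hd
      exact ((Nat.modEq_iff_dvd' (Nat.one_le_pow _ _ hp.pos)).mpr hd).symm
    · rintro h hh _ ⟨u, hu, rfl⟩
      refine ⟨⟨h * u * h⁻¹, S.F_conj hh.1 u.2⟩, ?_, rfl⟩
      have hpg : IsPGroup p ((P : Subgroup S.F).map (S.cF ⟨h, hh⟩)) := P.2.map _
      obtain ⟨Q, hQ⟩ := hpg.exists_le_sylow
      rw [Subsingleton.elim Q P] at hQ
      exact hQ ⟨u, hu, rfl⟩

include hta htb hinv in
/-- The characters not trivial on a large-index kernel are never coherent. -/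
theorem not_coherent [Fintype (Subgroup.normalizer (S.F : Set G))] (hcyc : IsCyclic S.H)
    (hodd : Odd (Nat.card S.H)) (hbig : 2 * Nat.card S.H < Nat.card S.F - 1) :
    ¬ Cfsg.IsCoherent {χ : (Subgroup.normalizer (S.F : Set G)) → ℂ |
      Cfsg.IsIrrCharacter (Subgroup.normalizer (S.F : Set G)) χ ∧
        ∃ k : Subgroup.normalizer (S.F : Set G), (k : G) ∈ S.F ∧ χ k ≠ χ 1} {1}ᶜ
      (fun α => Cfsg.indFun (Subgroup.normalizer (S.F : Set G)) α) := by
  intro hcoh
  have hTI := S.isTIKernel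
  obtain ⟨s, hn, hd, hs⟩ := S.numeric_of_coherent hta htb hinv hcyc hodd hbig hcoh
  have hnil : Group.IsNilpotent S.F := by
    haveI := Feit.kernel_isNilpotent (S.F.subgroupOf (Subgroup.normalizer (S.F : Set G)))
      hTI.centralizer_le (Sibley.subgroupOf_ne_top hTI)
    exact Group.nilpotent_of_mulEquiv (Subgroup.subgroupOfEquivOfLe hTI.lt.le)
  have hcop : (s - 1).Coprime (2 * s - 1) := by
    rw [show 2 * s - 1 = 1 + 2 * (s - 1) by omega]
    simp [Nat.coprime_add_mul_right_right]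
  have h := (S.unitary_modEq hn.symm hcop).symm
  have h' := (Nat.modEq_iff_dvd' (by omega : 1 ≤ s - 1)).mp h
  have := Nat.le_of_dvd (by omega) h'
  omega

include hta htb hinv in
/-- Feit's theorem: a large-index kernel is a small non-abelian `2`-group. -/
theorem kernel_two_group (hcyc : IsCyclic S.H) (hodd : Odd (Nat.card S.H))
    (hbig : 2 * Nat.card S.H < Nat.card S.F - 1) :
    IsPGroup 2 S.F ∧ ¬ IsMulCommutative S.F ∧
      (⁅S.F, S.F⁆).relIndex S.F ≤ 4 * Nat.card S.H ^ 2 + 1 := by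
  classical
  cases nonempty_fintype (Subgroup.normalizer (S.F : Set G))
  have hTI := S.isTIKernel
  have hidx : (S.F.subgroupOf (Subgroup.normalizer (S.F : Set G))).index = Nat.card S.H :=
    S.index_F S.normalizer_F
  have hnc := S.not_coherent hta htb hinv hcyc hodd hbig
  have hab : ¬ IsMulCommutative S.F := fun hc =>
    hnc (Sibley.isCoherent_feit_TI hTI S.F_ne_bot (Or.inl ⟨hc, by rw [hidx]; omega⟩))
  obtain ⟨p, m, hp, hpm⟩ : ∃ p m : ℕ, p.Prime ∧ Nat.card S.F = p ^ m := by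
    by_contra hpp
    exact hnc (Sibley.isCoherent_feit_TI hTI S.F_ne_bot (Or.inr (Or.inl hpp)))
  haveI := Fact.mk hp
  have hFp : IsPGroup p S.F := IsPGroup.of_card hpm
  obtain rfl : p = 2 := by
    by_contra hp2
    exact hnc (Sibley.isCoherent_sylow hp2 hTI S.F_ne_bot hFp hab)
  refine ⟨hFp, hab, ?_⟩
  by_contra hlt
  exact hnc (Sibley.isCoherent_feit_TI hTI S.F_ne_bot
    (Or.inr (Or.inr ⟨2, m, hp, hpm, by rw [hidx]; omega⟩)))

include hta htb hinv in
/-- Feit's theorem: a large-index kernel is a small non-abelian `p`-group. -/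
theorem kernel_small (hcyc : IsCyclic S.H) (hodd : Odd (Nat.card S.H))
    (hbig : 2 * Nat.card S.H < Nat.card S.F - 1) :
    ∃ p m : ℕ, p.Prime ∧ Nat.card S.F = p ^ m ∧ ¬ IsMulCommutative S.F ∧
      (⁅S.F, S.F⁆).relIndex S.F ≤ 4 * Nat.card S.H ^ 2 + 1 := by
  obtain ⟨h1, h2, h3⟩ := S.kernel_two_group hta htb hinv hcyc hodd hbig
  obtain ⟨m, hm⟩ := IsPGroup.iff_card.mp h1
  exact ⟨2, m, Nat.prime_two, hm, h2, h3⟩

end Setup

end CfsgLib.Perm.ZGroup
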