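import Cfsg.Agent.Lib.Perm.ZGroup.Chars
import Cfsg.Agent.Lib.Perm.ZGroup.Coherent
import Cfsg.Agent.Lib.Char.Constituent

/-!
# No Zassenhaus group with abelian kernel and small inverted two-point stabiliser

Restricted to the abelian kernel `F`, the irreducible characters outside the principal series have
multiplicity vectors with inner products `k + δ` (`d = 2k + 1`), so `n = (s - 1)(2 s - 1)` and
`d = 2 s - 3`; then `d` divides `s - 2`, which is absurd.
-/

set_option autoImplicit false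

open scoped ComplexConjugate

namespace CfsgLib.Perm.ZGroup

open MulAction CfsgLib.Char

universe u v

/-- Orthogonality for the linear characters of a finite commutative group. -/
theorem sum_hom_apply {A : Type*} [CommGroup A] [Finite A] [Fintype (A →* ℂˣ)] [DecidableEq A]
    (x : A) : ∑ ψ : A →* ℂˣ, (ψ x : ℂ) = if x = 1 then (Nat.card A : ℂ) else 0 := by
  haveI : NeZero (Monoid.exponent A : ℂ) := ⟨by exact_mod_cast Monoid.exponent_ne_zero_of_finite⟩
  split_ifs with hx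
  · subst hx
    simp only [map_one, Units.val_one, Finset.sum_const, Finset.card_univ, nsmul_eq_mul, mul_one]
    rw [← Nat.card_eq_fintype_card, CommGroup.card_monoidHom_of_hasEnoughRootsOfUnity]
  · obtain ⟨φ, hφ⟩ := CommGroup.exists_apply_ne_one_of_hasEnoughRootsOfUnity A ℂ hx
    have h0 : ((φ x : ℂ) - 1) * ∑ ψ : A →* ℂˣ, (ψ x : ℂ) = 0 := by
      rw [sub_mul, one_mul, Finset.mul_sum, sub_eq_zero]
      exact Fintype.sum_equiv (Equiv.mulLeft φ) _ _ fun ψ => by
        rw [Equiv.coe_mulLeft, MonoidHom.mul_apply, Units.val_mul]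
    exact (mul_eq_zero.mp h0).resolve_left (sub_ne_zero.mpr fun h => hφ (Units.ext h))

variable {G : Type u} {Ω : Type v} [Group G] [Finite G] [MulAction G Ω] [Fintype Ω] {a b : Ω}

namespace Setup

variable (S : Setup G Ω a b)
include S

/-- Conjugation of the kernel by the two-point stabiliser. -/
def cF (h : S.H) : S.F →* S.F where
  toFun u := ⟨(h : G) * u * (h : G)⁻¹, S.F_conj h.2.1 u.2⟩
  map_one' := Subtype.ext (by simp)
  map_mul' u v := Subtype.ext (by simp [mul_assoc])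

theorem cF_coe (h : S.H) (u : S.F) : (S.cF h u : G) = h * u * (h : G)⁻¹ := rfl

theorem cF_cF (h k : S.H) (u : S.F) : S.cF h (S.cF k u) = S.cF (h * k) u :=
  Subtype.ext (by simp only [S.cF_coe, Subgroup.coe_mul]; group)

theorem cF_one (u : S.F) : S.cF 1 u = u := Subtype.ext (by simp [S.cF_coe])

/-- The kernel as a commutative group. -/
@[reducible] def commGroupF (hFab : IsMulCommutative S.F) : CommGroup S.F :=
  { (inferInstance : Group S.F) with mul_comm := hFab.is_comm.comm }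

theorem commute_F (hFab : IsMulCommutative S.F) {u v : G} (hu : u ∈ S.F) (hv : v ∈ S.F) :
    u * v = v * u :=
  congrArg Subtype.val (hFab.is_comm.comm (⟨u, hu⟩ : S.F) ⟨v, hv⟩)

theorem isConj_F (hFab : IsMulCommutative S.F) {u v : S.F} (hu : u ≠ 1) :
    IsConj (u : G) (v : G) ↔ ∃ h : S.H, S.cF h u = v := by
  refine ⟨fun hc => ?_, fun ⟨h, e⟩ => isConj_iff.mpr ⟨h, congrArg Subtype.val e⟩⟩
  obtain ⟨g, hg⟩ := isConj_iff.mp hc
  have hu' : (u : G) ≠ 1 := fun e => hu (Subtype.ext e)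
  obtain ⟨w, hw, h, hh, e⟩ := S.exists_mul (S.smul_a_of_conj u.2 hu' (hg ▸ v.2))
  refine ⟨⟨h, hh⟩, Subtype.ext ?_⟩
  have h1 : h * (u : G) * h⁻¹ = w⁻¹ * v * w := by rw [← hg, e]; group
  rw [S.cF_coe, h1, mul_assoc, S.commute_F hFab v.2 hw, inv_mul_cancel_left]

theorem card_centralizer_F (hFab : IsMulCommutative S.F) {v : S.F} (hv : v ≠ 1) :
    Nat.card (Subgroup.centralizer ({(v : G)} : Set G)) = Nat.card S.F := by
  have hv' : (v : G) ≠ 1 := fun e => hv (Subtype.ext e)
  congr 1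
  suffices Subgroup.centralizer ({(v : G)} : Set G) = S.F by rw [this]
  ext g
  rw [Subgroup.mem_centralizer_singleton_iff]
  refine ⟨fun hg => ?_, fun hg => S.commute_F hFab hg v.2⟩
  have hgv : g * v * g⁻¹ = (v : G) := by
    rw [show g * (v : G) = v * g from hg, mul_inv_cancel_right]
  obtain ⟨w, hw, h, hh, e⟩ := S.exists_mul (S.smul_a_of_conj v.2 hv' (by rw [hgv]; exact v.2))
  have h1 : h * (v : G) * h⁻¹ = v := by
    have h2 : h * (v : G) * h⁻¹ = w⁻¹ * (g * v * g⁻¹) * w := by rw [e]; group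
    rw [h2, hgv, mul_assoc, S.commute_F hFab v.2 hw, inv_mul_cancel_left]
  rw [e, S.eq_one_of_conj_eq hh v.2 hv' h1, mul_one]
  exact hw

variable [Fintype G]

/-- The multiplicity of a linear character of the kernel in a function. -/
noncomputable def mult [Fintype S.F] (f : G → ℂ) (ψ : S.F →* ℂˣ) : ℂ :=
  Cfsg.classInner (fun u : S.F => f u) fun u => (ψ u : ℂ)

theorem mult_eq [Fintype S.F] (f : G → ℂ) (ψ : S.F →* ℂˣ) :
    S.mult f ψ = (Nat.card S.F : ℂ)⁻¹ * ∑ u : S.F, f u * conj (ψ u : ℂ) := rfl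

theorem mult_nat [Fintype S.F] {f : G → ℂ} (hf : Cfsg.IsCharacter G f) (ψ : S.F →* ℂˣ) :
    ∃ m : ℕ, S.mult f ψ = m :=
  IsCharacter.classInner_nat (IsCharacter.restrict hf S.F) (isCharacter_hom ψ)

theorem mult_cF [Fintype S.F] {f : G → ℂ} (hf : Cfsg.IsClassFunction G f) (h : S.H)
    (ψ : S.F →* ℂˣ) : S.mult f (ψ.comp (S.cF h)) = S.mult f ψ := by
  rw [S.mult_eq, S.mult_eq]
  congr 1
  refine Fintype.sum_equiv
    { toFun := S.cF h
      invFun := S.cF h⁻¹
      left_inv := fun u => by rw [S.cF_cF, inv_mul_cancel, S.cF_one]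
      right_inv := fun u => by rw [S.cF_cF, mul_inv_cancel, S.cF_one] } _ _ fun u => ?_
  show f (u : G) * conj ((ψ (S.cF h u) : ℂˣ) : ℂ) = f (S.cF h u : G) * conj ((ψ (S.cF h u) : ℂˣ) : ℂ)
  rw [S.cF_coe, hf (u : G) h]

theorem sum_mult [Fintype S.F] [Fintype S.H] (hFab : IsMulCommutative S.F)
    (ψ ψ' : S.F →* ℂˣ) [DecidablePred fun h : S.H => ψ'.comp (S.cF h) = ψ] :
    ∑ χ : Cfsg.IrrCharacter G, S.mult χ ψ * S.mult χ ψ' =
      (Nat.card S.H : ℂ) +
        ((Finset.univ.filter fun h : S.H => ψ'.comp (S.cF h) = ψ).card : ℂ) := by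
  classical
  set n : ℕ := Nat.card S.F with hn
  set d : ℕ := Nat.card S.H with hd
  have hn0 : (n : ℂ) ≠ 0 := Nat.cast_ne_zero.mpr Nat.card_pos.ne'
  -- the second factor is real
  have hreal : ∀ χ : Cfsg.IrrCharacter G, S.mult χ ψ' = conj (S.mult χ ψ') := fun χ => by
    obtain ⟨m, hm⟩ := S.mult_nat (isCharacter_irr χ) ψ'
    rw [hm, map_natCast]
  have hK : ∀ u v : S.F, ∑ χ : Cfsg.IrrCharacter G, (χ : G → ℂ) u * conj ((χ : G → ℂ) v) =
      if u = 1 then (if v = 1 then (Nat.card G : ℂ) else 0)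
      else (n : ℂ) * ∑ h : S.H, (if S.cF h u = v then 1 else 0) := by
    intro u v
    rw [sum_irr_mul_conj]
    by_cases hu : u = 1
    · rw [if_pos hu, hu, Subgroup.coe_one]
      by_cases hv : v = 1
      · rw [if_pos hv, hv, Subgroup.coe_one, if_pos (IsConj.refl 1),
          Subgroup.centralizer_eq_top_iff_subset.mpr (by simp), Subgroup.card_top]
      · rw [if_neg hv, if_neg fun h => hv (Subtype.ext (isConj_one_right.mp h))]
    · rw [if_neg hu]
      by_cases hc : IsConj (u : G) (v : G)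
      · have hv : v ≠ 1 := fun e => hu (Subtype.ext (isConj_one_left.mp (by
          rw [e, Subgroup.coe_one] at hc; exact hc)))
        obtain ⟨h₀, e₀⟩ := (S.isConj_F hFab hu).mp hc
        rw [if_pos hc, S.card_centralizer_F hFab hv, Finset.sum_eq_single h₀ ?_ ?_, if_pos e₀,
          mul_one]
        · intro h _ hne
          rw [if_neg fun e => hne ?_]
          refine (inv_mul_eq_one.mp ?_).symm
          refine Subtype.ext (S.eq_one_of_conj_eq (h₀⁻¹ * h).2 u.2 (fun e' => hu (Subtype.ext e')) ?_)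
          rw [← S.cF_coe, ← S.cF_cF, e, ← e₀, S.cF_cF, inv_mul_cancel, S.cF_one]
        · exact fun h => absurd (Finset.mem_univ _) h
      · rw [if_neg hc, Finset.sum_eq_zero, mul_zero]
        intro h _
        rw [if_neg fun e => hc ((S.isConj_F hFab hu).mpr ⟨h, e⟩)]
  have hexp : ∑ χ : Cfsg.IrrCharacter G, S.mult χ ψ * S.mult χ ψ' =
      (n : ℂ)⁻¹ * (n : ℂ)⁻¹ * ∑ u : S.F, conj (ψ u : ℂ) * ∑ v : S.F, (ψ' v : ℂ) *
        ∑ χ : Cfsg.IrrCharacter G, (χ : G → ℂ) u * conj ((χ : G → ℂ) v) := by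
    conv_lhs => arg 2; ext χ; rw [hreal χ]
    simp only [S.mult_eq, ← hn, map_mul, map_inv₀, map_natCast, map_sum, Complex.conj_conj]
    calc _ = ∑ χ : Cfsg.IrrCharacter G, ∑ u : S.F, ∑ v : S.F, (n : ℂ)⁻¹ * (n : ℂ)⁻¹ *
          (conj (ψ u : ℂ) * ((ψ' v : ℂ) * ((χ : G → ℂ) u * conj ((χ : G → ℂ) v)))) := by
          refine Finset.sum_congr rfl fun χ _ => ?_
          rw [mul_mul_mul_comm, Finset.sum_mul_sum, Finset.mul_sum]
          refine Finset.sum_congr rfl fun u _ => ?_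
          rw [Finset.mul_sum]
          exact Finset.sum_congr rfl fun v _ => by ring
      _ = ∑ u : S.F, ∑ v : S.F, ∑ χ : Cfsg.IrrCharacter G, (n : ℂ)⁻¹ * (n : ℂ)⁻¹ *
          (conj (ψ u : ℂ) * ((ψ' v : ℂ) * ((χ : G → ℂ) u * conj ((χ : G → ℂ) v)))) := by
          rw [Finset.sum_comm]
          exact Finset.sum_congr rfl fun u _ => Finset.sum_comm
      _ = _ := by simp only [Finset.mul_sum]
  rw [hexp]
  have hinner : ∀ u : S.F, u ≠ 1 → (∑ v : S.F, (ψ' v : ℂ) *
      ∑ χ : Cfsg.IrrCharacter G, (χ : G → ℂ) u * conj ((χ : G → ℂ) v)) =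
      (n : ℂ) * ∑ h : S.H, (ψ' (S.cF h u) : ℂ) := by
    intro u hu
    simp only [hK, if_neg hu, Finset.mul_sum]
    rw [Finset.sum_comm]
    refine Finset.sum_congr rfl fun h _ => ?_
    rw [Finset.sum_eq_single (S.cF h u) (fun v _ hv => by rw [if_neg (Ne.symm hv), mul_zero, mul_zero])
      (fun h' => absurd (Finset.mem_univ _) h'), if_pos rfl]
    ring
  have hone : (∑ v : S.F, (ψ' v : ℂ) *
      ∑ χ : Cfsg.IrrCharacter G, (χ : G → ℂ) (1 : S.F) * conj ((χ : G → ℂ) v)) = (Nat.card G : ℂ) := by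
    simp only [hK, if_true, mul_ite, mul_zero]
    rw [Finset.sum_ite_eq' Finset.univ (1 : S.F), if_pos (Finset.mem_univ _), map_one, Units.val_one,
      one_mul]
  have hall : ∑ u : S.F, conj (ψ u : ℂ) * ((n : ℂ) * ∑ h : S.H, (ψ' (S.cF h u) : ℂ)) =
      (n : ℂ) * n * ((Finset.univ.filter fun h : S.H => ψ'.comp (S.cF h) = ψ).card : ℂ) := by
    simp only [Finset.mul_sum]
    rw [Finset.sum_comm, Finset.card_filter, Nat.cast_sum, Finset.mul_sum]
    refine Finset.sum_congr rfl fun h _ => ?_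
    have h1 := classInner_irr (isIrrCharacter_hom (ψ'.comp (S.cF h))) (isIrrCharacter_hom ψ)
    rw [Cfsg.classInner, ← hn, inv_mul_eq_iff_eq_mul₀ hn0] at h1
    rw [show ∑ u : S.F, conj (ψ u : ℂ) * ((n : ℂ) * (ψ' (S.cF h u) : ℂ)) =
        (n : ℂ) * ∑ u : S.F, ((ψ'.comp (S.cF h) u : ℂˣ) : ℂ) * conj (ψ u : ℂ) by
      rw [Finset.mul_sum]
      exact Finset.sum_congr rfl fun u _ => by rw [MonoidHom.comp_apply]; ring, h1, ← mul_assoc]
    congr 1
    split_ifs with e1 e2 e3
    · simp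
    · exact absurd (coe_hom_injective e1) e2
    · exact absurd (congrArg (fun (φ : S.F →* ℂˣ) (g : S.F) => (φ g : ℂ)) e3) e1
    · simp
  rw [← Finset.add_sum_erase _ _ (Finset.mem_univ (1 : S.F)), hone] 
  rw [← Finset.add_sum_erase _ _ (Finset.mem_univ (1 : S.F))] at hall
  rw [Finset.sum_congr rfl fun u hu => by rw [hinner u (Finset.mem_erase.mp hu).1]]
  simp only [map_one, Units.val_one, one_mul] at hall ⊢
  rw [eq_sub_of_add_eq' hall]
  simp only [Finset.sum_const, Finset.card_univ, nsmul_eq_mul, mul_one, ← Nat.card_eq_fintype_card,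
    ← hn, ← hd, S.card_G]
  push_cast
  field_simp
  ring

omit [Fintype G] in
/-- A nontrivial linear character of the kernel is moved by every nontrivial element of `H`. -/
theorem eq_one_of_fixed_hom (hFab : IsMulCommutative S.F) {h : S.H} (hh : h ≠ 1)
    {ψ : S.F →* ℂˣ} (hψ : ψ.comp (S.cF h) = ψ) : ψ = 1 := by
  let D : S.F → S.F := fun u => u⁻¹ * S.cF h u
  have hD : Function.Injective D := by
    intro u v e
    by_contra huv
    have huv' : u * v⁻¹ ≠ 1 := fun e1 => huv (mul_inv_eq_one.mp e1)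
    refine hh (Subtype.ext (S.eq_one_of_conj_eq h.2 (u * v⁻¹).2 (fun e1 => huv' (Subtype.ext e1)) ?_))
    rw [← S.cF_coe, map_mul, map_inv]
    have e' : S.cF h u = u * (v⁻¹ * S.cF h v) := inv_mul_eq_iff_eq_mul.mp e
    rw [e', ← mul_assoc, mul_inv_cancel_right]
  refine MonoidHom.ext fun x => ?_
  obtain ⟨u, rfl⟩ := (Finite.injective_iff_surjective.mp hD) x
  show ψ (u⁻¹ * S.cF h u) = 1
  rw [map_mul, map_inv, ← MonoidHom.comp_apply, hψ, inv_mul_cancel]

theorem mult_ind [Fintype S.F] (l : S.H →* ℂˣ) (ψ : S.F →* ℂˣ) [Decidable (ψ = 1)] :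
    S.mult (S.ind l) ψ = 1 + if ψ = 1 then 1 else 0 := by
  classical
  have h1 := classInner_irr (isIrrCharacter_hom (1 : S.F →* ℂˣ)) (isIrrCharacter_hom ψ)
  rw [Cfsg.classInner] at h1
  have hval : ∀ u : S.F, S.ind l u =
      (if u = 1 then (Nat.card S.F : ℂ) else 0) + (((1 : S.F →* ℂˣ) u : ℂˣ) : ℂ) := by
    intro u
    rw [MonoidHom.one_apply, Units.val_one]
    split_ifs with hu
    · rw [hu, Subgroup.coe_one, S.ind_one]
    · rw [zero_add, S.ind_F l u.2 fun e => hu (Subtype.ext e)]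
  rw [S.mult_eq]
  simp only [hval, add_mul, Finset.sum_add_distrib, mul_add, h1, ite_mul, zero_mul,
    Finset.sum_ite_eq', Finset.mem_univ, if_true, map_one, Units.val_one, mul_one]
  rw [inv_mul_cancel₀ (Nat.cast_ne_zero.mpr Nat.card_pos.ne')]
  congr 1
  exact if_congr ⟨fun e => (coe_hom_injective e).symm, fun e => e ▸ rfl⟩ rfl rfl

theorem apply_one_eq_sum [Fintype S.F] (hFab : IsMulCommutative S.F) [Fintype (S.F →* ℂˣ)]
    (f : G → ℂ) : f 1 = ∑ ψ : S.F →* ℂˣ, S.mult f ψ := by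
  classical
  letI : CommGroup S.F := S.commGroupF hFab
  have hinv : ∀ (ψ : S.F →* ℂˣ) (u : S.F), conj (ψ u : ℂ) = (ψ u⁻¹ : ℂ) := fun ψ u =>
    (IsCharacter.apply_inv (isCharacter_hom ψ) u).symm
  simp only [S.mult_eq, hinv]
  rw [← Finset.mul_sum, Finset.sum_comm]
  simp only [← Finset.mul_sum, sum_hom_apply, inv_eq_one]
  simp only [mul_ite, mul_zero, Finset.sum_ite_eq', Finset.mem_univ, if_true]
  rw [show ((1 : S.F) : G) = 1 from rfl]
  field_simp [Nat.cast_ne_zero.mpr (Nat.card_pos (α := S.F)).ne']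

variable {t : G} (hta : t • a = b) (htb : t • b = a) (hinv : ∀ h ∈ S.H, t * h * t⁻¹ = h⁻¹)

omit [Fintype G] in
include hta htb hinv in
theorem comm_H (x y : S.H) : x * y = y * x := by
  apply inv_injective
  apply Subtype.ext
  have e1 := hinv _ (x * y).2
  have e2 := hinv _ x.2
  have e3 := hinv _ y.2
  rw [mul_inv_rev x y, Subgroup.coe_mul, Subgroup.coe_inv, Subgroup.coe_inv, ← e2, ← e3]
  show t * (y : G) * t⁻¹ * (t * x * t⁻¹) = ((y * x : S.H) : G)⁻¹
  rw [show t * (y : G) * t⁻¹ * (t * x * t⁻¹) = t * ((y * x : S.H) : G) * t⁻¹ by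
    rw [Subgroup.coe_mul]; group, hinv _ (y * x).2]

/-- The principal series: the trivial character, the Steinberg character and the `k` characters of
degree `n + 1`. -/
theorem exists_principal [Fintype S.F] [DecidableEq (S.H →* ℂˣ)] [DecidableEq (S.F →* ℂˣ)] (hcyc : IsCyclic S.H) {k : ℕ}
    (hk : Nat.card S.H = 2 * k + 1) (hk1 : 1 ≤ k) (hinner : ∀ l l' : S.H →* ℂˣ,
      Cfsg.classInner (S.ind l) (S.ind l') =
        (if l = l' then 1 else 0) + (if l * l' = 1 then 1 else 0)) :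
    ∃ W : Bool ⊕ Fin k → Cfsg.IrrCharacter G, Function.Injective W ∧
      (∀ ψ : S.F →* ℂˣ, S.mult (W (Sum.inl false)) ψ = if ψ = 1 then 1 else 0) ∧
      (∀ ψ : S.F →* ℂˣ, S.mult (W (Sum.inl true)) ψ = 1) ∧
      (∀ i (ψ : S.F →* ℂˣ), S.mult (W (Sum.inr i)) ψ = if ψ = 1 then 2 else 1) := by
  classical
  haveI := hcyc
  letI : CommGroup S.H := IsCyclic.commGroup
  haveI : NeZero (Monoid.exponent S.H : ℂ) := ⟨by exact_mod_cast Monoid.exponent_ne_zero_of_finite⟩
  obtain ⟨e⟩ := CommGroup.monoidHom_mulEquiv_of_hasEnoughRootsOfUnity S.H ℂ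
  obtain ⟨g, hg⟩ := IsCyclic.exists_generator (α := S.H)
  set ζ : S.H →* ℂˣ := e.symm g with hζ
  have hζo : orderOf ζ = 2 * k + 1 := by
    rw [hζ, MulEquiv.orderOf_eq, orderOf_eq_card_of_forall_mem_zpowers hg, hk]
  let lam : Fin k → (S.H →* ℂˣ) := fun i => ζ ^ ((i : ℕ) + 1)
  have hlam : ∀ i j, (lam i = lam j ↔ i = j) ∧ lam i * lam j ≠ 1 := by
    intro i j
    refine ⟨⟨fun h => ?_, fun h => h ▸ rfl⟩, fun h => ?_⟩
    · have h1 := pow_injOn_Iio_orderOf (x := ζ)
        (show (i : ℕ) + 1 ∈ Set.Iio (orderOf ζ) by rw [Set.mem_Iio, hζo]; omega)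
        (show (j : ℕ) + 1 ∈ Set.Iio (orderOf ζ) by rw [Set.mem_Iio, hζo]; omega) h
      exact Fin.ext (Nat.add_right_cancel h1)
    · simp only [lam] at h
      have h1 := orderOf_dvd_of_pow_eq_one ((pow_add ζ _ _).trans h)
      rw [hζo] at h1
      have := Nat.le_of_dvd (by omega) h1
      omega
  have hirr : ∀ i, Cfsg.IsIrrCharacter G (S.ind (lam i)) := fun i =>
    IsCharacter.isIrrCharacter_of_norm_one (S.ind_isCharacter _) (by
      rw [hinner, if_pos rfl, if_neg (hlam i i).2, add_zero])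
  -- the Steinberg character
  set φ₀ : Cfsg.IrrCharacter G := ⟨fun _ => 1, isIrrCharacter_one⟩ with hφ₀
  obtain ⟨m, hm, hexp⟩ := IsCharacter.exists_multiplicity (S.ind_isCharacter (1 : S.H →* ℂˣ))
  have hm0 : m φ₀ = 1 := by
    cases nonempty_fintype (stabilizer G a)
    have h1 := hm φ₀
    rw [ind, classInner_indFun (stabilizer G a) _ (IsIrrCharacter.isClassFunction φ₀.2)] at h1
    have h2 : Cfsg.classInner (fun x : stabilizer G a => ((S.lift 1 x : ℂˣ) : ℂ))
        (fun x : stabilizer G a => (φ₀ : G → ℂ) x) = 1 := by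
      rw [Cfsg.classInner, Finset.sum_congr rfl fun x _ => show
        ((S.lift 1 x : ℂˣ) : ℂ) * conj ((φ₀ : G → ℂ) x) = 1 by simp [lift, hφ₀],
        Finset.sum_const, Finset.card_univ, nsmul_eq_mul, mul_one, ← Nat.card_eq_fintype_card]
      exact inv_mul_cancel₀ (Nat.cast_ne_zero.mpr Nat.card_pos.ne')
    exact_mod_cast (h1.symm.trans h2)
  have hnorm : ∑ φ, m φ * m φ = 2 := by
    have h1 := hinner 1 1
    rw [classInner_eq_sum_irr (IsCharacter.isClassFunction (S.ind_isCharacter _)),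
      if_pos rfl] at h1
    split_ifs at h1 with hh
    swap
    · exact (hh (MonoidHom.ext fun x => by simp)).elim
    have h2 : ((∑ φ, m φ * m φ : ℕ) : ℂ) = ((2 : ℕ) : ℂ) := by
      rw [Nat.cast_ofNat, show (2 : ℂ) = 1 + 1 by norm_num, ← h1]
      push_cast
      exact Finset.sum_congr rfl fun φ _ => by
        rw [hm, IsCharacter.classInner_comm (isCharacter_irr φ) (S.ind_isCharacter _), hm]
    exact_mod_cast h2
  rw [← Finset.add_sum_erase _ _ (Finset.mem_univ φ₀), hm0] at hnorm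
  obtain ⟨φ₁, hφ₁m, hφ₁⟩ : ∃ φ₁ ∈ Finset.univ.erase φ₀, m φ₁ * m φ₁ ≠ 0 :=
    Finset.exists_ne_zero_of_sum_ne_zero (by omega)
  rw [← Finset.add_sum_erase _ _ hφ₁m] at hnorm
  have hpos : 1 ≤ m φ₁ * m φ₁ := Nat.one_le_iff_ne_zero.mpr hφ₁
  have hm1 : m φ₁ = 1 := Nat.eq_one_of_mul_eq_one_right (show m φ₁ * m φ₁ = 1 by omega)
  have hrest : ∀ φ, φ ≠ φ₀ → φ ≠ φ₁ → m φ = 0 := fun φ h h' =>
    mul_self_eq_zero.mp (Finset.sum_eq_zero_iff.mp (show ∑ φ ∈ (Finset.univ.erase φ₀).erase φ₁,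
      m φ * m φ = 0 by omega) φ (by simp [h, h']))
  have hπ : S.ind 1 = fun g => (φ₀ : G → ℂ) g + (φ₁ : G → ℂ) g := by
    funext x
    rw [hexp x, Finset.sum_eq_add φ₀ φ₁ (Finset.mem_erase.mp hφ₁m).1.symm
      (fun φ _ h => by rw [hrest φ h.1 h.2, Nat.cast_zero, zero_mul]) (by simp) (by simp),
      hm0, hm1, Nat.cast_one, one_mul, one_mul]
  have hc0 : ∀ ψ : S.F →* ℂˣ, S.mult φ₀ ψ = if ψ = 1 then 1 else 0 := by
    intro ψ
    have h1 := classInner_irr (isIrrCharacter_hom (1 : S.F →* ℂˣ)) (isIrrCharacter_hom ψ)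
    have h2 : S.mult φ₀ ψ = Cfsg.classInner (fun g : S.F => (((1 : S.F →* ℂˣ) g : ℂˣ) : ℂ))
        (fun g => (ψ g : ℂ)) := by
      simp [mult, hφ₀]
    rw [h2, h1]
    exact if_congr ⟨fun e => (coe_hom_injective e).symm, fun e => e ▸ rfl⟩ rfl rfl
  have hc1 : ∀ ψ : S.F →* ℂˣ, S.mult φ₁ ψ = 1 := by
    intro ψ
    have h1 := S.mult_ind 1 ψ
    have h2 : S.mult (S.ind 1) ψ = S.mult φ₀ ψ + S.mult φ₁ ψ := by
      rw [hπ]
      simp only [S.mult_eq, add_mul, Finset.sum_add_distrib, mul_add]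
    rw [h2, hc0, add_comm (1 : ℂ)] at h1
    exact add_left_cancel h1
  have hc2 : ∀ i (ψ : S.F →* ℂˣ), S.mult (S.ind (lam i)) ψ = if ψ = 1 then 2 else 1 := by
    intro i ψ
    rw [S.mult_ind]
    split_ifs <;> norm_num
  let W : Bool ⊕ Fin k → Cfsg.IrrCharacter G := Sum.elim
    (fun x => if x then φ₁ else φ₀) fun i => ⟨S.ind (lam i), hirr i⟩
  refine ⟨W, ?_, fun ψ => by simpa [W] using hc0 ψ, fun ψ => by simpa [W] using hc1 ψ,
    fun i ψ => hc2 i ψ⟩
  have hval : ∀ x, S.mult (W x) (1 : S.F →* ℂˣ) = Sum.elim (fun _ => 1) (fun _ => 2) x := by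
    rintro ((_ | _) | i)
    · simpa [W] using (hc0 1)
    · simpa [W] using (hc1 1)
    · simpa [W] using (hc2 i 1)
  intro x y e
  have h1 := hval x
  rw [e, hval y] at h1
  rcases x with x | i <;> rcases y with y | j
  · cases x <;> cases y
    · rfl
    · exact absurd (show φ₁ = φ₀ by simpa [W] using e.symm) (Finset.mem_erase.mp hφ₁m).1
    · exact absurd (show φ₁ = φ₀ by simpa [W] using e) (Finset.mem_erase.mp hφ₁m).1
    · rfl
  · simp at h1
  · simp at h1
  · congr 1
    by_contra hij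
    have e2 : S.ind (lam i) = S.ind (lam j) := congrArg Subtype.val e
    have h2 := hinner (lam i) (lam j)
    rw [if_neg fun h => hij ((hlam i j).1.mp h), if_neg (hlam i j).2, add_zero, e2, hinner,
      if_pos rfl, if_neg (hlam j j).2, add_zero] at h2
    exact one_ne_zero h2

include hta htb hinv in
/-- If the two-point stabiliser is inverted and the kernel is abelian, `2 d + 1 ≥ n`. -/
theorem false_of_large_index (hFab : IsMulCommutative S.F) (hodd : Odd (Nat.card S.H))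
    (hcyc : IsCyclic S.H) (hbig : 3 * Nat.card S.H ≤ Nat.card S.F - 1) : False := by
  classical
  obtain ⟨k, hk⟩ := hodd
  have hd1 := S.one_lt_H
  have hk1 : 1 ≤ k := by omega
  haveI := Fintype.ofFinite S.F
  haveI := Fintype.ofFinite S.H
  letI cgF : CommGroup S.F := S.commGroupF hFab
  haveI : NeZero (Monoid.exponent S.F : ℂ) := ⟨by exact_mod_cast Monoid.exponent_ne_zero_of_finite⟩
  haveI : Finite (S.F →* ℂˣ) := Nat.finite_of_card_ne_zero (by
    rw [CommGroup.card_monoidHom_of_hasEnoughRootsOfUnity]; exact Nat.card_pos.ne')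
  haveI := Fintype.ofFinite (S.F →* ℂˣ)
  have hHcomm := S.comm_H hta htb hinv
  set d := Nat.card S.H with hd
  set n := Nat.card S.F with hn
  -- orbits of the nontrivial linear characters
  let T := {ψ : S.F →* ℂˣ // ψ ≠ 1}
  have hcomp1 : ∀ h : S.H, ∀ ψ : S.F →* ℂˣ, ψ.comp (S.cF h) = 1 → ψ = 1 := fun h ψ e =>
    MonoidHom.ext fun u => by
      have := DFunLike.congr_fun e (S.cF h⁻¹ u)
      rwa [MonoidHom.comp_apply, S.cF_cF, mul_inv_cancel, S.cF_one] at this
  letI : MulAction S.H T :=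
    { smul := fun h ψ => ⟨ψ.1.comp (S.cF h), fun e => ψ.2 (hcomp1 h _ e)⟩
      one_smul := fun ψ => Subtype.ext (MonoidHom.ext fun u => by
        show ψ.1 (S.cF 1 u) = ψ.1 u; rw [S.cF_one])
      mul_smul := fun h h' ψ => Subtype.ext (MonoidHom.ext fun u => by
        show ψ.1 (S.cF (h * h') u) = ψ.1 (S.cF h' (S.cF h u))
        rw [S.cF_cF, hHcomm]) }
  have hsmul : ∀ (h : S.H) (ψ : T), (h • ψ).1 = ψ.1.comp (S.cF h) := fun _ _ => rfl
  have hstab : ∀ ψ : T, stabilizer S.H ψ = ⊥ := fun ψ => eq_bot_iff.mpr fun h hh =>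
    Subgroup.mem_bot.mpr (by_contra fun h1 => ψ.2 (S.eq_one_of_fixed_hom hFab h1
      (congrArg Subtype.val hh)))
  let J := orbitRel.Quotient S.H T
  letI := Fintype.ofFinite J
  have horb : ∀ ψ : T, Nat.card (orbit S.H ψ) = d := fun ψ => by
    have h := Nat.card_congr (orbitProdStabilizerEquivGroup S.H ψ)
    rwa [Nat.card_prod, hstab, Subgroup.card_bot, mul_one] at h
  have hcardT : Nat.card T = n - 1 := by
    rw [Nat.card_eq_fintype_card, Fintype.card_subtype_compl, Fintype.card_subtype_eq,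
      ← Nat.card_eq_fintype_card, CommGroup.card_monoidHom_of_hasEnoughRootsOfUnity]
  have hsd : Fintype.card J * d = n - 1 := by
    rw [← hcardT, Nat.card_congr (selfEquivSigmaOrbits S.H T), Nat.card_sigma]
    rw [Finset.sum_congr rfl fun q _ => horb q.out, Finset.sum_const, Finset.card_univ, smul_eq_mul]
  have hn2 := S.two_le_F
  have hs3 : 3 ≤ Fintype.card J :=
    Nat.le_of_mul_le_mul_right (hsd ▸ hbig) (by omega)
  let rep : J → T := fun j => j.out
  -- multiplicities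
  choose M hM using fun (χ : Cfsg.IrrCharacter G) (ψ : S.F →* ℂˣ) =>
    S.mult_nat (isCharacter_irr χ) ψ
  have hsum : ∀ ψ ψ' : S.F →* ℂˣ, ∑ χ, M χ ψ * M χ ψ' =
      d + (Finset.univ.filter fun h : S.H => ψ'.comp (S.cF h) = ψ).card := by
    intro ψ ψ'
    have h1 := S.sum_mult hFab ψ ψ'
    simp only [hM] at h1
    exact_mod_cast h1
  obtain ⟨W, hW, hW0, hW1, hW2⟩ := S.exists_principal hcyc hk hk1
    (fun l l' => S.ind_inner hta htb hinv l l')
  have hMW0 : ∀ ψ, M (W (Sum.inl false)) ψ = if ψ = 1 then 1 else 0 := fun ψ => by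
    have h := hW0 ψ
    rw [hM] at h
    split_ifs at h ⊢ <;> exact_mod_cast h
  have hMW1 : ∀ ψ, M (W (Sum.inl true)) ψ = 1 := fun ψ => by
    have h := hW1 ψ
    rw [hM] at h
    exact_mod_cast h
  have hMW2 : ∀ i ψ, M (W (Sum.inr i)) ψ = if ψ = 1 then 2 else 1 := fun i ψ => by
    have h := hW2 i ψ
    rw [hM] at h
    split_ifs at h ⊢ <;> exact_mod_cast h
  set R := Finset.univ.image W with hR
  have hsplit : ∀ f : Cfsg.IrrCharacter G → ℕ, ∑ χ, f χ = (f (W (Sum.inl true)) +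
      f (W (Sum.inl false)) + ∑ i, f (W (Sum.inr i))) + ∑ χ ∈ Rᶜ, f χ := by
    intro f
    rw [← Finset.sum_add_sum_compl R, hR, Finset.sum_image fun x _ y _ e => hW e,
      Fintype.sum_sum_type, Fintype.sum_bool]
  -- the other characters do not contain the trivial character of the kernel
  have hfix1 : (Finset.univ.filter fun h : S.H => (1 : S.F →* ℂˣ).comp (S.cF h) = 1).card = d := by
    rw [hd, Nat.card_eq_fintype_card, ← Finset.card_univ]
    exact congrArg Finset.card (Finset.filter_eq_self.mpr fun h _ => MonoidHom.ext fun u => rfl)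
  have hzero : ∀ χ ∈ Rᶜ, M χ 1 = 0 := by
    intro χ hχ
    have h1 := hsum 1 1
    rw [hfix1, hsplit, hMW1, hMW0, if_pos rfl] at h1
    simp only [hMW2, if_true, Finset.sum_const, Finset.card_univ, Fintype.card_fin, smul_eq_mul] at h1
    exact mul_self_eq_zero.mp (Finset.sum_eq_zero_iff.mp
      (show ∑ χ ∈ Rᶜ, M χ 1 * M χ 1 = 0 by omega) χ hχ)
  let X := {χ : Cfsg.IrrCharacter G // χ ∈ Rᶜ}
  letI : Fintype X := inferInstanceAs (Fintype ↥Rᶜ)
  choose deg hdeg0 hdeg using fun χ : Cfsg.IrrCharacter G => IsIrrCharacter.apply_one_eq χ.2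
  have hMorb : ∀ χ : Cfsg.IrrCharacter G, ∀ (h : S.H) (ψ : T), M χ (h • ψ).1 = M χ ψ.1 := by
    intro χ h ψ
    have h1 := S.mult_cF (IsIrrCharacter.isClassFunction χ.2) h ψ.1
    rw [hM, hM, ← hsmul] at h1
    exact_mod_cast h1
  have hdegsum : ∀ x : X, deg x.1 = d * ∑ j, M x.1 (rep j).1 := by
    intro x
    have h1 := S.apply_one_eq_sum hFab (x.1 : G → ℂ)
    rw [hdeg] at h1
    simp only [hM] at h1
    have h2 : deg x.1 = ∑ ψ, M x.1 ψ := by exact_mod_cast h1
    rw [h2, ← Finset.add_sum_erase _ _ (Finset.mem_univ 1), hzero _ x.2, zero_add, Finset.mul_sum,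
      Finset.sum_subtype (p := fun ψ => ψ ≠ 1) (Finset.univ.erase 1) (fun ψ => by simp) (fun ψ => M x.1 ψ)]
    rw [← (selfEquivSigmaOrbits S.H T).symm.sum_comp, Fintype.sum_sigma]
    refine Finset.sum_congr rfl fun j _ => ?_
    show ∑ y : orbit S.H (rep j), M x.1 (y : T).1 = _
    rw [Finset.sum_congr rfl (g := fun _ => M x.1 (rep j).1) fun y _ => ?_, Finset.sum_const,
      Finset.card_univ, ← Nat.card_eq_fintype_card, horb, smul_eq_mul]
    obtain ⟨y, h, rfl⟩ := y
    exact hMorb x.1 h _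
  have hgram : ∀ i j : J, ∑ x : X, M x.1 (rep i).1 * M x.1 (rep j).1 = if i = j then k + 1 else k := by
    intro i j
    have hcnt : (Finset.univ.filter fun h : S.H => (rep j).1.comp (S.cF h) = (rep i).1).card =
        if i = j then 1 else 0 := by
      split_ifs with hij
      · subst hij
        refine Finset.card_eq_one.mpr ⟨1, Finset.ext fun h => ?_⟩
        simp only [Finset.mem_filter, Finset.mem_univ, true_and, Finset.mem_singleton]
        refine ⟨fun e => by_contra fun h1 => (rep i).2 (S.eq_one_of_fixed_hom hFab h1 e), ?_⟩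
        rintro rfl
        exact MonoidHom.ext fun u => by rw [MonoidHom.comp_apply, S.cF_one]
      · rw [Finset.card_eq_zero, Finset.filter_eq_empty_iff]
        intro h _ e
        apply hij
        rw [← Quotient.out_eq i, ← Quotient.out_eq j]
        exact Quotient.sound ⟨h, Subtype.ext e⟩
    have h1 := hsum (rep i).1 (rep j).1
    rw [hcnt, hsplit, hMW1, hMW1, hMW0, if_neg (rep i).2] at h1
    simp only [hMW2, if_neg (rep i).2, if_neg (rep j).2, Finset.sum_const, Finset.card_univ,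
      Fintype.card_fin, smul_eq_mul] at h1
    have h2 : ∑ x : X, M x.1 (rep i).1 * M x.1 (rep j).1 =
        ∑ χ ∈ Rᶜ, M χ (rep i).1 * M χ (rep j).1 :=
      Finset.sum_coe_sort Rᶜ fun χ => M χ (rep i).1 * M χ (rep j).1
    rw [h2]
    split_ifs at h1 ⊢ <;> omega
  obtain ⟨hd3, hnf⟩ := coherent_numeric (fun (x : X) j => M x.1 (rep j).1) (fun x => deg x.1) hk hk1
    hs3 (show n = Fintype.card J * d + 1 by omega) hgram hdegsum (fun x => hdeg0 _) fun x => by
      obtain ⟨m, hm, hdvd⟩ : ∃ m : ℕ, (x.1 : G → ℂ) 1 = m ∧ m ∣ Nat.card G :=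
        IsIrrCharacter.apply_one_dvd_card x.1.2
      have : m = deg x.1 := by
        rw [hdeg] at hm
        exact_mod_cast hm.symm
      rw [this, S.card_G] at hdvd
      rwa [mul_assoc]
  -- the subgroup of the kernel of order `s - 1`
  set s := Fintype.card J
  set A := s - 1 with hA
  have hcop : Nat.Coprime A (2 * s - 1) := by
    rw [show 2 * s - 1 = 1 + 2 * A by omega]
    simp [Nat.coprime_add_mul_right_right]
  let P : Subgroup S.F := (powMonoidHom A).ker
  let R' : Subgroup S.F := (powMonoidHom A).range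
  have hPR : Nat.card P * Nat.card R' = n := by
    rw [show Nat.card R' = P.index from (Subgroup.index_ker _).symm, Subgroup.card_mul_index]
  have hP : Nat.card P ∣ A := by
    have hcp : (Nat.card P).Coprime (2 * s - 1) := by
      refine Nat.coprime_of_dvd fun p hp hpP hpB => ?_
      haveI := Fact.mk hp
      obtain ⟨u, hu⟩ := exists_prime_orderOf_dvd_card' (G := P) p hpP
      have h1 : orderOf u ∣ A := orderOf_dvd_of_pow_eq_one (Subtype.ext u.2)
      rw [hu] at h1
      exact hp.one_lt.ne' (Nat.eq_one_of_dvd_coprimes hcop h1 hpB)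
    refine hcp.dvd_of_dvd_mul_right ?_
    rw [← hnf]
    exact hPR ▸ Dvd.intro _ rfl
  have hR' : Nat.card R' ∣ 2 * s - 1 := by
    have hcp : (Nat.card R').Coprime A := by
      refine Nat.coprime_of_dvd fun p hp hpR hpA => ?_
      haveI := Fact.mk hp
      obtain ⟨u, hu⟩ := exists_prime_orderOf_dvd_card' (G := R') p hpR
      obtain ⟨v, hv⟩ := u.2
      have h1 : orderOf u ∣ 2 * s - 1 := by
        refine orderOf_dvd_of_pow_eq_one (Subtype.ext ?_)
        rw [SubmonoidClass.coe_pow, ← hv]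
        show (v ^ A) ^ (2 * s - 1) = 1
        rw [← pow_mul, ← hnf, hn]
        exact pow_card_eq_one'
      rw [hu] at h1
      exact hp.one_lt.ne' (Nat.eq_one_of_dvd_coprimes hcop hpA h1)
    refine hcp.dvd_of_dvd_mul_left ?_
    rw [← hnf]
    exact hPR ▸ Dvd.intro_left _ rfl
  have hPA : Nat.card P = A := by
    refine Nat.dvd_antisymm hP ?_
    obtain ⟨c, hc⟩ := hR'
    refine (Nat.mul_dvd_mul_iff_right (Nat.card_pos (α := R'))).mp ⟨1 * 1, ?_⟩ |>.trans dvd_rfl
    have h1 : Nat.card P ≤ A := Nat.le_of_dvd (by omega) hP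
    have h2 : Nat.card R' ≤ 2 * s - 1 := Nat.le_of_dvd (by omega) ⟨c, hc⟩
    have h3 : Nat.card P * Nat.card R' = A * (2 * s - 1) := by rw [hPR, hnf]
    have hR0 : 0 < Nat.card R' := Nat.card_pos
    have : A * Nat.card R' = Nat.card P * Nat.card R' := by nlinarith
    rw [this, mul_one, mul_one]
  -- it is invariant, so `d` divides `A - 1`
  have hdvd : d ∣ A - 1 := by
    let T' := {u : P // u ≠ 1}
    have hT' : Nat.card T' = A - 1 := by
      letI := Fintype.ofFinite P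
      rw [Nat.card_eq_fintype_card, Fintype.card_subtype_compl, Fintype.card_subtype_eq,
        ← Nat.card_eq_fintype_card, hPA]
    have hPc : ∀ (h : S.H) (u : P), S.cF h (u : S.F) ∈ P := fun h u => by
      show (S.cF h (u : S.F)) ^ A = 1
      rw [← map_pow, show (u : S.F) ^ A = 1 from u.2, map_one]
    letI : MulAction S.H T' :=
      { smul := fun h u => ⟨⟨_, hPc h u.1⟩, fun e => u.2 (Subtype.ext (Subtype.ext
          (conj_eq_one_iff.mp (congrArg (fun w : P => ((w : S.F) : G)) e))))⟩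
        one_smul := fun u => Subtype.ext (Subtype.ext (S.cF_one _))
        mul_smul := fun h h' u => Subtype.ext (Subtype.ext (S.cF_cF h h' _).symm) }
    have hst : ∀ u : T', stabilizer S.H u = ⊥ := fun u => eq_bot_iff.mpr fun h hh =>
      Subgroup.mem_bot.mpr (Subtype.ext (S.eq_one_of_conj_eq h.2 (u.1 : S.F).2
        (fun e => u.2 (Subtype.ext (Subtype.ext e)))
        (congrArg (fun w : T' => ((w.1 : S.F) : G)) hh)))
    letI := Fintype.ofFinite (orbitRel.Quotient S.H T')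
    rw [← hT', Nat.card_congr (selfEquivSigmaOrbits S.H T'), Nat.card_sigma]
    refine Finset.dvd_sum fun q _ => dvd_of_eq ?_
    have h := Nat.card_congr (orbitProdStabilizerEquivGroup S.H q.out)
    rw [Nat.card_prod, hst, Subgroup.card_bot, mul_one] at h
    exact h.symm
  have hle := Nat.le_of_dvd (show 0 < A - 1 by omega) hdvd
  omega

end Setup

end CfsgLib.Perm.ZGroup
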