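import Cfsg.Agent.Lib.Perm.ZGroup.Feit
import Cfsg.Agent.Lib.Perm.ZGroup.Index

/-!
# Zassenhaus groups with odd two-point stabiliser

The kernel is small, or it is a non-abelian `2`-group with a small commutator quotient.
-/

set_option autoImplicit false

open scoped commutatorElement

namespace CfsgLib.Perm.ZGroup

open MulAction

universe u v

variable {G : Type u} {Ω : Type v} [Group G] [Finite G] [MulAction G Ω] [Fintype Ω] {a b : Ω}

namespace Setup

variable (S : Setup G Ω a b)
include S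

/-- An element of the stabiliser outside the kernel fixes a second point. -/
theorem exists_fixed {g : G} (hga : g • a = a) (hgF : g ∉ S.F) : ∃ y, y ≠ a ∧ g • y = y := by
  obtain ⟨u, hu, h, hh, rfl⟩ := S.exists_mul hga
  have hh1 : h ≠ 1 := fun e => hgF (by rw [e, mul_one]; exact hu)
  let D : S.F → S.F := fun v => ⟨(v : G) * (h * (v : G)⁻¹ * h⁻¹),
    mul_mem v.2 (S.F_conj hh.1 (inv_mem v.2))⟩
  have hD : Function.Injective D := by
    intro v w e
    have e' : (v : G) * (h * (v : G)⁻¹ * h⁻¹) = (w : G) * (h * (w : G)⁻¹ * h⁻¹) :=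
      congrArg Subtype.val e
    by_contra hne
    refine hh1 (S.eq_one_of_conj_eq hh (u := (w : G)⁻¹ * v) (mul_mem (inv_mem w.2) v.2)
      (fun e1 => hne (Subtype.ext (inv_mul_eq_one.mp e1).symm)) ?_)
    have e2 : (w : G)⁻¹ * v * h * (v : G)⁻¹ = h * (w : G)⁻¹ := by
      have := congrArg (fun z => (w : G)⁻¹ * z * h) e'
      simpa [mul_assoc] using this
    rw [show h * ((w : G)⁻¹ * v) * h⁻¹ = h * (w : G)⁻¹ * v * h⁻¹ by group, ← e2]
    group
  obtain ⟨v, hv⟩ := (Finite.injective_iff_surjective.mp hD) ⟨u, hu⟩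
  have hv' : (v : G) * (h * (v : G)⁻¹ * h⁻¹) = u := congrArg Subtype.val hv
  refine ⟨(v : G) • b, S.F_smul_ne v v.2 S.hab.symm, ?_⟩
  rw [← hv', ← mul_smul, show (v : G) * (h * (v : G)⁻¹ * h⁻¹) * h * v = v * h by group,
    mul_smul, hh.2]

/-- A subgroup of the stabiliser of the same order as the kernel, fixing no second point, is the
kernel. -/
theorem F_eq_of_fix {K : Subgroup G} (hKa : K ≤ stabilizer G a)
    (hcard : Nat.card K = Nat.card S.F) (hfix : ∀ u ∈ K, u ≠ 1 → ∀ c : Ω, u • c = c → c = a) :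
    K = S.F := by
  refine Subgroup.eq_of_le_of_card_ge (fun g hg => ?_) hcard.ge
  by_contra hgF
  obtain ⟨y, hy, hgy⟩ := S.exists_fixed (hKa hg) hgF
  exact hy (hfix g hg (fun e => hgF (e ▸ one_mem _)) y hgy)

end Setup

/-- The kernel of a Zassenhaus group with odd two-point stabiliser. -/
theorem odd_kernel : ∀ (m : ℕ) {G : Type u} {Ω : Type v} [Group G] [Finite G] [MulAction G Ω]
    [Fintype Ω] {a b : Ω} (S : Setup G Ω a b), Nat.card S.H = m → Odd m →
    Nat.card S.F - 1 ≤ 2 * m ∨ (IsPGroup 2 S.F ∧ ¬ IsMulCommutative S.F ∧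
      (⁅S.F, S.F⁆).relIndex S.F ≤ 4 * m ^ 2 + 1) := by
  intro m
  induction m using Nat.strong_induction_on with
  | _ m IH =>
    intro G Ω _ _ _ _ a b S hm hodd
    classical
    by_cases hle : Nat.card S.F - 1 ≤ 2 * m
    · exact Or.inl hle
    refine Or.inr ?_
    obtain ⟨t, ht, hta, htb⟩ := S.exists_involution
    rcases S.odd_dichotomy (hm.symm ▸ hodd) ht hta htb with
      ⟨hinv, hcyc⟩ | ⟨q, hq, hq2, hqd, N, hN, -, hFN, hcard⟩
    · letI := Fintype.ofFinite G
      subst hm
      exact S.kernel_two_group hta htb hinv hcyc hodd (by omega)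
    rw [hm] at hcard hqd
    have h1 := S.normal_inf_ne_bot N hN hFN
    let S' := S.restrict N hN hFN h1
    let e : S'.F ≃* S.F := Subgroup.subgroupOfEquivOfLe hFN
    have hF' : Nat.card S'.F = Nat.card S.F := Nat.card_congr e.toEquiv
    set d₀ := Nat.card ↥(N ⊓ S.H : Subgroup G) with hd₀
    have hH' : Nat.card S'.H = d₀ := Nat.card_congr
      { toFun := fun g => ⟨((g : N) : G), (g : N).2, g.2⟩
        invFun := fun g => ⟨⟨(g : G), g.2.1⟩, g.2.2⟩
        left_inv := fun _ => rfl
        right_inv := fun _ => rfl }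
    have hd₀0 : 0 < d₀ := Nat.card_pos
    have hv : 1 ≤ m.factorization q :=
      (hq.dvd_iff_one_le_factorization (by rw [← hm]; exact Nat.card_pos.ne')).mp hqd
    have hlt : d₀ < m := by
      calc d₀ = d₀ * 1 := (mul_one _).symm
        _ < d₀ * q ^ m.factorization q :=
          Nat.mul_lt_mul_of_pos_left (Nat.one_lt_pow (by omega) hq.one_lt) hd₀0
        _ = m := hcard
    rcases IH d₀ hlt S' hH' (hodd.of_dvd_nat ⟨_, hcard.symm⟩) with h | ⟨h2, hab, hind⟩
    · rw [hF'] at h; omega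
    · refine ⟨h2.of_equiv e, fun hc => hab ⟨⟨fun x y => e.injective ?_⟩⟩, ?_⟩
      · rw [map_mul, map_mul]; exact hc.is_comm.comm _ _
      · have e1 : ⁅S'.F, S'.F⁆.map N.subtype = ⁅S.F, S.F⁆ := by
          rw [Subgroup.map_commutator]
          show ⁅(S.F.subgroupOf N).map N.subtype, (S.F.subgroupOf N).map N.subtype⁆ = _
          rw [Subgroup.map_subgroupOf_eq_of_le hFN]
        have e2 : S'.F.map N.subtype = S.F := Subgroup.map_subgroupOf_eq_of_le hFN
        rw [← e1, ← e2, Subgroup.relIndex_map_map_of_injective _ _ N.subtype_injective]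
        have : d₀ ^ 2 ≤ m ^ 2 := Nat.pow_le_pow_left hlt.le 2
        omega

end CfsgLib.Perm.ZGroup
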