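import Cfsg.Agent.Lib.Perm.ZGroup.Count
import Cfsg.Agent.Lib.Perm.ZGroup.Cubic
import Cfsg.Agent.S1139
import Cfsg.Prelude.Def_Exceptional

/-!
# Simple Zassenhaus groups with non-abelian `2`-kernel have the orders of Suzuki groups
-/

set_option autoImplicit false

namespace CfsgLib.Perm.ZGroup

open MulAction

universe u v

variable {G : Type u} {Ω : Type v} [Group G] [Finite G] [MulAction G Ω] [Fintype Ω] {a b : Ω}

namespace Setup

variable {S : Setup G Ω a b}

namespace IsTwoKernel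

variable (hT : S.IsTwoKernel) [IsSimpleGroup G]
include hT

/-- The orders of the centre, the kernel and the two-point stabiliser. -/
theorem suzuki_params : ∃ m : ℕ, Odd m ∧ 1 < m ∧ Nat.card S.H + 1 = 2 ^ m ∧
    Nat.card S.F = (2 ^ m) ^ 2 := by
  obtain ⟨m, hm, hq, h | h⟩ := hT.exists_q
  · exact ⟨m, hT.odd_log hq hm h, by omega, hq, h⟩
  · exact (hT.not_cube hm hq h).elim

theorem isSuzuki : Cfsg.IsSuzuki G := by
  obtain ⟨m, ⟨j, rfl⟩, hm, hq, hF⟩ := hT.suzuki_params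
  refine ⟨inferInstance, j, by omega, ?_⟩
  rw [S.card_G, hF, ← hq, Nat.add_sub_cancel]
  ring

/-- The kernel is a Suzuki 2-group. -/
theorem isSuzukiTwoGroup : Cfsg.IsSuzukiTwoGroup S.F := by
  haveI := hT.isCyclic_H'
  refine ⟨inferInstance, hT.two, hT.exists_noncomm, hT.exists_two, S.conjF.range, ?_, ?_⟩
  · exact isCyclic_of_surjective S.conjF.rangeRestrict S.conjF.rangeRestrict_surjective
  · intro x y hx1 hx hy1 hy
    obtain ⟨h, hh⟩ := hT.trans x y hx1 hx hy1 hy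
    refine ⟨⟨S.conjF h, h, rfl⟩, hh, ?_⟩
    rintro ⟨_, k, rfl⟩ hk
    refine Subtype.ext ?_
    show S.conjF k = S.conjF h
    congr 1
    refine (inv_mul_eq_one.mp (Subtype.ext ?_ : h⁻¹ * k = 1)).symm
    refine S.eq_one_of_conj_eq (h⁻¹ * k).2 x.2 (fun e1 => hx1 (Subtype.ext e1))
      (congrArg Subtype.val (show S.conjF (h⁻¹ * k) x = x from ?_))
    have hk' : S.conjF k x = y := hk
    rw [map_mul, MulAut.mul_apply, hk', ← hh, ← MulAut.mul_apply, ← map_mul, inv_mul_cancel,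
      map_one, MulAut.one_apply]

/-- The kernel is of type A. -/
theorem typeA {m : ℕ} (hq : Nat.card S.H + 1 = 2 ^ m) (hF : Nat.card S.F = (2 ^ m) ^ 2) :
    ∃ (F : Type) (_ : Field F) (_ : Fintype F) (φ : F ≃+* F), Fintype.card F = 2 ^ m ∧
      Nonempty (S.F ≃* Cfsg.suzukiTypeA F (φ : F →+* F)) := by
  have hc : Nat.card (Subgroup.center S.F) = 2 ^ m := by rw [hT.card_center, hq]
  obtain ⟨F, iF, iFt, φ, hFc, -, -, hiso⟩ :=
    Cfsg.Agent.S1139.result hT.isSuzukiTwoGroup (by rw [hc, hF])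
  exact ⟨F, iF, iFt, φ, hFc.trans hc, hiso⟩

end IsTwoKernel

end Setup

end CfsgLib.Perm.ZGroup
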