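import Cfsg.Agent.Lib.Perm.ZGroup.TwoKernel

/-!
# Elements without fixed points of a simple Zassenhaus group with non-abelian `2`-kernel

Such an element has a centraliser of odd order; if an involution inverts it, the centraliser is
an abelian trivial intersection Hall subgroup, inverted by the involution, of index at most four
in its normaliser when the kernel has order `q ^ 2`.
-/

set_option autoImplicit false

namespace CfsgLib.Perm.ZGroup

open MulAction CfsgLib.RankOne CfsgLib.Solvable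

universe u v

variable {G : Type u} {Ω : Type v} [Group G] [Finite G] [MulAction G Ω] [Fintype Ω] {a b : Ω}

/-- An element of odd order whose square fixes a point fixes the point. -/
theorem smul_eq_of_sq_of_odd {G Ω : Type*} [Group G] [MulAction G Ω] {x : G}
    (hx : Odd (orderOf x)) {c : Ω} (h : x • x • c = c) : x • c = c := by
  obtain ⟨k, hk⟩ := hx
  have h2 : x * x ∈ stabilizer G c := by
    rw [mem_stabilizer_iff, mul_smul]; exact h
  have h3 : x ∈ stabilizer G c := by
    have h4 : x = ((x * x) ^ k)⁻¹ := by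
      refine eq_inv_of_mul_eq_one_left ?_
      rw [← pow_two, ← pow_mul, ← pow_succ', ← hk, pow_orderOf_eq_one]
    rw [h4]
    exact inv_mem (pow_mem h2 k)
  exact h3

/-- A group acting without fixed elements has order dividing that of the set. -/
theorem card_dvd_of_free {R T : Type*} [Group R] [Finite R] [Finite T] [MulAction R T]
    (h : ∀ (r : R) (x : T), r • x = x → r = 1) : Nat.card R ∣ Nat.card T := by
  classical
  letI := Fintype.ofFinite T
  haveI : Finite (orbitRel.Quotient R T) := Quotient.finite _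
  letI := Fintype.ofFinite (orbitRel.Quotient R T)
  rw [Nat.card_congr (selfEquivSigmaOrbits R T), Nat.card_sigma]
  refine Finset.dvd_sum fun q _ => dvd_of_eq ?_
  have h1 := Nat.card_congr (orbitProdStabilizerEquivGroup R q.out)
  rw [Nat.card_prod, show stabilizer R q.out = ⊥ from
    (Subgroup.eq_bot_iff_forall _).mpr fun r hr => h r _ hr, Subgroup.card_bot, mul_one] at h1
  exact h1.symm

/-- An element moving every point that is inverted by an involution. -/
structure IsSR (Ω : Type*) {G : Type*} [Group G] [MulAction G Ω] (x : G) : Prop where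
  fpf : ∀ c : Ω, x • c ≠ c
  inv : ∃ s : G, orderOf s = 2 ∧ s * x * s⁻¹ = x⁻¹

omit [Finite G] [Fintype Ω] in
theorem IsSR.ne_one {x : G} (h : IsSR Ω x) (c : Ω) : x ≠ 1 := fun e => h.fpf c (by rw [e, one_smul])

omit [Finite G] [Fintype Ω] in
theorem fpf_conj {x : G} (hx : ∀ c : Ω, x • c ≠ c) (g : G) (c : Ω) :
    (g * x * g⁻¹) • c ≠ c := fun h => hx (g⁻¹ • c) (by
  rw [mul_smul, mul_smul, ← eq_inv_smul_iff] at h
  exact h)

omit [Finite G] [Fintype Ω] in
theorem IsSR.conj {x : G} (h : IsSR Ω x) (g : G) : IsSR Ω (g * x * g⁻¹) := by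
  obtain ⟨s, hs, he⟩ := h.inv
  refine ⟨fpf_conj h.fpf g, g * s * g⁻¹, ?_, ?_⟩
  · rw [← MulAut.conj_apply, MulEquiv.orderOf_eq, hs]
  · calc g * s * g⁻¹ * (g * x * g⁻¹) * (g * s * g⁻¹)⁻¹ = g * (s * x * s⁻¹) * g⁻¹ := by group
      _ = _ := by rw [he]; group

namespace Setup

variable {S : Setup G Ω a b}

namespace IsTwoKernel

variable (hT : S.IsTwoKernel) [IsSimpleGroup G]
include hT

theorem exists_to_a (c : Ω) : ∃ g : G, g • c = a := by
  haveI := S.isPretransitive
  exact exists_smul_eq G c a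

/-- The centraliser of an element without fixed points has odd order. -/
theorem odd_centralizer {x : G} (hx : ∀ c : Ω, x • c ≠ c) :
    Odd (Nat.card (Subgroup.centralizer ({x} : Set G))) := by
  haveI : Fact (Nat.Prime 2) := ⟨Nat.prime_two⟩
  rw [Nat.odd_iff]
  by_contra h
  obtain ⟨⟨s, hs⟩, ho⟩ := exists_prime_orderOf_dvd_card'
    (G := Subgroup.centralizer ({x} : Set G)) 2 (by omega)
  rw [Subgroup.orderOf_mk] at ho
  obtain ⟨c, hc, huniq⟩ := hT.invol_unique ho
  refine hx c (huniq _ ?_)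
  rw [← mul_smul, Subgroup.mem_centralizer_singleton_iff.mp hs, mul_smul, hc]

theorem odd_order_of_fpf {x : G} (hx : ∀ c : Ω, x • c ≠ c) : Odd (orderOf x) :=
  (hT.odd_centralizer hx).of_dvd_nat
    (Subgroup.orderOf_dvd_natCard _ (Subgroup.mem_centralizer_singleton_iff.mpr rfl))

/-- The centraliser of an involution is a `2`-group. -/
theorem eq_one_of_commute {s y : G} (hs : orderOf s = 2) (hc : y * s = s * y)
    (hy : Odd (orderOf y)) : y = 1 := by
  haveI : Fact (Nat.Prime 2) := ⟨Nat.prime_two⟩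
  obtain ⟨c, hcs, -⟩ := hT.invol_unique hs
  obtain ⟨g, hg⟩ := hT.exists_to_a c
  have hos : orderOf (g * s * g⁻¹) = 2 := by rw [← MulAut.conj_apply, MulEquiv.orderOf_eq, hs]
  have hsF : g * s * g⁻¹ ∈ S.F := hT.invol_mem_F hos (by
    rw [← hg, mul_smul, mul_smul, inv_smul_smul, hcs])
  have hyF : g * y * g⁻¹ ∈ S.F := by
    rw [← hT.centralizer_invol hos hsF, Subgroup.mem_centralizer_singleton_iff]
    calc g * y * g⁻¹ * (g * s * g⁻¹) = g * (y * s) * g⁻¹ := by group
      _ = g * (s * y) * g⁻¹ := by rw [hc]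
      _ = g * s * g⁻¹ * (g * y * g⁻¹) := by group
  obtain ⟨k, hk⟩ := hT.two ⟨_, hyF⟩
  have hd : orderOf (g * y * g⁻¹) ∣ 2 ^ k :=
    orderOf_dvd_of_pow_eq_one (congrArg Subtype.val hk)
  rw [← MulAut.conj_apply, MulEquiv.orderOf_eq] at hd
  exact orderOf_eq_one_iff.mp (Nat.Coprime.eq_one_of_dvd
    ((Nat.coprime_two_right.mpr hy).pow_right k) hd)

/-- An inverting involution inverts the whole centraliser. -/
theorem inverts_centralizer {x s : G} (hx : ∀ c : Ω, x • c ≠ c) (hs : orderOf s = 2)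
    (he : s * x * s⁻¹ = x⁻¹) :
    ∀ y ∈ Subgroup.centralizer ({x} : Set G), s * y * s⁻¹ = y⁻¹ := by
  set A := Subgroup.centralizer ({x} : Set G)
  have hss : s * s = 1 := by rw [← pow_two, ← hs, pow_orderOf_eq_one]
  have hn : ∀ y ∈ A, s * y * s⁻¹ ∈ A := by
    intro y hy
    rw [Subgroup.mem_centralizer_singleton_iff] at hy ⊢
    have hx' : x = s * x⁻¹ * s⁻¹ := by
      rw [← he]
      calc x = (s * s) * x * (s * s)⁻¹ := by rw [hss]; group
        _ = _ := by group
    calc s * y * s⁻¹ * x = s * y * s⁻¹ * (s * x⁻¹ * s⁻¹) := by rw [← hx']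
      _ = s * (y * x⁻¹) * s⁻¹ := by group
      _ = s * (x⁻¹ * y) * s⁻¹ := by rw [(Commute.inv_right (show Commute y x from hy)).eq]
      _ = (s * x⁻¹ * s⁻¹) * (s * y * s⁻¹) := by group
      _ = _ := by rw [← hx']
  let f : A →* A := MonoidHom.mk' (fun y => ⟨s * y.1 * s⁻¹, hn y.1 y.2⟩) fun y z =>
    Subtype.ext (show s * (y.1 * z.1) * s⁻¹ = s * y.1 * s⁻¹ * (s * z.1 * s⁻¹) by group)
  have hfpf : MonoidHom.FixedPointFree f := fun y hy => by
    have e : s * y.1 * s⁻¹ = y.1 := congrArg Subtype.val hy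
    exact Subtype.ext (hT.eq_one_of_commute hs (mul_inv_eq_iff_eq_mul.mp e).symm
      ((hT.odd_centralizer hx).of_dvd_nat (A.orderOf_dvd_natCard y.2)))
  have hinv : Function.Involutive f := fun y => Subtype.ext (by
    show s * (s * y.1 * s⁻¹) * s⁻¹ = y.1
    calc s * (s * y.1 * s⁻¹) * s⁻¹ = (s * s) * y.1 * (s * s)⁻¹ := by group
      _ = y.1 := by rw [hss]; group)
  intro y hy
  exact congrArg Subtype.val (congrFun (hfpf.coe_eq_inv_of_involutive hinv) ⟨y, hy⟩)

theorem comm_centralizer {x : G} (hx : IsSR Ω x) {y z : G}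
    (hy : y ∈ Subgroup.centralizer ({x} : Set G)) (hz : z ∈ Subgroup.centralizer ({x} : Set G)) :
    y * z = z * y := by
  obtain ⟨s, hs, he⟩ := hx.inv
  have h := hT.inverts_centralizer hx.fpf hs he
  have e : (y * z)⁻¹ = y⁻¹ * z⁻¹ := by
    rw [← h _ (mul_mem hy hz), ← h _ hy, ← h _ hz]; group
  rw [mul_inv_rev] at e
  calc y * z = (z⁻¹ * y⁻¹)⁻¹ := by group
    _ = (y⁻¹ * z⁻¹)⁻¹ := by rw [e]
    _ = z * y := by group

/-- The nontrivial elements of the centraliser are of the same kind and have the same centraliser. -/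
theorem centralizer_eq {x y : G} (hx : IsSR Ω x) (hy : y ∈ Subgroup.centralizer ({x} : Set G))
    (hy1 : y ≠ 1) :
    IsSR Ω y ∧ Subgroup.centralizer ({y} : Set G) = Subgroup.centralizer ({x} : Set G) := by
  haveI := S.hZ.1
  have hc : x * y = y * x := (Subgroup.mem_centralizer_singleton_iff.mp hy).symm
  have hxo := hT.odd_order_of_fpf hx.fpf
  have hy_fpf : ∀ c : Ω, y • c ≠ c := by
    intro c hyc
    have h1 : y • (x • c) = x • c := by rw [← mul_smul, ← hc, mul_smul, hyc]
    have h2 : y • (x • x • c) = x • x • c := by rw [← mul_smul, ← hc, mul_smul, h1]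
    refine hy1 (S.free (hx.fpf c).symm (fun e => hx.fpf c (smul_eq_of_sq_of_odd hxo e.symm))
      (fun e => hx.fpf c (smul_left_cancel x e.symm)) hyc h1 h2)
  obtain ⟨s, hs, he⟩ := hx.inv
  have hySR : IsSR Ω y := ⟨hy_fpf, s, hs, hT.inverts_centralizer hx.fpf hs he y hy⟩
  refine ⟨hySR, le_antisymm (fun z hz => ?_) fun z hz => ?_⟩
  · rw [Subgroup.mem_centralizer_singleton_iff]
    exact hT.comm_centralizer hySR hz (Subgroup.mem_centralizer_singleton_iff.mpr hc)
  · rw [Subgroup.mem_centralizer_singleton_iff]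
    exact hT.comm_centralizer hx hz hy

/-- The inverting involutions form a coset of the centraliser. -/
theorem card_inverters {x : G} (hx : IsSR Ω x) :
    Nat.card {t : G // orderOf t = 2 ∧ t * x * t⁻¹ = x⁻¹} =
      Nat.card (Subgroup.centralizer ({x} : Set G)) := by
  obtain ⟨s, hs, he⟩ := hx.inv
  have hss : s * s = 1 := by rw [← pow_two, ← hs, pow_orderOf_eq_one]
  have hsi : s⁻¹ = s := inv_eq_of_mul_eq_one_right hss
  have hinv := hT.inverts_centralizer hx.fpf hs he
  symm
  refine Nat.card_congr (Equiv.ofBijective (fun y => ⟨(y : G) * s, ?_, ?_⟩) ⟨?_, ?_⟩)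
  · refine orderOf_eq_prime ?_ fun e => ?_
    · have h := hinv y y.2
      rw [hsi] at h
      rw [pow_two]
      calc (y : G) * s * (y * s) = y * (s * y * s) := by group
        _ = 1 := by rw [h]; group
    · have h := hT.odd_centralizer hx.fpf
      have h2 : orderOf (y : G) ∣ _ := Subgroup.orderOf_dvd_natCard _ y.2
      have : (y : G) = s⁻¹ := eq_inv_of_mul_eq_one_left e
      rw [this, hsi, hs] at h2
      exact Nat.not_even_iff_odd.mpr h (even_iff_two_dvd.mpr h2)
  · have hyx := Subgroup.mem_centralizer_singleton_iff.mp y.2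
    calc (y : G) * s * x * ((y : G) * s)⁻¹ = y * (s * x * s⁻¹) * (y : G)⁻¹ := by group
      _ = y * x⁻¹ * (y : G)⁻¹ := by rw [he]
      _ = x⁻¹ := by
        rw [(Commute.inv_right (show Commute (y : G) x from hyx)).eq, mul_inv_cancel_right]
  · intro y z e
    exact Subtype.ext (mul_right_cancel (congrArg Subtype.val e))
  · rintro ⟨t, ht, hte⟩
    refine ⟨⟨t * s, Subgroup.mem_centralizer_singleton_iff.mpr ?_⟩, Subtype.ext ?_⟩
    · have h2 : t * x⁻¹ * t⁻¹ = x := by
        calc t * x⁻¹ * t⁻¹ = (t * x * t⁻¹)⁻¹ := by group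
          _ = x := by rw [hte, inv_inv]
      calc t * s * x = t * (s * x * s⁻¹) * t⁻¹ * (t * s) := by group
        _ = x * (t * s) := by rw [he, h2]
    · show t * s * s = t
      rw [mul_assoc, hss, mul_one]

/-- An involution normalising the centraliser and inverting it. -/
theorem invol_normalizer {x w : G} (hx : IsSR Ω x) (hw : orderOf w = 2)
    (hn : w ∈ Subgroup.normalizer (Subgroup.centralizer ({x} : Set G) : Set G)) :
    w * x * w⁻¹ = x⁻¹ := by
  set A := Subgroup.centralizer ({x} : Set G)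
  have hxA : x ∈ A := Subgroup.mem_centralizer_singleton_iff.mpr rfl
  have hwn : ∀ y ∈ A, w * y * w⁻¹ ∈ A := fun y hy => (Subgroup.mem_normalizer_iff.mp hn y).mp hy
  let f : A →* A := MonoidHom.mk' (fun y => ⟨w * y.1 * w⁻¹, hwn y.1 y.2⟩) fun y z =>
    Subtype.ext (show w * (y.1 * z.1) * w⁻¹ = w * y.1 * w⁻¹ * (w * z.1 * w⁻¹) by group)
  have hfpf : MonoidHom.FixedPointFree f := fun y hy => by
    have e : w * y.1 * w⁻¹ = y.1 := congrArg Subtype.val hy
    exact Subtype.ext (hT.eq_one_of_commute hw (mul_inv_eq_iff_eq_mul.mp e).symm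
      ((hT.odd_centralizer hx.fpf).of_dvd_nat (A.orderOf_dvd_natCard y.2)))
  have hww : w * w = 1 := by rw [← pow_two, ← hw, pow_orderOf_eq_one]
  have hinv : Function.Involutive f := fun y => Subtype.ext (by
    show w * (w * y.1 * w⁻¹) * w⁻¹ = y.1
    calc w * (w * y.1 * w⁻¹) * w⁻¹ = (w * w) * y.1 * (w * w)⁻¹ := by group
      _ = y.1 := by rw [hww]; group)
  exact congrArg Subtype.val (congrFun (hfpf.coe_eq_inv_of_involutive hinv) ⟨x, hxA⟩)

/-- When the kernel has order `q ^ 2` squaring is injective modulo the centre. -/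
theorem sq_inj (hsq : Nat.card S.F = (Nat.card S.H + 1) ^ 2) {u v : S.F}
    (h : u * u = v * v) : u⁻¹ * v ∈ Subgroup.center S.F := by
  classical
  set Z := Subgroup.center S.F with hZ
  have hidx : Z.index = Nat.card Z := by
    have h1 := Z.card_mul_index
    rw [hsq, ← hT.card_center, ← hZ, pow_two] at h1
    exact Nat.eq_of_mul_eq_mul_left Nat.card_pos h1
  let f : S.F ⧸ Z → Z := Quotient.lift (fun u => (⟨u * u, hT.sq_center u⟩ : Z)) (by
    intro u v huv
    have hz : u⁻¹ * v ∈ Z := QuotientGroup.leftRel_apply.mp huv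
    refine Subtype.ext ?_
    obtain ⟨z, hz', rfl⟩ : ∃ z ∈ Z, v = u * z := ⟨u⁻¹ * v, hz, by group⟩
    show u * u = u * z * (u * z)
    calc u * u = u * u * (z * z) := by rw [hT.mem_center_F.mp hz', mul_one]
      _ = u * (u * z) * z := by group
      _ = u * (z * u) * z := by rw [Subgroup.mem_center_iff.mp hz' u]
      _ = _ := by group)
  have hsurj : Function.Surjective f := by
    rintro ⟨z, hz⟩
    by_cases hz1 : z = 1
    · subst hz1
      exact ⟨((1 : S.F) : S.F ⧸ Z), Subtype.ext (mul_one _)⟩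
    · obtain ⟨u, hu⟩ := hT.exists_sqrt' hz1 (hT.mem_center_F.mp hz)
      exact ⟨(u : S.F ⧸ Z), Subtype.ext hu⟩
  have hinj := ((Nat.bijective_iff_surjective_and_card f).mpr ⟨hsurj, hidx⟩).1
  exact QuotientGroup.eq.mp (hinj (show f (u : S.F ⧸ Z) = f (v : S.F ⧸ Z) from Subtype.ext h))

/-- The normaliser of the centraliser has index two or four over it. -/
theorem card_normalizer (hsq : Nat.card S.F = (Nat.card S.H + 1) ^ 2) {x : G} (hx : IsSR Ω x) :
    ∃ l : ℕ, (l = 2 ∨ l = 4) ∧ l ∣ Nat.card (Subgroup.centralizer ({x} : Set G)) - 1 ∧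
      Nat.card (Subgroup.normalizer (Subgroup.centralizer ({x} : Set G) : Set G)) =
        Nat.card (Subgroup.centralizer ({x} : Set G)) * l := by
  classical
  haveI : Fact (Nat.Prime 2) := ⟨Nat.prime_two⟩
  set A := Subgroup.centralizer ({x} : Set G) with hA
  set N := Subgroup.normalizer (A : Set G) with hN
  obtain ⟨s, hs, he⟩ := hx.inv
  have hAodd := hT.odd_centralizer hx.fpf
  have hxA : x ∈ A := Subgroup.mem_centralizer_singleton_iff.mpr rfl
  have hinv := hT.inverts_centralizer hx.fpf hs he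
  have hss : s * s = 1 := by rw [← pow_two, ← hs, pow_orderOf_eq_one]
  set R := N ⊓ Subgroup.centralizer ({s} : Set G) with hR
  have hAN : A ≤ N := Subgroup.le_normalizer
  have hsN : s ∈ N := by
    rw [hN, Subgroup.mem_normalizer_iff]
    intro y
    refine ⟨fun hy => by rw [hinv y hy]; exact inv_mem hy, fun hy => ?_⟩
    have := hinv _ hy
    rw [show s * (s * y * s⁻¹) * s⁻¹ = (s * s) * y * (s * s)⁻¹ by group, hss] at this
    simp only [one_mul, inv_one, mul_one] at this
    rw [this]; exact inv_mem hy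
  have hsR : s ∈ R := ⟨hsN, Subgroup.mem_centralizer_singleton_iff.mpr rfl⟩
  have hAR : ∀ y ∈ A, y ∈ R → y = 1 := fun y hy hyR => hT.eq_one_of_commute hs
    (Subgroup.mem_centralizer_singleton_iff.mp hyR.2)
    (hAodd.of_dvd_nat (A.orderOf_dvd_natCard hy))
  -- the product decomposition
  have hcard : Nat.card N = Nat.card A * Nat.card R := by
    rw [← Nat.card_prod]
    refine (Nat.card_congr (Equiv.ofBijective (fun p : A × R =>
      (⟨(p.1 : G) * p.2, mul_mem (hAN p.1.2) p.2.2.1⟩ : N)) ⟨?_, ?_⟩)).symm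
    · intro p p' e
      have e' : (p.1 : G) * p.2 = p'.1 * p'.2 := congrArg Subtype.val e
      have h1 : (p'.1 : G)⁻¹ * p.1 = p'.2 * (p.2 : G)⁻¹ := by
        rw [eq_mul_inv_iff_mul_eq, mul_assoc, e', inv_mul_cancel_left]
      have h2 : (p'.1 : G)⁻¹ * p.1 = 1 := hAR _ (mul_mem (inv_mem p'.1.2) p.1.2)
        (h1 ▸ mul_mem p'.2.2 (inv_mem p.2.2))
      have h3 : (p'.1 : G) = p.1 := inv_mul_eq_one.mp h2
      rw [h3, mul_right_inj] at e'
      exact Prod.ext (Subtype.ext h3.symm) (Subtype.ext e')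
    · rintro ⟨g, hg⟩
      have hxg : g⁻¹ * x * g⁻¹⁻¹ ∈ A := (Subgroup.mem_normalizer_iff.mp (inv_mem hg) x).mp hxA
      have hge : (g * s * g⁻¹) * x * (g * s * g⁻¹)⁻¹ = x⁻¹ := by
        calc _ = g * (s * (g⁻¹ * x * g⁻¹⁻¹) * s⁻¹) * g⁻¹ := by group
          _ = x⁻¹ := by rw [hinv _ hxg]; group
      have hw : g * s * g⁻¹ * s⁻¹ ∈ A := by
        rw [Subgroup.mem_centralizer_singleton_iff]
        have h2 : g * s * g⁻¹ * x⁻¹ * (g * s * g⁻¹)⁻¹ = x := by
          calc _ = ((g * s * g⁻¹) * x * (g * s * g⁻¹)⁻¹)⁻¹ := by group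
            _ = x := by rw [hge, inv_inv]
        have h3 : s⁻¹ * x * s = x⁻¹ := by
          rw [inv_eq_of_mul_eq_one_right hss]
          have := he; rw [inv_eq_of_mul_eq_one_right hss] at this; exact this
        calc g * s * g⁻¹ * s⁻¹ * x = g * s * g⁻¹ * (s⁻¹ * x * s) * (g * s * g⁻¹)⁻¹ * (g * s * g⁻¹ * s⁻¹) := by
              group
          _ = x * (g * s * g⁻¹ * s⁻¹) := by rw [h3, h2]
      obtain ⟨y, hy⟩ := (powCoprime (Nat.coprime_two_right.mpr hAodd)).surjective ⟨_, hw⟩
      have hy' : (y : G) ^ 2 = g * s * g⁻¹ * s⁻¹ := congrArg Subtype.val hy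
      have hys : (y : G) * s * (y : G)⁻¹ = g * s * g⁻¹ := by
        have h1 := hinv y y.2
        calc (y : G) * s * (y : G)⁻¹ = y * s * (s * y * s⁻¹) := by rw [h1]
          _ = y * (s * s) * y * s⁻¹ := by group
          _ = (y : G) ^ 2 * s := by
            rw [hss, mul_one, inv_eq_of_mul_eq_one_right hss, pow_two]
          _ = g * s * g⁻¹ := by rw [hy']; group
      refine ⟨(y, ⟨(y : G)⁻¹ * g, N.mul_mem (N.inv_mem (hAN y.2)) hg, ?_⟩),
        Subtype.ext (mul_inv_cancel_left _ _)⟩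
      show (y : G)⁻¹ * g ∈ Subgroup.centralizer ({s} : Set G)
      rw [Subgroup.mem_centralizer_singleton_iff]
      calc (y : G)⁻¹ * g * s = (y : G)⁻¹ * (g * s * g⁻¹) * g := by group
        _ = (y : G)⁻¹ * ((y : G) * s * (y : G)⁻¹) * g := by rw [hys]
        _ = s * ((y : G)⁻¹ * g) := by group
  -- the complement is small
  have hRinv : ∀ w ∈ R, orderOf w = 2 → w = s := by
    intro w hw hwo
    have h1 := hT.invol_normalizer hx hwo hw.1
    have hww : w * w = 1 := by rw [← pow_two, ← hwo, pow_orderOf_eq_one]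
    have hmem : w * s ∈ A := by
      rw [Subgroup.mem_centralizer_singleton_iff]
      have h2 : w * x⁻¹ * w⁻¹ = x := by
        calc _ = (w * x * w⁻¹)⁻¹ := by group
          _ = x := by rw [h1, inv_inv]
      calc w * s * x = w * (s * x * s⁻¹) * w⁻¹ * (w * s) := by group
        _ = x * (w * s) := by rw [he, h2]
    have h3 := hAR _ hmem (mul_mem hw hsR)
    calc w = w * s * s⁻¹ := by group
      _ = s := by rw [h3, one_mul, inv_eq_of_mul_eq_one_right hss]
  obtain ⟨c, hcs, -⟩ := hT.invol_unique hs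
  obtain ⟨g, hg⟩ := hT.exists_to_a c
  have hos : orderOf (g * s * g⁻¹) = 2 := by rw [← MulAut.conj_apply, MulEquiv.orderOf_eq, hs]
  have hsF : g * s * g⁻¹ ∈ S.F := hT.invol_mem_F hos (by
    rw [← hg, mul_smul, mul_smul, inv_smul_smul, hcs])
  have hRF : ∀ r ∈ R, g * r * g⁻¹ ∈ S.F := by
    intro r hr
    rw [← hT.centralizer_invol hos hsF, Subgroup.mem_centralizer_singleton_iff]
    have hrs := Subgroup.mem_centralizer_singleton_iff.mp hr.2
    calc g * r * g⁻¹ * (g * s * g⁻¹) = g * (r * s) * g⁻¹ := by group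
      _ = g * (s * r) * g⁻¹ := by rw [hrs]
      _ = g * s * g⁻¹ * (g * r * g⁻¹) := by group
  let ι : R →* S.F := MonoidHom.mk' (fun r => ⟨g * (r : G) * g⁻¹, hRF r r.2⟩) fun r r' =>
    Subtype.ext (show g * ((r : G) * r') * g⁻¹ = g * r * g⁻¹ * (g * r' * g⁻¹) by group)
  have hι : Function.Injective ι := fun r r' e => Subtype.ext (mul_left_cancel
    (mul_right_cancel (congrArg Subtype.val e)))
  have hcent : ∀ r : R, ι r ∈ Subgroup.center S.F → r = 1 ∨ (r : G) = s := by
    intro r hr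
    by_cases hr1 : r = 1
    · exact Or.inl hr1
    refine Or.inr (hRinv r r.2 ?_)
    have h2 : r * r = 1 := hι (by rw [map_mul, map_one]; exact hT.mem_center_F.mp hr)
    rw [Subgroup.orderOf_coe]
    exact orderOf_eq_prime (by rw [pow_two]; exact h2) hr1
  have hle : Nat.card R ≤ 4 := by
    by_cases hu : ∀ r : R, ι r ∈ Subgroup.center S.F
    · refine le_trans ?_ (show 2 ≤ 4 by norm_num)
      rw [← Nat.card_fin 2]
      refine Nat.card_le_card_of_surjective (fun i : Fin 2 => if i = 0 then 1 else ⟨s, hsR⟩) fun r => ?_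
      rcases hcent r (hu r) with h | h
      · exact ⟨0, h.symm⟩
      · exact ⟨1, Subtype.ext (by simp [h])⟩
    · push Not at hu
      obtain ⟨r₁, hr₁⟩ := hu
      rw [← Nat.card_fin 4]
      refine Nat.card_le_card_of_surjective
        (fun i : Fin 4 => ![1, ⟨s, hsR⟩, r₁, r₁ * ⟨s, hsR⟩] i) fun r => ?_
      by_cases hr : ι r ∈ Subgroup.center S.F
      · rcases hcent r hr with h | h
        · exact ⟨0, h.symm⟩
        · exact ⟨1, Subtype.ext h.symm⟩
      · have hsqs : ∀ r : R, ι r ∉ Subgroup.center S.F → ι r * ι r = ι ⟨s, hsR⟩ := by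
          intro r hr
          have h1 : ι (r * r) ∈ Subgroup.center S.F := by rw [map_mul]; exact hT.sq_center _
          rcases hcent _ h1 with h | h
          · exact absurd (hT.mem_center_F.mpr (by rw [← map_mul, h, map_one])) hr
          · rw [← map_mul]; exact congrArg ι (Subtype.ext h)
        have h1 := hT.sq_inj hsq ((hsqs r₁ hr₁).trans (hsqs r hr).symm)
        rw [← map_inv, ← map_mul] at h1
        rcases hcent _ h1 with h | h
        · exact ⟨2, (inv_mul_eq_one.mp h)⟩
        · refine ⟨3, show r₁ * ⟨s, hsR⟩ = r from ?_⟩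
          rw [← (Subtype.ext h : r₁⁻¹ * r = ⟨s, hsR⟩), mul_inv_cancel_left]
  have h2R : 2 ∣ Nat.card R := by
    have := Subgroup.orderOf_dvd_natCard R hsR
    rwa [hs] at this
  obtain ⟨k, hk⟩ := IsPGroup.iff_card.mp (hT.two.of_injective ι hι)
  refine ⟨Nat.card R, ?_, ?_, hcard⟩
  · rcases k with _ | _ | _ | k
    · rw [hk] at h2R; norm_num at h2R
    · exact Or.inl hk
    · exact Or.inr hk
    · exfalso
      have : 2 ^ 3 ≤ 2 ^ (k + 3) := Nat.pow_le_pow_right (by norm_num) (by omega)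
      rw [hk, show k + 1 + 1 + 1 = k + 3 by omega] at hle
      omega
  · letI : MulAction R {y : A // y ≠ 1} :=
      { smul := fun r y => ⟨⟨(r : G) * (y.1 : G) * (r : G)⁻¹,
          (Subgroup.mem_normalizer_iff.mp r.2.1 _).mp y.1.2⟩, fun e =>
            y.2 (Subtype.ext (conj_eq_one_iff.mp (congrArg Subtype.val e)))⟩
        one_smul := fun y => Subtype.ext (Subtype.ext (by
          show ((1 : R) : G) * (y.1 : G) * ((1 : R) : G)⁻¹ = y.1; simp))
        mul_smul := fun r r' y => Subtype.ext (Subtype.ext (by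
          show ((r * r' : R) : G) * (y.1 : G) * ((r * r' : R) : G)⁻¹ =
            (r : G) * ((r' : G) * (y.1 : G) * (r' : G)⁻¹) * (r : G)⁻¹
          simp [mul_assoc])) }
    have h := card_dvd_of_free (R := R) (T := {y : A // y ≠ 1}) fun r y hr => Subtype.ext ?_
    · letI := Fintype.ofFinite A
      rwa [Nat.card_eq_fintype_card (α := {y : A // y ≠ 1}), Fintype.card_subtype_compl,
        Fintype.card_subtype_eq, ← Nat.card_eq_fintype_card] at h
    · have e : (r : G) * (y.1 : G) * (r : G)⁻¹ = y.1 :=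
        congrArg (fun w : {y : A // y ≠ 1} => (w.1 : G)) hr
      have hmem : (r : G) ∈ Subgroup.centralizer ({(y.1 : G)} : Set G) :=
        Subgroup.mem_centralizer_singleton_iff.mpr (mul_inv_eq_iff_eq_mul.mp e)
      rw [(hT.centralizer_eq hx y.1.2 fun e' => y.2 (Subtype.ext e')).2] at hmem
      exact hAR _ hmem r.2

/-- A Sylow subgroup meeting the centraliser lies in it. -/
theorem sylow_le {x : G} (hx : IsSR Ω x) {p : ℕ} [Fact p.Prime] (P : Sylow p G) {y : G}
    (hyP : y ∈ P) (hy : y ∈ Subgroup.centralizer ({x} : Set G)) (hy1 : y ≠ 1) :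
    (P : Subgroup G) ≤ Subgroup.centralizer ({x} : Set G) := by
  haveI : Nontrivial P := ⟨⟨y, hyP⟩, 1, fun e => hy1 (congrArg Subtype.val e)⟩
  haveI := P.isPGroup'.center_nontrivial
  obtain ⟨z, hz⟩ := exists_ne (1 : Subgroup.center P)
  have hz1 : ((z : P) : G) ≠ 1 := fun e => hz (Subtype.ext (Subtype.ext e))
  have hzA : ((z : P) : G) ∈ Subgroup.centralizer ({x} : Set G) := by
    rw [← (hT.centralizer_eq hx hy hy1).2, Subgroup.mem_centralizer_singleton_iff]
    exact (congrArg Subtype.val (Subgroup.mem_center_iff.mp z.2 ⟨y, hyP⟩)).symm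
  intro w hw
  rw [← (hT.centralizer_eq hx hzA hz1).2, Subgroup.mem_centralizer_singleton_iff]
  exact congrArg Subtype.val (Subgroup.mem_center_iff.mp z.2 ⟨w, hw⟩)

/-- An element of prime order dividing the order of the centraliser is conjugate into it. -/
theorem conj_mem_centralizer {x : G} (hx : IsSR Ω x) {p : ℕ} [Fact p.Prime]
    (hp : p ∣ Nat.card (Subgroup.centralizer ({x} : Set G))) {y : G} (hy : orderOf y = p) :
    ∃ g : G, g * y * g⁻¹ ∈ Subgroup.centralizer ({x} : Set G) := by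
  obtain ⟨⟨x', hx'⟩, ho⟩ := exists_prime_orderOf_dvd_card'
    (G := Subgroup.centralizer ({x} : Set G)) p hp
  rw [Subgroup.orderOf_mk] at ho
  have hz : ∀ z : G, orderOf z = p → IsPGroup p (Subgroup.zpowers z) := fun z hz =>
    IsPGroup.of_card (n := 1) (by rw [Nat.card_zpowers, hz, pow_one])
  obtain ⟨P, hP⟩ := (hz x' ho).exists_le_sylow
  obtain ⟨Q, hQ⟩ := (hz y hy).exists_le_sylow
  have hle := hT.sylow_le hx P (hP (Subgroup.mem_zpowers x')) hx'
    fun e => (Fact.out : p.Prime).one_lt.ne (by rw [← ho, e, orderOf_one])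
  obtain ⟨g, rfl⟩ := MulAction.exists_smul_eq G Q P
  exact ⟨g, hle (Subgroup.smul_mem_pointwise_smul _ (MulAut.conj g) _ (hQ (Subgroup.mem_zpowers y)))⟩

end IsTwoKernel

end Setup

end CfsgLib.Perm.ZGroup
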