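import Cfsg.Agent.Lib.Perm.ZGroup.Basic

/-!
# A normal complement in a Zassenhaus group

A homomorphism of the two-point stabiliser onto the order of its `q`-part which is invariant under
the swapping element extends by transfer; its kernel is a normal subgroup of `q`-power index
containing the regular normal subgroup of the point stabiliser.
-/

set_option autoImplicit false

namespace CfsgLib.Perm.ZGroup

open MulAction

theorem transfer_eq_pow {G A : Type*} [Group G] [Finite G] [CommGroup A] {H : Subgroup G}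
    (φ : H →* A) (hinv : ∀ (x y : H) (g : G), g * x * g⁻¹ = (y : G) → φ y = φ x) (x : H) :
    MonoidHom.transfer φ (x : G) = φ x ^ H.index := by
  classical
  cases nonempty_fintype (G ⧸ H)
  letI : Fintype (Quotient (orbitRel (Subgroup.zpowers (x : G)) (G ⧸ H))) := Fintype.ofFinite _
  have hmem : ∀ (k : ℕ) (g₀ : G), g₀⁻¹ * (x : G) ^ k * g₀ ∈ H →
      ∀ h : g₀⁻¹ * (x : G) ^ k * g₀ ∈ H, φ ⟨_, h⟩ = φ x ^ k := by
    intro k g₀ _ h
    rw [← map_pow]
    exact hinv (x ^ k) ⟨_, h⟩ g₀⁻¹ (by simp)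
  rw [MonoidHom.transfer_eq_prod_quotient_orbitRel_zpowers_quot,
    Finset.prod_congr rfl fun q _ => hmem _ q.out.out
      (QuotientGroup.out_conj_pow_minimalPeriod_mem H (x : G) q.out)
      (QuotientGroup.out_conj_pow_minimalPeriod_mem H (x : G) q.out),
    Finset.prod_pow_eq_pow_sum]
  congr 1
  rw [Subgroup.index, Nat.card_eq_fintype_card,
    Fintype.card_congr (selfEquivSigmaOrbits (Subgroup.zpowers (x : G)) (G ⧸ H)), Fintype.card_sigma]
  exact Finset.sum_congr rfl fun q _ => minimalPeriod_eq_card (x : G) q.out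

variable {G Ω : Type*} [Group G] [Finite G] [MulAction G Ω] [Fintype Ω] {a b : Ω}

theorem Setup.coprime_index (S : Setup G Ω a b) {q : ℕ} (hq : q.Prime) (hq2 : q ≠ 2)
    (hqd : q ∣ Nat.card S.H) : ¬ q ∣ (Nat.card S.F + 1) * Nat.card S.F := by
  intro h
  have h1 : q ∣ Nat.card S.F - 1 := hqd.trans S.card_H_dvd
  have := S.two_le_F
  rcases hq.dvd_mul.mp h with h2 | h2
  · have h3 := Nat.dvd_sub h2 h1
    rw [show Nat.card S.F + 1 - (Nat.card S.F - 1) = 2 by omega] at h3
    exact hq2 ((Nat.prime_dvd_prime_iff_eq hq Nat.prime_two).mp h3)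
  · have h3 := Nat.dvd_sub h2 h1
    rw [show Nat.card S.F - (Nat.card S.F - 1) = 1 by omega] at h3
    exact hq.not_dvd_one h3

theorem Setup.exists_complement (S : Setup G Ω a b) {t : G} (hta : t • a = b) (htb : t • b = a)
    {q : ℕ} (hq : q.Prime) (hq2 : q ≠ 2) (hqd : q ∣ Nat.card S.H) {A : Type*} [CommGroup A]
    (μ : S.H →* A) (hinv : ∀ x : S.H, μ ⟨_, S.swap_conj_mem hta htb x.2⟩ = μ x)
    (hcard : Nat.card μ.range = q ^ (Nat.card S.H).factorization q) :
    ∃ N : Subgroup G, N.Normal ∧ N.index = q ^ (Nat.card G).factorization q ∧ S.F ≤ N ∧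
      Nat.card ↥(N ⊓ S.H : Subgroup G) * q ^ (Nat.card S.H).factorization q = Nat.card S.H := by
  classical
  haveI : Fact q.Prime := ⟨hq⟩
  let φ : S.H →* μ.range := μ.rangeRestrict
  have hφ : ∀ (x y : S.H) (g : G), g * x * g⁻¹ = (y : G) → φ y = φ x := by
    intro x y g hg
    apply Subtype.ext
    show μ y = μ x
    by_cases hx : (x : G) = 1
    · rw [show y = x from Subtype.ext (by rw [← hg, hx, mul_one, mul_inv_cancel])]
    rcases S.fusion_H x.2 hx (hg ▸ y.2) with ⟨h1, h2⟩ | ⟨h1, h2⟩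
    · rw [show y = ⟨g, h1, h2⟩ * x * (⟨g, h1, h2⟩ : S.H)⁻¹ from Subtype.ext hg.symm, map_mul,
        map_mul, map_inv, mul_comm (μ _) (μ x), mul_inv_cancel_right]
    · have hk : t⁻¹ * g ∈ S.H :=
        ⟨by show (t⁻¹ * g) • a = a; rw [mul_smul, h1, inv_smul_eq_iff, hta],
         by show (t⁻¹ * g) • b = b; rw [mul_smul, h2, inv_smul_eq_iff, htb]⟩
      have e : y = ⟨_, S.swap_conj_mem hta htb
          ((⟨t⁻¹ * g, hk⟩ * x * (⟨t⁻¹ * g, hk⟩ : S.H)⁻¹ : S.H)).2⟩ := Subtype.ext (by
        show (y : G) = t * (t⁻¹ * g * x * (t⁻¹ * g)⁻¹) * t⁻¹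
        rw [← hg]; group)
      rw [e, hinv, map_mul, map_mul, map_inv, mul_comm (μ _) (μ x), mul_inv_cancel_right]
  set τ := MonoidHom.transfer φ with hτ
  have hτH : ∀ x : S.H, τ (x : G) = φ x ^ S.H.index := transfer_eq_pow φ hφ
  have hidx : S.H.index = (Nat.card S.F + 1) * Nat.card S.F := by
    have h := S.H.index_mul_card
    rw [S.card_G, ← mul_assoc] at h
    exact Nat.eq_of_mul_eq_mul_right Nat.card_pos h
  have hcop : (Nat.card μ.range).Coprime S.H.index := by
    rw [hcard, hidx]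
    exact Nat.Coprime.pow_left _ (hq.coprime_iff_not_dvd.mpr (S.coprime_index hq hq2 hqd))
  have hsurjH : ∀ y : μ.range, ∃ x : S.H, τ (x : G) = y := by
    intro y
    obtain ⟨z, hz⟩ : ∃ z, z ^ S.H.index = y := (powCoprime hcop).surjective y
    obtain ⟨x, hx⟩ := μ.rangeRestrict_surjective z
    exact ⟨x, by rw [hτH]; show φ x ^ _ = _; rw [show φ x = z from hx, hz]⟩
  have hsurj : Function.Surjective τ := fun y => ⟨_, (hsurjH y).choose_spec⟩
  have hG : (Nat.card G).factorization q = (Nat.card S.H).factorization q := by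
    rw [S.card_G, ← mul_assoc, Nat.factorization_mul (mul_ne_zero (Nat.succ_ne_zero _) Nat.card_pos.ne') Nat.card_pos.ne',
      Finsupp.add_apply, Nat.factorization_eq_zero_of_not_dvd (S.coprime_index hq hq2 hqd), zero_add]
  refine ⟨τ.ker, inferInstance, ?_, fun u hu => ?_, ?_⟩
  · rw [Subgroup.index_ker, MonoidHom.range_eq_top.mpr hsurj, Subgroup.card_top, hcard, hG]
  · rw [MonoidHom.mem_ker]
    have h1 : τ u ^ Nat.card S.F = 1 := by
      rw [← map_pow, show u ^ Nat.card S.F = 1 from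
        congrArg Subtype.val (pow_card_eq_one' (x := (⟨u, hu⟩ : S.F))), map_one]
    have h2 : τ u ^ Nat.card μ.range = 1 := pow_card_eq_one'
    have h3 : (Nat.card S.F).Coprime (Nat.card μ.range) := by
      rw [hcard]
      exact Nat.Coprime.pow_right _ (Nat.coprime_comm.mp (hq.coprime_iff_not_dvd.mpr fun h =>
        S.coprime_index hq hq2 hqd (dvd_mul_of_dvd_right h _)))
    have h4 := pow_gcd_eq_one.mpr ⟨h1, h2⟩
    rwa [h3.gcd_eq_one, pow_one] at h4
  · let ψ : S.H →* μ.range := τ.comp S.H.subtype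
    have h1 : Nat.card ψ.ker * Nat.card μ.range = Nat.card S.H := by
      rw [← ψ.ker.card_mul_index, Subgroup.index_ker, MonoidHom.range_eq_top.mpr
        (show Function.Surjective ψ from hsurjH), Subgroup.card_top]
    rw [← hcard, ← h1]
    congr 1
    exact Nat.card_congr
      { toFun := fun g => ⟨⟨g.1, g.2.2⟩, g.2.1⟩
        invFun := fun g => ⟨g.1.1, g.2, g.1.2⟩
        left_inv := fun _ => rfl
        right_inv := fun _ => rfl }

end CfsgLib.Perm.ZGroup
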