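import Cfsg.Agent.Lib.Perm.ZGroup.OddKernel
import Cfsg.Agent.Lib.Solvable.ZassenhausOdd
import Cfsg.Agent.Lib.RankOne.SuzukiTwoOrder

/-!
# Simple Zassenhaus groups whose kernel is a non-abelian `2`-group

The kernel is a Suzuki 2-group: its involutions are central and permuted regularly by the
two-point stabiliser, whose order is `q - 1` for `q` the order of the centre.
-/

set_option autoImplicit false

namespace CfsgLib.Perm.ZGroup

open MulAction CfsgLib.RankOne CfsgLib.Solvable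

universe u v

variable {G : Type u} {Ω : Type v} [Group G] [Finite G] [MulAction G Ω] [Fintype Ω] {a b : Ω}

namespace Setup

variable (S : Setup G Ω a b)

/-- The kernel is a non-abelian `2`-group. -/
structure IsTwoKernel : Prop where
  two : IsPGroup 2 S.F
  nonab : ¬ IsMulCommutative S.F

variable {S}

namespace IsTwoKernel

variable (hT : S.IsTwoKernel)
include hT

theorem exists_pow : ∃ M : ℕ, 1 ≤ M ∧ Nat.card S.F = 2 ^ M := by
  haveI : Fact (Nat.Prime 2) := ⟨Nat.prime_two⟩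
  obtain ⟨M, hM⟩ := IsPGroup.iff_card.mp hT.two
  refine ⟨M, Nat.pos_of_ne_zero fun h => ?_, hM⟩
  have := S.two_le_F
  rw [hM, h] at this
  norm_num at this

theorem even_F : Even (Nat.card S.F) := by
  obtain ⟨M, h1, h2⟩ := hT.exists_pow
  exact h2 ▸ (Nat.even_pow.mpr ⟨even_two, by omega⟩)

theorem odd_H : Odd (Nat.card S.H) := by
  obtain ⟨c, hc⟩ := S.card_H_dvd
  obtain ⟨j, hj⟩ := hT.even_F
  have := S.two_le_F
  exact Nat.Odd.of_mul_left (n := c) (hc ▸ ⟨j - 1, by omega⟩)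

theorem odd_Ω : Odd (Fintype.card Ω) := S.card_F ▸ hT.even_F.add_one

theorem exists_noncomm : ∃ x y : S.F, x * y ≠ y * x := by
  by_contra h
  push Not at h
  exact hT.nonab ⟨⟨h⟩⟩

variable [IsSimpleGroup G]

theorem swap (s : G) (hsa : s • a = b) (hsb : s • b = a) : ∀ h ∈ S.H, s * h * s⁻¹ = h⁻¹ :=
  ZassenhausOdd.swap_inverts S.hZ S.hab hT.odd_H s hsa hsb

theorem comm_H' (x y : S.H) : x * y = y * x := by
  obtain ⟨t, -, hta, htb⟩ := S.exists_involution
  exact S.comm_H hta htb (hT.swap t hta htb) x y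

theorem isCyclic_H' : IsCyclic S.H := S.isCyclic_H hT.comm_H'

/-- An involution fixes exactly one point. -/
theorem invol_unique {s : G} (hs : orderOf s = 2) :
    ∃ c : Ω, s • c = c ∧ ∀ y : Ω, s • y = y → y = c := by
  have h := ZassenhausOdd.involution_fixed S.hZ S.hab hT.odd_H hs
  rw [if_pos hT.odd_Ω, Nat.card_eq_one_iff_unique] at h
  obtain ⟨hsub, ⟨⟨c, hc⟩⟩⟩ := h
  exact ⟨c, hc, fun y hy => congrArg Subtype.val
    (hsub.elim (⟨y, hy⟩ : fixedBy Ω s) ⟨c, hc⟩)⟩

/-- An involution of the point stabiliser lies in the kernel. -/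
theorem invol_mem_F {s : G} (hs : orderOf s = 2) (hsa : s • a = a) : s ∈ S.F := by
  by_contra hsF
  obtain ⟨y, hy, hsy⟩ := S.exists_fixed hsa hsF
  obtain ⟨c, -, hc⟩ := hT.invol_unique hs
  exact hy ((hc y hsy).trans (hc a hsa).symm)

/-- The involutions of the kernel are central in it. -/
theorem invol_central {s : G} (hs : orderOf s = 2) (hsF : s ∈ S.F) {u : G} (hu : u ∈ S.F) :
    s * u = u * s := by
  haveI : Fact (Nat.Prime 2) := ⟨Nat.prime_two⟩
  obtain ⟨M, hM1, hM⟩ := hT.exists_pow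
  haveI : Nontrivial S.F := by
    rw [← Finite.one_lt_card_iff_nontrivial]
    exact S.two_le_F
  haveI := hT.two.center_nontrivial
  obtain ⟨n, hn, hc⟩ := (hT.two.to_subgroup (Subgroup.center S.F)).nontrivial_iff_card.mp inferInstance
  obtain ⟨⟨z, hz⟩, ho⟩ := exists_prime_orderOf_dvd_card' (G := Subgroup.center S.F) 2
    (hc ▸ dvd_pow_self 2 hn.ne')
  rw [Subgroup.orderOf_mk, ← Subgroup.orderOf_coe] at ho
  obtain ⟨g, hg⟩ := isConj_iff.mp (ZassenhausOdd.involutions_conj S.hZ S.hab hT.odd_H ho hs)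
  have hz1 : (z : G) ≠ 1 := fun e => by rw [e, orderOf_one] at ho; norm_num at ho
  have hga : g • a = a := S.smul_a_of_conj z.2 hz1 (hg ▸ hsF)
  have hw : g⁻¹ * u * g⁻¹⁻¹ ∈ S.F := S.F_conj (inv_smul_eq_iff.mpr hga.symm) hu
  have hc' : (g⁻¹ * u * g⁻¹⁻¹) * (z : G) = (z : G) * (g⁻¹ * u * g⁻¹⁻¹) :=
    congrArg Subtype.val (Subgroup.mem_center_iff.mp hz ⟨_, hw⟩)
  rw [← hg]
  calc g * (z : G) * g⁻¹ * u = g * ((z : G) * (g⁻¹ * u * g⁻¹⁻¹)) * g⁻¹ := by group
    _ = g * ((g⁻¹ * u * g⁻¹⁻¹) * (z : G)) * g⁻¹ := by rw [hc']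
    _ = u * (g * (z : G) * g⁻¹) := by group

/-- The two-point stabiliser is transitive on the involutions of the kernel. -/
theorem invol_trans {s s' : G} (hs : orderOf s = 2) (hsF : s ∈ S.F) (hs' : orderOf s' = 2)
    (hs'F : s' ∈ S.F) : ∃ h ∈ S.H, h * s * h⁻¹ = s' := by
  obtain ⟨g, hg⟩ := isConj_iff.mp (ZassenhausOdd.involutions_conj S.hZ S.hab hT.odd_H hs hs')
  have hga : g • a = a := S.smul_a_of_conj hsF (fun e => by rw [e, orderOf_one] at hs; norm_num at hs)
    (hg ▸ hs'F)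
  obtain ⟨u, hu, h, hh, rfl⟩ := S.exists_mul hga
  refine ⟨h, hh, ?_⟩
  have hc := hT.invol_central (s := h * s * h⁻¹)
    (by rw [← MulAut.conj_apply, MulEquiv.orderOf_eq, hs]) (S.F_conj hh.1 hsF) hu
  rw [← hg]
  calc h * s * h⁻¹ = (u * (h * s * h⁻¹)) * u⁻¹ * 1 := by rw [← hc]; group
    _ = _ := by group

/-- The centraliser of an involution of the kernel is the kernel. -/
theorem centralizer_invol {s : G} (hs : orderOf s = 2) (hsF : s ∈ S.F) :
    Subgroup.centralizer ({s} : Set G) = S.F :=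
  le_antisymm (S.centralizer_F_le hsF fun e => by rw [e, orderOf_one] at hs; norm_num at hs)
    fun u hu => Subgroup.mem_centralizer_singleton_iff.mpr (hT.invol_central hs hsF hu).symm

end IsTwoKernel

/-- Conjugation on the kernel. -/
def conjF (S : Setup G Ω a b) : S.H →* MulAut S.F where
  toFun h :=
    { toFun := S.cF h
      invFun := S.cF h⁻¹
      left_inv := fun u => Subtype.ext (by simp only [S.cF_coe, Subgroup.coe_inv]; group)
      right_inv := fun u => Subtype.ext (by simp only [S.cF_coe, Subgroup.coe_inv]; group)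
      map_mul' := map_mul _ }
  map_one' := MulEquiv.ext fun u => Subtype.ext (by
    show (S.cF 1 u : G) = _
    rw [S.cF_coe]; simp)
  map_mul' h k := MulEquiv.ext fun u => (S.cF_cF h k u).symm

theorem conjF_coe (S : Setup G Ω a b) (h : S.H) (u : S.F) :
    (S.conjF h u : G) = h * u * (h : G)⁻¹ := rfl

namespace IsTwoKernel

variable (hT : S.IsTwoKernel) [IsSimpleGroup G]
include hT

theorem orderOf_two {z : S.F} (hz1 : z ≠ 1) (hz : z * z = 1) : orderOf (z : G) = 2 := by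
  rw [Subgroup.orderOf_coe]
  exact orderOf_eq_prime (by rw [pow_two, hz]) hz1

theorem trans : ∀ x y : S.F, x ≠ 1 → x * x = 1 → y ≠ 1 → y * y = 1 → ∃ h : S.H, S.conjF h x = y :=
  fun x y hx1 hx hy1 hy => by
  obtain ⟨h, hh, he⟩ := hT.invol_trans (hT.orderOf_two hx1 hx) x.2 (hT.orderOf_two hy1 hy) y.2
  exact ⟨⟨h, hh⟩, Subtype.ext he⟩

theorem exists_invol : ∃ z : S.F, z ≠ 1 ∧ z * z = 1 := by
  haveI : Fact (Nat.Prime 2) := ⟨Nat.prime_two⟩
  obtain ⟨M, hM1, hM⟩ := hT.exists_pow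
  obtain ⟨z, hz⟩ := exists_prime_orderOf_dvd_card' (G := S.F) 2 (hM ▸ dvd_pow_self 2 (by omega))
  exact ⟨z, fun e => by rw [e, orderOf_one] at hz; norm_num at hz,
    by rw [← pow_two, ← hz, pow_orderOf_eq_one]⟩

/-- The two-point stabiliser is regular on the involutions of the kernel. -/
theorem card_invol : Nat.card {z : S.F // z ≠ 1 ∧ z * z = 1} = Nat.card S.H := by
  obtain ⟨z₀, hz₀, hz₀'⟩ := hT.exists_invol
  refine (Nat.card_congr (Equiv.ofBijective (fun h : S.H => (⟨S.conjF h z₀,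
    fun e => hz₀ ((MulEquiv.map_eq_one_iff _).mp e), by rw [← map_mul, hz₀', map_one]⟩ :
      {z : S.F // z ≠ 1 ∧ z * z = 1})) ⟨fun h k e => ?_, fun z => ?_⟩)).symm
  · have e' : S.conjF h z₀ = S.conjF k z₀ := congrArg Subtype.val e
    refine (inv_mul_eq_one.mp (Subtype.ext ?_ : k⁻¹ * h = 1)).symm
    refine S.eq_one_of_conj_eq (k⁻¹ * h).2 z₀.2 (fun e1 => hz₀ (Subtype.ext e1))
      (congrArg Subtype.val (show S.conjF (k⁻¹ * h) z₀ = z₀ from ?_))
    rw [map_mul, MulAut.mul_apply, e', ← MulAut.mul_apply, ← map_mul, inv_mul_cancel, map_one,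
      MulAut.one_apply]
  · obtain ⟨h, he⟩ := hT.trans z₀ z.1 hz₀ hz₀' z.2.1 z.2.2
    exact ⟨h, Subtype.ext he⟩

theorem exists_two : ∃ x y : S.F, x ≠ y ∧ x ≠ 1 ∧ x * x = 1 ∧ y ≠ 1 ∧ y * y = 1 := by
  have h := S.one_lt_H
  rw [← hT.card_invol, Finite.one_lt_card_iff_nontrivial] at h
  obtain ⟨x, y, hxy⟩ := h.exists_pair_ne
  exact ⟨x.1, y.1, fun e => hxy (Subtype.ext e), x.2.1, x.2.2, y.2.1, y.2.2⟩

/-- The centre consists of one and the involutions. -/
theorem mem_center_F {x : S.F} : x ∈ Subgroup.center S.F ↔ x * x = 1 := by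
  letI : CommGroup S.H := { (inferInstance : Group S.H) with mul_comm := hT.comm_H' }
  exact SuzukiTwoExp.mem_center_iff' (φ := S.conjF) hT.two hT.trans hT.exists_noncomm

/-- Squares are central. -/
theorem sq_center (u : S.F) : u * u ∈ Subgroup.center S.F := by
  letI : CommGroup S.H := { (inferInstance : Group S.H) with mul_comm := hT.comm_H' }
  exact SuzukiTwoExp.sq_mem_center (φ := S.conjF) hT.two hT.trans hT.exists_noncomm hT.exists_two u

theorem card_center : Nat.card (Subgroup.center S.F) = Nat.card S.H + 1 := by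
  classical
  letI := Fintype.ofFinite (Subgroup.center S.F)
  letI := Fintype.ofFinite S.F
  let e : {z : S.F // z ≠ 1 ∧ z * z = 1} ≃ {z : Subgroup.center S.F // z ≠ 1} :=
    { toFun := fun z => ⟨⟨z.1, hT.mem_center_F.mpr z.2.2⟩, fun e => z.2.1 (congrArg Subtype.val e)⟩
      invFun := fun z => ⟨z.1.1, fun e => z.2 (Subtype.ext e), hT.mem_center_F.mp z.1.2⟩
      left_inv := fun _ => rfl
      right_inv := fun _ => rfl }
  rw [← hT.card_invol, Nat.card_congr e, Nat.card_eq_fintype_card, Nat.card_eq_fintype_card,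
    Fintype.card_subtype_compl, Fintype.card_subtype_eq]
  have : 0 < Fintype.card (Subgroup.center S.F) := Fintype.card_pos
  omega

/-- The order of the centre is `q = d + 1 = 2 ^ m`, the kernel has order `q ^ 2` or `q ^ 3`. -/
theorem exists_q : ∃ m : ℕ, 2 ≤ m ∧ Nat.card S.H + 1 = 2 ^ m ∧
    (Nat.card S.F = (2 ^ m) ^ 2 ∨ Nat.card S.F = (2 ^ m) ^ 3) := by
  haveI : Fact (Nat.Prime 2) := ⟨Nat.prime_two⟩
  letI : CommGroup S.H := { (inferInstance : Group S.H) with mul_comm := hT.comm_H' }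
  obtain ⟨m, hm⟩ := IsPGroup.iff_card.mp (hT.two.to_subgroup (Subgroup.center S.F))
  have h := SuzukiTwoOrder.card_eq (φ := S.conjF) hT.two hT.trans hT.exists_noncomm hT.exists_two
  rw [hm] at h
  refine ⟨m, ?_, by rw [← hm, hT.card_center], h⟩
  have h1 := S.one_lt_H
  have h2 := hT.card_center
  rw [hm] at h2
  by_contra hlt
  have : 2 ^ m ≤ 2 ^ 1 := Nat.pow_le_pow_right (by norm_num) (by omega)
  omega

/-- Every involution of the kernel is a square. -/
theorem exists_sqrt' {z : S.F} (hz1 : z ≠ 1) (hz : z * z = 1) : ∃ u : S.F, u * u = z := by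
  obtain ⟨x, y, hxy⟩ := hT.exists_noncomm
  have hx : x * x ≠ 1 := fun e =>
    hxy (Subgroup.mem_center_iff.mp (hT.mem_center_F.mpr e) y).symm
  obtain ⟨h, he⟩ := hT.trans (x * x) z hx (hT.mem_center_F.mp (hT.sq_center x)) hz1 hz
  exact ⟨S.conjF h x, by rw [← map_mul]; exact he⟩

end IsTwoKernel

end Setup

end CfsgLib.Perm.ZGroup
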